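import Cfsg.Agent.ClassTwoFusion.Quad
import Cfsg.Agent.MinSimple.Basic
import Cfsg.Agent.Lib.ProductSet
import Cfsg.Agent.MinSimple.VModule
import Cfsg.Agent.Involutions.BaerSuzuki

section


/-!
# No over-offenders (OMEGA, NO-3, (ML); #12842 of helper114, fill-ins #13080 of helper456); K-free

`H` acts on the finite group `M` (no commutativity needed), `fo M A = |A| |C_M(A)|`; `Q` is an abelian subgroup of `H`.

* `fo_mul_le` : `f(A) f(B) ≤ f(A B) f(A ∩ B)`;
* `exists_min` : if some `A ≤ Q` satisfies `f(A) > |M|` (an over-offender) there is a unique smallest subgroup `A* ≤ Q`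
  with the maximal value of `f` (`Star`), it is normalised by `N_H(Q)` and nontrivial; `Star.lt` : for `B < A*`
  `|C_M(B) : C_M(A*)| < |A* : B|`;
* `Star.le_core` : `T` a Sylow 2-subgroup with `A* ≤ T`, `P` a minimal parabolic over `T` moving `C_M(T)`, such that
  the offenders in `T` on `⟨C_M(T)^P⟩` are not over-offenders (`FFIn`, the input): `A*` lies in all `T^p`, `p ∈ P`;
* `Star.le_conj` : the same for `X_T`, the group generated by these minimal parabolics;
* `no_over` : if for all Sylow 2-subgroups `⟨X_T, N_H(T)⟩ = H`, and `O₂(H) = 1`, then there is no over-offender.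
-/

set_option autoImplicit false

namespace Cfsg.Agent.Omega.NOThree.NoOver

open Subgroup Cfsg.Agent.ClassTwoFusion.Quad Cfsg.Agent.MinSimple.MinParabolic
open scoped Pointwise

variable {H : Type*} [Group H] {M : Type*} [Group M] [MulDistribMulAction H M]

/-! ### The function `f` -/

variable (M) in
/-- `f(A) = |A| |C_M(A)|` -/
noncomputable def fo (A : Subgroup H) : ℕ := Nat.card A * Nat.card (cv M (A : Set H))

theorem cv_bot : cv M ((⊥ : Subgroup H) : Set H) = ⊤ := by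
  rw [eq_top_iff]
  intro v _ a ha
  rw [SetLike.mem_coe, mem_bot] at ha
  rw [ha, one_smul]

theorem fo_bot : fo M (⊥ : Subgroup H) = Nat.card M := by
  rw [fo, cv_bot, card_bot, one_mul, Nat.card_congr Subgroup.topEquiv.toEquiv]

theorem cv_sup (A B : Subgroup H) : cv M ((A ⊔ B : Subgroup H) : Set H) = cv M (A : Set H) ⊓ cv M (B : Set H) := by
  apply le_antisymm
  · exact le_inf (cv_anti (SetLike.coe_subset_coe.2 le_sup_left)) (cv_anti (SetLike.coe_subset_coe.2 le_sup_right))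
  · rintro v ⟨h1, h2⟩
    have h3 : A ⊔ B ≤ MulAction.stabilizer H v :=
      sup_le (fun a ha => MulAction.mem_stabilizer_iff.2 (h1 a ha)) (fun b hb => MulAction.mem_stabilizer_iff.2 (h2 b hb))
    exact fun x hx => MulAction.mem_stabilizer_iff.1 (h3 hx)

theorem card_mul_le {G : Type*} [Group G] [Finite G] (X Y Z : Subgroup G) (hX : X ≤ Z) (hY : Y ≤ Z) :
    Nat.card X * Nat.card Y ≤ Nat.card (X ⊓ Y : Subgroup G) * Nat.card Z := by
  rw [← Cfsg.Agent.Lib.ProductSet.card_mul_card_inf X Y, mul_comm]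
  refine Nat.mul_le_mul_left _ ?_
  have h1 : ((X : Set G) * (Y : Set G) : Set G) ⊆ (Z : Set G) := by
    rintro _ ⟨x, hx, y, hy, rfl⟩
    exact Z.mul_mem (hX hx) (hY hy)
  exact Nat.card_mono (Set.toFinite _) h1

theorem card_sup_mul {G : Type*} [Group G] (X Y : Subgroup G) (h : X ≤ normalizer (Y : Set G)) :
    Nat.card (X ⊔ Y : Subgroup G) * Nat.card (X ⊓ Y : Subgroup G) = Nat.card X * Nat.card Y := by
  rw [← Cfsg.Agent.Lib.ProductSet.card_mul_card_inf X Y]
  congr 1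
  exact Nat.card_congr (Equiv.setCongr (Subgroup.coe_mul_of_left_le_normalizer_right X Y h))

theorem fo_mul_le [Finite H] [Finite M] {A B : Subgroup H} (h : A ≤ normalizer (B : Set H)) :
    fo M A * fo M B ≤ fo M (A ⊔ B) * fo M (A ⊓ B) := by
  have h1 := card_sup_mul A B h
  have h2 := card_mul_le (cv M (A : Set H)) (cv M (B : Set H)) (cv M ((A ⊓ B : Subgroup H) : Set H))
    (cv_anti (SetLike.coe_subset_coe.2 inf_le_left)) (cv_anti (SetLike.coe_subset_coe.2 inf_le_right))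
  rw [← cv_sup] at h2
  unfold fo
  calc Nat.card A * Nat.card (cv M (A : Set H)) * (Nat.card B * Nat.card (cv M (B : Set H)))
      = (Nat.card A * Nat.card B) * (Nat.card (cv M (A : Set H)) * Nat.card (cv M (B : Set H))) := by ring
    _ ≤ (Nat.card A * Nat.card B) * (Nat.card (cv M ((A ⊔ B : Subgroup H) : Set H)) *
          Nat.card (cv M ((A ⊓ B : Subgroup H) : Set H))) := Nat.mul_le_mul_left _ h2
    _ = _ := by rw [← h1]; ring

/-! ### The smallest subgroup with maximal `f` -/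

variable (M) in
/-- `A` is the smallest subgroup of `Q` with the maximal value of `f`, and it is an over-offender. -/
structure Star (Q A : Subgroup H) : Prop where
  le : A ≤ Q
  ovr : Nat.card M < fo M A
  max : ∀ B ≤ Q, fo M B ≤ fo M A
  min : ∀ B ≤ Q, fo M B = fo M A → A ≤ B

theorem exists_min [Finite H] [Finite M] {Q : Subgroup H} (hQ : ∀ a ∈ Q, ∀ b ∈ Q, a * b = b * a)
    {A₀ : Subgroup H} (hA₀ : A₀ ≤ Q) (hov : Nat.card M < fo M A₀) : ∃ A, Star M Q A := by
  classical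
  have hn : ∀ A ≤ Q, ∀ B ≤ Q, A ≤ normalizer (B : Set H) := by
    intro A hA B hB a ha
    rw [mem_normalizer_iff]
    intro b
    constructor
    · intro hb
      rw [hQ a (hA ha) b (hB hb), mul_inv_cancel_right]
      exact hb
    · intro hb
      have h1 := hQ a (hA ha) _ (hB hb)
      have h2 : a * b * a⁻¹ = b := by
        have h3 : a * (a * b * a⁻¹) * a⁻¹ = a * b * a⁻¹ := by rw [h1]; group
        have h4 : a * b * a⁻¹ = a⁻¹ * (a * (a * b * a⁻¹) * a⁻¹) * a := by group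
        rw [h3] at h4
        have h5 : a⁻¹ * (a * b * a⁻¹) * a = b := by group
        rw [h5] at h4
        exact h4
      rwa [h2] at hb
  -- a member with maximal value of `f`, and of smallest order among these
  obtain ⟨A₁, hA₁, hmax⟩ : ∃ A₁ ≤ Q, ∀ B ≤ Q, fo M B ≤ fo M A₁ := by
    obtain ⟨A₁, h1, h2⟩ := Set.exists_max_image {A : Subgroup H | A ≤ Q} (fun A => fo M A) (Set.toFinite _) ⟨A₀, hA₀⟩
    exact ⟨A₁, h1, fun B hB => h2 B hB⟩
  obtain ⟨A, ⟨hA, hAf⟩, hAmin⟩ := Set.exists_min_image {A : Subgroup H | A ≤ Q ∧ fo M A = fo M A₁}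
    (fun A => Nat.card A) (Set.toFinite _) ⟨A₁, hA₁, rfl⟩
  have hpos : 0 < fo M A := Nat.mul_pos Nat.card_pos Nat.card_pos
  refine ⟨A, hA, ?_, fun B hB => (hmax B hB).trans hAf.ge, ?_⟩
  · rw [hAf]
    exact hov.trans_le (hmax A₀ hA₀)
  · intro B hB hBf
    have h1 := fo_mul_le (M := M) (hn A hA B hB)
    rw [hBf] at h1
    have h2 : fo M (A ⊔ B) ≤ fo M A := (hmax _ (sup_le hA hB)).trans hAf.ge
    have h3 : fo M (A ⊓ B) ≤ fo M A := (hmax _ (inf_le_left.trans hA)).trans hAf.ge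
    have h4 : fo M A ≤ fo M (A ⊓ B) := by
      by_contra hlt
      rw [not_le] at hlt
      have h5 : fo M (A ⊔ B) * fo M (A ⊓ B) < fo M A * fo M A :=
        lt_of_le_of_lt (Nat.mul_le_mul_right _ h2) (Nat.mul_lt_mul_of_pos_left hlt hpos)
      exact absurd h1 (not_le.2 h5)
    have h5 := hAmin (A ⊓ B) ⟨inf_le_left.trans hA, (le_antisymm h3 h4).trans hAf⟩
    have h6 : A ⊓ B = A := eq_of_le_of_card_ge inf_le_left h5
    exact inf_eq_left.1 h6

namespace Star

variable {Q A : Subgroup H}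

theorem ne_bot (h : Star M Q A) : A ≠ ⊥ := by
  rintro rfl
  have := h.ovr
  rw [fo_bot] at this
  exact lt_irrefl _ this

theorem map_fo (g : H) (B : Subgroup H) : fo M (B.map (MulAut.conj g).toMonoidHom) = fo M B := by
  rw [fo, fo, QData.cv_map_conj]
  congr 1
  · exact (Nat.card_congr (B.equivMapOfInjective _ (MulAut.conj g).injective).toEquiv).symm
  · exact (Nat.card_congr ((cv M (B : Set H)).equivMapOfInjective _
      (MulDistribMulAction.toMulEquiv M g : M ≃* M).injective).toEquiv).symm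

/-- `N_H(Q)` normalises `A*`. -/
theorem conj_mem [Finite H] (h : Star M Q A) {g : H} (hg : ∀ q ∈ Q, g * q * g⁻¹ ∈ Q) {a : H} (ha : a ∈ A) :
    g * a * g⁻¹ ∈ A := by
  have hsurj : ∀ q ∈ Q, g⁻¹ * q * g ∈ Q := by
    have h1 : Q.map (MulAut.conj g).toMonoidHom ≤ Q := by
      rintro _ ⟨q, hq, rfl⟩
      exact hg q hq
    have h2 : Q.map (MulAut.conj g).toMonoidHom = Q :=
      eq_of_le_of_card_ge h1 (Nat.card_congr (Q.equivMapOfInjective _ (MulAut.conj g).injective).toEquiv).le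
    intro q hq
    rw [← h2] at hq
    obtain ⟨q', hq', rfl⟩ := hq
    have : g⁻¹ * (MulAut.conj g).toMonoidHom q' * g = q' := by
      change g⁻¹ * (g * q' * g⁻¹) * g = q'
      group
    rw [this]
    exact hq'
  have h3 : A.map (MulAut.conj g⁻¹).toMonoidHom ≤ Q := by
    rintro _ ⟨q, hq, rfl⟩
    have := hsurj q (h.le hq)
    change g⁻¹ * q * g⁻¹⁻¹ ∈ Q
    rwa [inv_inv]
  have h4 := h.min _ h3 (map_fo g⁻¹ A) ha
  obtain ⟨b, hb, hab⟩ := h4
  have h5 : g * a * g⁻¹ = b := by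
    rw [← hab]
    change g * (g⁻¹ * b * g⁻¹⁻¹) * g⁻¹ = b
    group
  rw [h5]
  exact hb

/-- `|C_M(B) : C_M(A*)| < |A* : B|` for `B < A*`. -/
theorem lt [Finite H] [Finite M] (h : Star M Q A) {B : Subgroup H} (hB : B < A) :
    (cv M (A : Set H)).relIndex (cv M (B : Set H)) < B.relIndex A := by
  have h1 : fo M B < fo M A := by
    refine lt_of_le_of_ne (h.max B (hB.le.trans h.le)) fun h2 => ?_
    exact absurd (h.min B (hB.le.trans h.le) h2) (not_le_of_gt hB)
  have h3 : B.relIndex A * Nat.card B = Nat.card A := by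
    rw [← Subgroup.card_mul_index (B.subgroupOf A), mul_comm]
    congr 1
    exact (Nat.card_congr (subgroupOfEquivOfLe hB.le).toEquiv).symm
  have h4le : cv M (A : Set H) ≤ cv M (B : Set H) := cv_anti (SetLike.coe_subset_coe.2 hB.le)
  have h4 : (cv M (A : Set H)).relIndex (cv M (B : Set H)) * Nat.card (cv M (A : Set H)) =
      Nat.card (cv M (B : Set H)) := by
    rw [← Subgroup.card_mul_index ((cv M (A : Set H)).subgroupOf (cv M (B : Set H))), mul_comm]
    congr 1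
    exact (Nat.card_congr (subgroupOfEquivOfLe h4le).toEquiv).symm
  unfold fo at h1
  rw [← h3, ← h4] at h1
  have h5 : Nat.card B * Nat.card (cv M (A : Set H)) * (cv M (A : Set H)).relIndex (cv M (B : Set H)) <
      Nat.card B * Nat.card (cv M (A : Set H)) * B.relIndex A := by
    calc _ = Nat.card B * ((cv M (A : Set H)).relIndex (cv M (B : Set H)) * Nat.card (cv M (A : Set H))) := by ring
      _ < _ := h1
      _ = _ := by ring
  exact Nat.lt_of_mul_lt_mul_left h5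

end Star

/-! ### Minimal parabolics -/

variable (M) in
/-- `⟨C_M(T)^P⟩` -/
def mp (T P : Subgroup H) : Subgroup M := closure {m | ∃ p ∈ P, ∃ v ∈ cv M (T : Set H), m = p • v}

theorem le_mp (T P : Subgroup H) : cv M (T : Set H) ≤ mp M T P := fun v hv =>
  subset_closure ⟨1, P.one_mem, v, hv, (one_smul _ _).symm⟩

theorem smul_mem_mp {T P : Subgroup H} {p : H} (hp : p ∈ P) {m : M} (hm : m ∈ mp M T P) : p • m ∈ mp M T P := by
  have h1 : mp M T P ≤ (mp M T P).comap (MulDistribMulAction.toMonoidHom M p) := by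
    rw [mp, closure_le]
    rintro _ ⟨q, hq, v, hv, rfl⟩
    refine subset_closure ⟨p * q, P.mul_mem hp hq, v, hv, ?_⟩
    rw [mul_smul]
    rfl
  exact h1 hm

variable (M) in
/-- the elements fixing `⟨C_M(T)^P⟩` -/
def fx (T P : Subgroup H) : Subgroup H where
  carrier := {x | ∀ m ∈ mp M T P, x • m = m}
  one_mem' := fun m _ => one_smul _ m
  mul_mem' := fun {x y} hx hy m hm => by rw [mul_smul, hy m hm, hx m hm]
  inv_mem' := fun {x} hx m hm => by rw [inv_smul_eq_iff, hx m hm]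

theorem mem_fx {T P : Subgroup H} {x : H} : x ∈ fx M T P ↔ ∀ m ∈ mp M T P, x • m = m := Iff.rfl

theorem mem_fx_iff {T P : Subgroup H} {x : H} :
    x ∈ fx M T P ↔ ∀ p ∈ P, ∀ v ∈ cv M (T : Set H), x • p • v = p • v := by
  constructor
  · intro h p hp v hv
    exact h _ (subset_closure ⟨p, hp, v, hv, rfl⟩)
  · intro h
    have h1 : mp M T P ≤ cv M ({x} : Set H) := by
      rw [mp, closure_le]
      rintro _ ⟨p, hp, v, hv, rfl⟩
      exact mem_cv_singleton.2 (h p hp v hv)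
    exact fun m hm => mem_cv_singleton.1 (h1 hm)

theorem le_normalizer_fx (T P : Subgroup H) : P ≤ normalizer (fx M T P : Set H) := by
  have key : ∀ g ∈ P, ∀ x ∈ fx M T P, g * x * g⁻¹ ∈ fx M T P := by
    intro g hg x hx m hm
    rw [mul_smul, mul_smul, hx _ (smul_mem_mp (P.inv_mem hg) hm), smul_inv_smul]
  intro g hg
  rw [mem_normalizer_iff]
  intro x
  constructor
  · exact key g hg x
  · intro h
    have := key g⁻¹ (P.inv_mem hg) _ h
    have h2 : g⁻¹ * (g * x * g⁻¹) * g⁻¹⁻¹ = x := by group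
    rwa [h2] at this

/-- `⋂ T^p`, `p ∈ P` -/
def core (T P : Subgroup H) : Subgroup H where
  carrier := {x | ∀ p ∈ P, p⁻¹ * x * p ∈ T}
  one_mem' := fun p _ => by simp
  mul_mem' := fun {x y} hx hy p hp => by
    have : p⁻¹ * (x * y) * p = (p⁻¹ * x * p) * (p⁻¹ * y * p) := by group
    rw [this]
    exact T.mul_mem (hx p hp) (hy p hp)
  inv_mem' := fun {x} hx p hp => by
    have : p⁻¹ * x⁻¹ * p = (p⁻¹ * x * p)⁻¹ := by group
    rw [this]
    exact T.inv_mem (hx p hp)

theorem mem_core {T P : Subgroup H} {x : H} : x ∈ core T P ↔ ∀ p ∈ P, p⁻¹ * x * p ∈ T := Iff.rfl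

theorem core_le (T P : Subgroup H) : core T P ≤ T := fun x hx => by simpa using hx 1 P.one_mem

theorem core_le_fx (T P : Subgroup H) : core T P ≤ fx M T P := fun x hx => by
  rw [mem_fx_iff]
  intro p hp v hv
  have h1 : (p⁻¹ * x * p) • v = v := hv _ (hx p hp)
  rw [mul_smul, mul_smul, inv_smul_eq_iff] at h1
  exact h1

theorem conj_mem_core {T P : Subgroup H} {x g : H} (hx : x ∈ core T P) (hg : g ∈ P) : g * x * g⁻¹ ∈ core T P := by
  intro p hp
  have := hx (g⁻¹ * p) (P.mul_mem (P.inv_mem hg) hp)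
  have h2 : (g⁻¹ * p)⁻¹ * x * (g⁻¹ * p) = p⁻¹ * (g * x * g⁻¹) * p := by group
  rwa [h2] at this

theorem le_core_of_normal {T P N : Subgroup H} (hN : N ≤ T) (hn : P ≤ normalizer (N : Set H)) : N ≤ core T P := by
  intro x hx p hp
  have h1 := (mem_normalizer_iff.1 (hn (P.inv_mem hp)) x).1 hx
  rw [inv_inv] at h1
  exact hN h1

variable (M) in
/-- `P` moves `C_M(T)` -/
def Moves (T P : Subgroup H) : Prop := ∃ p ∈ P, ∃ v ∈ cv M (T : Set H), p • v ≠ v

/-- `C_T(⟨C_M(T)^P⟩) ≤ O₂(P)` for a minimal parabolic moving `C_M(T)`. -/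
theorem fx_inf_le [Finite H] {T P : Subgroup H} (hT : IsPGroup 2 T) (hTs : ¬ 2 ∣ T.relIndex P) (hP : IsMinPar T P)
    (hm : Moves M T P) : fx M T P ⊓ T ≤ core T P := by
  set K : Subgroup H := fx M T P ⊓ P with hK
  have hKn : P ≤ normalizer (K : Set H) := by
    intro g hg
    have h1 := le_normalizer_fx (M := M) T P hg
    rw [mem_normalizer_iff] at h1 ⊢
    intro x
    constructor
    · rintro ⟨hx, hx'⟩
      exact ⟨(h1 x).1 hx, P.mul_mem (P.mul_mem hg hx') (P.inv_mem hg)⟩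
    · rintro ⟨hx, hx'⟩
      refine ⟨(h1 x).2 hx, ?_⟩
      have h2 : g⁻¹ * (g * x * g⁻¹) * g = x := by group
      rw [← h2]
      exact P.mul_mem (P.mul_mem (P.inv_mem hg) hx') hg
  have hTK : T ⊓ K = fx M T P ⊓ T := by
    apply le_antisymm
    · exact fun x hx => ⟨hx.2.1, hx.1⟩
    · exact fun x hx => ⟨hx.2, hx.1, hP.le hx.2⟩
  have hfr := MinSimple.Basic.frattini hP.le hT hTs hKn
  rw [hTK] at hfr
  set N : Subgroup H := P ⊓ normalizer ((fx M T P ⊓ T : Subgroup H) : Set H) with hN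
  have hTN : T ≤ N := by
    refine le_inf hP.le ?_
    intro t ht
    have h1 := le_normalizer_fx (M := M) T P (hP.le ht)
    rw [mem_normalizer_iff] at h1 ⊢
    intro x
    constructor
    · rintro ⟨hx, hx'⟩
      exact ⟨(h1 x).1 hx, T.mul_mem (T.mul_mem ht hx') (T.inv_mem ht)⟩
    · rintro ⟨hx, hx'⟩
      refine ⟨(h1 x).2 hx, ?_⟩
      have h2 : t⁻¹ * (t * x * t⁻¹) * t = x := by group
      rw [← h2]
      exact T.mul_mem (T.mul_mem (T.inv_mem ht) hx') ht
  obtain ⟨P₀, hP₀, hmax⟩ := hP.exists_max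
  by_cases hNP : N = P
  · have h1 : P ≤ N := hNP.ge
    exact le_core_of_normal inf_le_right (h1.trans inf_le_right)
  exfalso
  have hN0 : N ≤ P₀ := hmax N hTN (lt_of_le_of_ne inf_le_left hNP)
  by_cases hKT : K ⊔ T = P
  · obtain ⟨p, hp, v, hv, hne⟩ := hm
    apply hne
    have h1 : K ⊔ T ≤ MulAction.stabilizer H v := sup_le
      (fun x hx => MulAction.mem_stabilizer_iff.2 (hx.1 v (le_mp T P hv)))
      (fun x hx => MulAction.mem_stabilizer_iff.2 (hv x hx))
    rw [hKT] at h1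
    exact MulAction.mem_stabilizer_iff.1 (h1 hp)
  · have h1 : K ⊔ T ≤ P₀ := hmax _ le_sup_right (lt_of_le_of_ne (sup_le inf_le_right hP.le) hKT)
    exact absurd (hfr.trans (sup_le (le_sup_left.trans h1) hN0)) (not_le_of_gt hP₀)

variable (M) in
/-- THE INPUT (the K-free FF theorem): an elementary abelian subgroup of `T` is not an over-offender on
`⟨C_M(T)^P⟩`. -/
def FFIn (T P : Subgroup H) : Prop :=
  ∀ B ≤ T, (∀ b ∈ B, b * b = 1) → (fx M T P).relIndex B ≤ (cv M (B : Set H)).relIndex (mp M T P)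

theorem relIndex_ne {G : Type*} [Group G] [Finite G] (A B : Subgroup G) : A.relIndex B ≠ 0 :=
  Subgroup.index_ne_zero_of_finite (H := A.subgroupOf B)

/-- **`A* ≤ O₂(P)`** for the minimal parabolics over `T ≥ A*` moving `C_M(T)`. -/
theorem Star.le_core [Finite H] [Finite M] {Q A : Subgroup H} (h : Star M Q A) (hQ : ∀ q ∈ Q, q * q = 1)
    {T P : Subgroup H} (hT : IsPGroup 2 T) (hTs : ¬ 2 ∣ T.relIndex P) (hP : IsMinPar T P) (hm : Moves M T P)
    (hff : FFIn M T P) (hAT : A ≤ T) : A ≤ core T P := by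
  by_contra hcon
  have hlt : A ⊓ core T P < A := lt_of_le_of_ne inf_le_left fun h1 => hcon (inf_eq_left.1 h1)
  have h1 := h.lt hlt
  -- the kernel on `M_P`
  have h2 : fx M T P ⊓ A = A ⊓ core T P := by
    apply le_antisymm
    · exact le_inf inf_le_right fun x hx => fx_inf_le (M := M) hT hTs hP hm ⟨hx.1, hAT hx.2⟩
    · exact le_inf (inf_le_right.trans (core_le_fx T P)) inf_le_left
  have h3 := hff A hAT fun a ha => hQ a (h.le ha)
  have h4 : (fx M T P).relIndex A = (A ⊓ core T P).relIndex A := by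
    rw [← h2, Subgroup.inf_relIndex_right]
  have h5 : mp M T P ≤ cv M ((A ⊓ core T P : Subgroup H) : Set H) := by
    intro m hm' x hx
    exact core_le_fx (M := M) T P hx.2 m hm'
  have h6 : (cv M (A : Set H)).relIndex (mp M T P) ≤
      (cv M (A : Set H)).relIndex (cv M ((A ⊓ core T P : Subgroup H) : Set H)) :=
    Subgroup.relIndex_le_of_le_right h5 (relIndex_ne _ _)
  rw [h4] at h3
  omega

/-! ### The group generated by the minimal parabolics moving `C_M(T)` -/

variable (M) in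
/-- `X_T` -/
def xt (T : Subgroup H) : Subgroup H := ⨆ P ∈ {P : Subgroup H | IsMinPar T P ∧ Moves M T P}, P

/-- conjugation of the data -/
def cj (g : H) (A : Subgroup H) : Subgroup H := A.map (MulAut.conj g).toMonoidHom

theorem mem_cj {g : H} {A : Subgroup H} {x : H} : x ∈ cj g A ↔ g⁻¹ * x * g ∈ A := by
  constructor
  · rintro ⟨a, ha, rfl⟩
    have : g⁻¹ * (MulAut.conj g).toMonoidHom a * g = a := by
      change g⁻¹ * (g * a * g⁻¹) * g = a
      group
    rw [this]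
    exact ha
  · intro h
    refine ⟨_, h, ?_⟩
    change g * (g⁻¹ * x * g) * g⁻¹ = x
    group

theorem cj_cj (g h : H) (A : Subgroup H) : cj g (cj h A) = cj (g * h) A := by
  ext x
  rw [mem_cj, mem_cj, mem_cj]
  have : h⁻¹ * (g⁻¹ * x * g) * h = (g * h)⁻¹ * x * (g * h) := by group
  rw [this]

theorem cj_one (A : Subgroup H) : cj 1 A = A := by
  ext x
  rw [mem_cj]
  simp

theorem cj_mono {g : H} {A B : Subgroup H} (h : A ≤ B) : cj g A ≤ cj g B := Subgroup.map_mono h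

theorem cj_le_iff {g : H} {A B : Subgroup H} : cj g A ≤ B ↔ A ≤ cj g⁻¹ B := by
  constructor
  · intro h
    have := cj_mono (g := g⁻¹) h
    rwa [cj_cj, inv_mul_cancel, cj_one] at this
  · intro h
    have := cj_mono (g := g) h
    rwa [cj_cj, mul_inv_cancel, cj_one] at this

theorem cj_lt_iff {g : H} {A B : Subgroup H} : cj g A < B ↔ A < cj g⁻¹ B := by
  rw [lt_iff_le_not_ge, lt_iff_le_not_ge, cj_le_iff, cj_le_iff, inv_inv]

theorem normalizer_cj (g : H) (A : Subgroup H) : normalizer (cj g A : Set H) = cj g (normalizer (A : Set H)) := by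
  ext x
  rw [mem_cj, mem_normalizer_iff, mem_normalizer_iff]
  constructor
  · intro h y
    have h1 := h (g * y * g⁻¹)
    rw [mem_cj, mem_cj] at h1
    have e1 : g⁻¹ * (g * y * g⁻¹) * g = y := by group
    have e2 : g⁻¹ * (x * (g * y * g⁻¹) * x⁻¹) * g = g⁻¹ * x * g * y * (g⁻¹ * x * g)⁻¹ := by group
    rwa [e1, e2] at h1
  · intro h y
    have h1 := h (g⁻¹ * y * g)
    rw [mem_cj, mem_cj]
    have e2 : g⁻¹ * x * g * (g⁻¹ * y * g) * (g⁻¹ * x * g)⁻¹ = g⁻¹ * (x * y * x⁻¹) * g := by group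
    rwa [e2] at h1

theorem isMinPar_cj {T P : Subgroup H} (g : H) (h : IsMinPar T P) : IsMinPar (cj g T) (cj g P) where
  le := cj_mono h.le
  not_le := by
    rw [normalizer_cj, cj_le_iff, cj_cj, inv_mul_cancel, cj_one]
    exact h.not_le
  exists_max := by
    obtain ⟨N, hN, hmax⟩ := h.exists_max
    refine ⟨cj g N, ?_, ?_⟩
    · rw [cj_lt_iff, cj_cj, inv_mul_cancel, cj_one]
      exact hN
    · intro K hK hKP
      have h1 := hmax (cj g⁻¹ K) (by rw [← cj_le_iff]; exact hK) (by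
        rw [cj_lt_iff, inv_inv]
        exact hKP)
      rwa [cj_le_iff, inv_inv] at h1

theorem cv_cj (g : H) (A : Subgroup H) {v : M} : v ∈ cv M (cj g A : Set H) ↔ g⁻¹ • v ∈ cv M (A : Set H) := by
  constructor
  · intro h a ha
    have h1 := h (g * a * g⁻¹) (mem_cj.2 (by
      have : g⁻¹ * (g * a * g⁻¹) * g = a := by group
      rw [this]
      exact ha))
    rw [mul_smul, mul_smul] at h1
    rw [eq_inv_smul_iff]
    exact h1
  · intro h x hx
    have h1 := h _ (mem_cj.1 hx)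
    rw [mul_smul, mul_smul, smul_inv_smul, smul_left_cancel_iff] at h1
    exact h1

theorem moves_cj {T P : Subgroup H} (g : H) (h : Moves M T P) : Moves M (cj g T) (cj g P) := by
  obtain ⟨p, hp, v, hv, hne⟩ := h
  refine ⟨g * p * g⁻¹, mem_cj.2 (by
      have : g⁻¹ * (g * p * g⁻¹) * g = p := by group
      rw [this]
      exact hp), g • v, (cv_cj g T).2 (by rw [inv_smul_smul]; exact hv), ?_⟩
  rw [mul_smul, mul_smul, inv_smul_smul]
  intro h1
  exact hne (smul_left_cancel g h1)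

/-- `T` is a Sylow 2-subgroup -/
def Syl (T : Subgroup H) : Prop := IsPGroup 2 T ∧ ¬ 2 ∣ T.index

theorem syl_cj {T : Subgroup H} (g : H) (h : Syl T) : Syl (cj g T) := by
  refine ⟨h.1.map _, ?_⟩
  have h1 : (cj g T).index = T.index := index_map_equiv T (MulAut.conj g)
  rw [h1]
  exact h.2

theorem Syl.relIndex {T P : Subgroup H} (h : Syl T) (hP : T ≤ P) : ¬ 2 ∣ T.relIndex P := by
  have h1 : T.relIndex P ∣ T.index := by
    rw [← relIndex_mul_index hP]
    exact Dvd.intro _ rfl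
  exact fun h2 => h.2 (h2.trans h1)

variable (M) in
/-- the input for all Sylow 2-subgroups -/
def FFAll (H : Type*) [Group H] [MulDistribMulAction H M] : Prop :=
  ∀ T P : Subgroup H, Syl T → IsMinPar T P → Moves M T P → FFIn M T P

/-- **`A* ≤ T^y` for all `y ∈ X_T`**, if the FF input holds for all Sylow 2-subgroups. -/
theorem Star.le_conj [Finite H] [Finite M] {Q A : Subgroup H} (h : Star M Q A) (hQ : ∀ q ∈ Q, q * q = 1)
    (hff : FFAll M H) {T : Subgroup H} (hT : Syl T) (hAT : A ≤ T) {y : H} (hy : y ∈ xt M T) : A ≤ cj y T := by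
  have hstep : ∀ T : Subgroup H, Syl T → A ≤ T → ∀ P, IsMinPar T P → Moves M T P → ∀ p ∈ P, A ≤ cj p T := by
    intro T hT hAT P hP hm p hp a ha
    exact mem_cj.2 (h.le_core hQ hT.1 (hT.relIndex hP.le) hP hm (hff T P hT hP hm) hAT ha p hp)
  have hxt : xt M T = closure {x | ∃ P, IsMinPar T P ∧ Moves M T P ∧ x ∈ P} := by
    apply le_antisymm
    · exact iSup₂_le fun P hP x hx => subset_closure ⟨P, hP.1, hP.2, hx⟩
    · rw [closure_le]
      rintro x ⟨P, h1, h2, hx⟩
      exact (le_iSup₂_of_le P ⟨h1, h2⟩ le_rfl : P ≤ xt M T) hx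
  have hgen : ∀ x z : H, A ≤ cj x T → (∃ P, IsMinPar T P ∧ Moves M T P ∧ z ∈ P) → A ≤ cj (x * z) T := by
    rintro x z ih ⟨P, h1, h2, hzP⟩
    have h3 := hstep (cj x T) (syl_cj x hT) ih (cj x P) (isMinPar_cj x h1) (moves_cj x h2) (x * z * x⁻¹)
      (mem_cj.2 (by
        have : x⁻¹ * (x * z * x⁻¹) * x = z := by group
        rw [this]
        exact hzP))
    rwa [cj_cj, inv_mul_cancel_right] at h3
  rw [hxt] at hy
  induction hy using closure_induction_right with
  | one => rw [cj_one]; exact hAT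
  | mul_right x hx z hz ih => exact hgen x z ih hz
  | mul_inv_cancel x hx z hz ih =>
    obtain ⟨P, h1, h2, hzP⟩ := hz
    exact hgen x z⁻¹ ih ⟨P, h1, h2, P.inv_mem hzP⟩

/-- `A*` lies in the core of `X_T`. -/
theorem Star.le_core_xt [Finite H] [Finite M] {Q A : Subgroup H} (h : Star M Q A) (hQ : ∀ q ∈ Q, q * q = 1)
    (hff : FFAll M H) {T : Subgroup H} (hT : Syl T) (hAT : A ≤ T) : A ≤ core T (xt M T) := fun _ ha _ hy =>
  mem_cj.1 (h.le_conj hQ hff hT hAT hy ha)

/-- `N_H(T)` normalises `X_T`. -/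
theorem cj_xt {T : Subgroup H} {g : H} (hg : cj g T = T) : cj g (xt M T) ≤ xt M T := by
  have h1 : xt M T ≤ cj g⁻¹ (xt M T) := by
    refine iSup₂_le fun P hP => ?_
    rw [← cj_le_iff]
    have h2 : IsMinPar T (cj g P) := by
      have := isMinPar_cj g hP.1
      rwa [hg] at this
    have h3 : Moves M T (cj g P) := by
      have := moves_cj (M := M) g hP.2
      rwa [hg] at this
    exact le_iSup₂_of_le (cj g P) ⟨h2, h3⟩ le_rfl
  exact cj_le_iff.2 h1

/-- **No over-offender**: if `⟨X_T, N_H(T)⟩ = H` for the Sylow 2-subgroups and `O₂(H) = 1`, then the elementary abelian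
2-subgroups are not over-offenders. -/
theorem no_over [Finite H] [Finite M] (hff : FFAll M H)
    (hgen : ∀ T : Subgroup H, Syl T → xt M T ⊔ normalizer (T : Set H) = ⊤)
    (hcore : ∀ N : Subgroup H, N.Normal → IsPGroup 2 N → N = ⊥)
    {Q : Subgroup H} (hQ : ∀ q ∈ Q, q * q = 1) : fo M Q ≤ Nat.card M := by
  by_contra hcon
  rw [not_le] at hcon
  have hab : ∀ a ∈ Q, ∀ b ∈ Q, a * b = b * a := by
    intro a ha b hb
    have h1 := hQ _ (Q.mul_mem ha hb)
    have h2 : a⁻¹ = a := inv_eq_of_mul_eq_one_right (hQ a ha)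
    have h3 : b⁻¹ = b := inv_eq_of_mul_eq_one_right (hQ b hb)
    calc a * b = (a * b)⁻¹ := (inv_eq_of_mul_eq_one_right h1).symm
      _ = b⁻¹ * a⁻¹ := mul_inv_rev a b
      _ = b * a := by rw [h2, h3]
  obtain ⟨A, hA⟩ := exists_min hab le_rfl hcon
  -- a Sylow 2-subgroup containing `A*`
  have h2 : IsPGroup 2 Q := by
    intro q
    exact ⟨1, by rw [pow_one, pow_two]; exact Subtype.ext (hQ q q.2)⟩
  have : Fact (Nat.Prime 2) := ⟨Nat.prime_two⟩
  obtain ⟨S, hS⟩ := h2.exists_le_sylow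
  have hT : Syl (S : Subgroup H) := ⟨S.isPGroup', S.not_dvd_index⟩
  have h3 := hA.le_core_xt hQ hff hT (hA.le.trans hS)
  set T : Subgroup H := (S : Subgroup H) with hTdef
  -- the core of `X_T` is normal
  have h4 : ∀ g : H, ∀ x ∈ core T (xt M T), g * x * g⁻¹ ∈ core T (xt M T) := by
    have h5 : xt M T ⊔ normalizer (T : Set H) ≤ normalizer (core T (xt M T) : Set H) := by
      have hle : ∀ g : H, (∀ x ∈ core T (xt M T), g * x * g⁻¹ ∈ core T (xt M T)) →
          g ∈ normalizer (core T (xt M T) : Set H) := by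
        intro g hg
        have h6 : cj g (core T (xt M T)) ≤ core T (xt M T) := by
          rintro _ ⟨x, hx, rfl⟩
          exact hg x hx
        have h7 : cj g (core T (xt M T)) = core T (xt M T) := eq_of_le_of_card_ge h6
          (Nat.card_congr ((core T (xt M T)).equivMapOfInjective _ (MulAut.conj g).injective).toEquiv).le
        rw [Subgroup.mem_normalizer_iff_map_conj_eq]
        exact h7
      refine sup_le (fun g hg => hle g fun x hx => conj_mem_core hx hg) (fun g hg => hle g fun x hx => ?_)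
      have hgT : cj g T = T := by
        have := Subgroup.mem_normalizer_iff_map_conj_eq.1 hg
        exact this
      have hgT' : cj g⁻¹ T = T := by
        rw [← hgT, cj_cj, inv_mul_cancel, cj_one]
        exact hgT.symm
      intro p hp
      have h8 : g⁻¹ * p * g ∈ xt M T := by
        have h9 := cj_xt (M := M) hgT' ((mem_cj (g := g⁻¹) (x := g⁻¹ * p * g)).2 (by
          have : g⁻¹⁻¹ * (g⁻¹ * p * g) * g⁻¹ = p := by group
          rw [this]
          exact hp))
        exact h9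
      have h10 := hx _ h8
      have h11 : g * ((g⁻¹ * p * g)⁻¹ * x * (g⁻¹ * p * g)) * g⁻¹ ∈ T := by
        rw [← hgT]
        exact mem_cj.2 (by
          have : g⁻¹ * (g * ((g⁻¹ * p * g)⁻¹ * x * (g⁻¹ * p * g)) * g⁻¹) * g =
            (g⁻¹ * p * g)⁻¹ * x * (g⁻¹ * p * g) := by group
          rw [this]
          exact h10)
      have h12 : g * ((g⁻¹ * p * g)⁻¹ * x * (g⁻¹ * p * g)) * g⁻¹ = p⁻¹ * (g * x * g⁻¹) * p := by group
      rwa [h12] at h11
    rw [hgen T hT, top_le_iff] at h5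
    intro g x hx
    have h6 : g ∈ normalizer (core T (xt M T) : Set H) := by rw [h5]; exact mem_top _
    exact (mem_normalizer_iff.1 h6 x).1 hx
  have h5 := hcore (core T (xt M T)) ⟨fun x hx g => h4 g x hx⟩ (hT.1.to_le (core_le _ _))
  rw [h5, le_bot_iff] at h3
  exact hA.ne_bot h3

end Cfsg.Agent.Omega.NOThree.NoOver

end

section


/-!
# The Chermak-Delgado lattice of an action (OMEGA, (ML); #14946 of helper9, #15361 of helper925); K-free

`H` acts on the finite group `M`; `fab M a b B = |B|^a |C_M(B)|^b` (`a / b = t` of the text; `a = b = 1` is `fo` of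
`NoOver.lean`).  No group is supposed to be abelian or to normalise another one.

* `LS f` : `f : Subgroup H → ℕ` is positive, log-supermodular and invariant under conjugation;  `ls_fab : LS (fab M a b)`;
* `Best f R B` : `B ≤ R` with the maximal value of `f`;  `lo f R`, `hi f R` : the least and the greatest best subgroup of
  `R`;  `lo_cj`, `hi_cj` : equivariance (so `N_H(R)` normalises both);
* `Strict f X` : `f B < f X` for all `B < X`;  `lo f R` is the greatest strict subgroup of `R` (`strict_lo`, `Strict.le_lo`);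
  joins of strict subgroups are strict (`Strict.sup`);  `lo_mono`, `le_inf_lo`;  `lo_eq_bot_iff`;
* `lo_closed` : a subgroup of `R` centralising `C_M(lo R)` is in `lo R`;
* `lo_le_core`, `lo_core_eq` : for a minimal parabolic `P` over `T` moving `C_M(T)`: `lo T = lo (O₂(P))` if the FF
  inequality holds for ALL subgroups of `T` (`FFab`), so it is normalised by `P` and by `X_T`;
* `relIndex_lt` : (4)(iii) of #14946.
-/

set_option autoImplicit false

namespace Cfsg.Agent.Omega.ML.CD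

open Subgroup Cfsg.Agent.ClassTwoFusion.Quad Cfsg.Agent.MinSimple.MinParabolic Cfsg.Agent.Omega.NOThree.NoOver

variable {H : Type*} [Group H]

/-- positive, log-supermodular, invariant -/
structure LS (f : Subgroup H → ℕ) : Prop where
  pos : ∀ B, 0 < f B
  sup : ∀ B D, f B * f D ≤ f (B ⊔ D) * f (B ⊓ D)
  conj : ∀ g B, f (cj g B) = f B

/-- `B` has the maximal value of `f` in `R` -/
def Best (f : Subgroup H → ℕ) (R B : Subgroup H) : Prop := B ≤ R ∧ ∀ D ≤ R, f D ≤ f B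

/-- `f B < f X` for all `B < X` -/
def Strict (f : Subgroup H → ℕ) (X : Subgroup H) : Prop := ∀ B < X, f B < f X

/-- the least best subgroup of `R` -/
def lo (f : Subgroup H → ℕ) (R : Subgroup H) : Subgroup H := sInf {B | Best f R B}

/-- the greatest best subgroup of `R` -/
def hi (f : Subgroup H → ℕ) (R : Subgroup H) : Subgroup H := sSup {B | Best f R B}

theorem lo_le {f : Subgroup H → ℕ} {R B : Subgroup H} (h : Best f R B) : lo f R ≤ B := sInf_le h

theorem le_hi {f : Subgroup H → ℕ} {R B : Subgroup H} (h : Best f R B) : B ≤ hi f R := le_sSup h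

theorem Best.eq {f : Subgroup H → ℕ} {R B D : Subgroup H} (h : Best f R B) (h' : Best f R D) : f B = f D :=
  le_antisymm (h'.2 _ h.1) (h.2 _ h'.1)

theorem Best.of_le {f : Subgroup H → ℕ} {R B D : Subgroup H} (h : Best f R B) (hD : D ≤ R) (h' : f B ≤ f D) :
    Best f R D := ⟨hD, fun _ hE => (h.2 _ hE).trans h'⟩

/-- restriction to a smaller group -/
theorem Best.mono {f : Subgroup H → ℕ} {R R' B : Subgroup H} (h : Best f R B) (hR : R' ≤ R) (hB : B ≤ R') :
    Best f R' B := ⟨hB, fun D hD => h.2 D (hD.trans hR)⟩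

theorem cj_eq_iff {g : H} {A B : Subgroup H} : cj g A = B ↔ A = cj g⁻¹ B := by
  constructor
  · rintro rfl
    rw [cj_cj, inv_mul_cancel, cj_one]
  · rintro rfl
    rw [cj_cj, mul_inv_cancel, cj_one]

theorem cj_sup (g : H) (A B : Subgroup H) : cj g (A ⊔ B) = cj g A ⊔ cj g B := Subgroup.map_sup _ _ _

namespace LS

variable {f : Subgroup H → ℕ} (h : LS f)
include h

theorem best_cj {R B : Subgroup H} (g : H) (hB : Best f R B) : Best f (cj g R) (cj g B) := by
  refine ⟨cj_mono hB.1, fun D hD => ?_⟩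
  have h1 := hB.2 (cj g⁻¹ D) (by rwa [cj_le_iff, inv_inv])
  rwa [h.conj, ← h.conj g B] at h1

theorem best_cj_iff {R B : Subgroup H} (g : H) : Best f (cj g R) (cj g B) ↔ Best f R B := by
  refine ⟨fun h1 => ?_, h.best_cj g⟩
  have h2 := h.best_cj g⁻¹ h1
  rwa [cj_cj, cj_cj, inv_mul_cancel, cj_one, cj_one] at h2

/-- the best subgroups form a lattice -/
theorem best_sup_inf {R B D : Subgroup H} (hB : Best f R B) (hD : Best f R D) :
    Best f R (B ⊔ D) ∧ Best f R (B ⊓ D) := by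
  have h1 := h.sup B D
  rw [← hB.eq hD] at h1
  have h2 := hB.2 (B ⊔ D) (sup_le hB.1 hD.1)
  have h3 := hB.2 (B ⊓ D) (inf_le_left.trans hB.1)
  have hp := h.pos B
  constructor
  · refine hB.of_le (sup_le hB.1 hD.1) ?_
    by_contra hc
    rw [not_le] at hc
    have h4 : f (B ⊔ D) * f (B ⊓ D) < f B * f B :=
      lt_of_le_of_lt (Nat.mul_le_mul_left _ h3) (Nat.mul_lt_mul_of_pos_right hc hp)
    exact absurd h1 (not_le.2 h4)
  · refine hB.of_le (inf_le_left.trans hB.1) ?_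
    by_contra hc
    rw [not_le] at hc
    have h4 : f (B ⊔ D) * f (B ⊓ D) < f B * f B :=
      lt_of_le_of_lt (Nat.mul_le_mul_right _ h2) (Nat.mul_lt_mul_of_pos_left hc hp)
    exact absurd h1 (not_le.2 h4)

/-- `f(B) ≤ f(B ∩ X)` for best `X` -/
theorem le_inf_best {R X B : Subgroup H} (hX : Best f R X) (hB : B ≤ R) : f B ≤ f (B ⊓ X) := by
  have h1 := h.sup B X
  have h2 := hX.2 (B ⊔ X) (sup_le hB hX.1)
  have hp := h.pos X
  have h3 : f B * f X ≤ f (B ⊓ X) * f X := by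
    calc f B * f X ≤ f (B ⊔ X) * f (B ⊓ X) := h1
      _ ≤ f X * f (B ⊓ X) := Nat.mul_le_mul_right _ h2
      _ = _ := mul_comm _ _
  exact Nat.le_of_mul_le_mul_right h3 hp

variable [Finite H]

omit h in
theorem exists_best (f : Subgroup H → ℕ) (R : Subgroup H) : ∃ B, Best f R B := by
  obtain ⟨A, h1, h2⟩ := Set.exists_max_image {A : Subgroup H | A ≤ R} (fun A => f A) (Set.toFinite _)
    ⟨⊥, (bot_le : ⊥ ≤ R)⟩
  exact ⟨A, h1, fun B hB => h2 B hB⟩

theorem best_lo (R : Subgroup H) : Best f R (lo f R) := by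
  obtain ⟨A, hA, hmin⟩ := Set.exists_min_image {A : Subgroup H | Best f R A} (fun A => Nat.card A) (Set.toFinite _)
    (exists_best f R)
  have h1 : A = lo f R := by
    refine le_antisymm (le_sInf fun B hB => ?_) (lo_le hA)
    have h2 := hmin (A ⊓ B) (h.best_sup_inf hA hB).2
    exact inf_eq_left.1 (eq_of_le_of_card_ge inf_le_left h2)
  rw [← h1]
  exact hA

theorem best_hi (R : Subgroup H) : Best f R (hi f R) := by
  obtain ⟨A, hA, hmax⟩ := Set.exists_max_image {A : Subgroup H | Best f R A} (fun A => Nat.card A) (Set.toFinite _)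
    (exists_best f R)
  have h1 : A = hi f R := by
    refine le_antisymm (le_hi hA) (sSup_le fun B hB => ?_)
    have h2 := hmax (A ⊔ B) (h.best_sup_inf hA hB).1
    have h3 := eq_of_le_of_card_ge (le_sup_left : A ≤ A ⊔ B) h2
    exact le_sup_right.trans h3.ge
  rw [← h1]
  exact hA

theorem lo_le_hi (R : Subgroup H) : lo f R ≤ hi f R := lo_le (h.best_hi R)

theorem lo_le_self (R : Subgroup H) : lo f R ≤ R := (h.best_lo R).1

theorem hi_le_self (R : Subgroup H) : hi f R ≤ R := (h.best_hi R).1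

theorem le_lo (R B : Subgroup H) (hB : B ≤ R) : f B ≤ f (lo f R) := (h.best_lo R).2 B hB

theorem eq_lo {R A : Subgroup H} (hA : Best f R A) (hs : Strict f A) : A = lo f R := by
  by_contra hne
  have h1 := hs _ (lt_of_le_of_ne (lo_le hA) (Ne.symm hne))
  exact absurd (hA.eq (h.best_lo R)) h1.ne'

/-- equivariance of the least best subgroup -/
theorem lo_cj (g : H) (R : Subgroup H) : lo f (cj g R) = cj g (lo f R) := by
  apply le_antisymm
  · exact lo_le (h.best_cj g (h.best_lo R))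
  · rw [cj_le_iff]
    refine lo_le ?_
    have h1 := h.best_cj g⁻¹ (h.best_lo (cj g R))
    rwa [cj_cj, inv_mul_cancel, cj_one] at h1

theorem hi_cj (g : H) (R : Subgroup H) : hi f (cj g R) = cj g (hi f R) := by
  apply le_antisymm
  · have h1 := le_hi (h.best_cj g⁻¹ (h.best_hi (cj g R)))
    rw [cj_cj, inv_mul_cancel, cj_one, cj_le_iff, inv_inv] at h1
    exact h1
  · exact le_hi (h.best_cj g (h.best_hi R))

theorem lo_eq_cj {g : H} {R : Subgroup H} (hg : cj g R = R) : cj g (lo f R) = lo f R := by rw [← h.lo_cj, hg]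

theorem hi_eq_cj {g : H} {R : Subgroup H} (hg : cj g R = R) : cj g (hi f R) = hi f R := by rw [← h.hi_cj, hg]

/-- `N_H(R)` normalises `lo R` -/
theorem normalizer_le_lo (R : Subgroup H) : normalizer (R : Set H) ≤ normalizer (lo f R : Set H) := by
  intro g hg
  rw [Subgroup.mem_normalizer_iff_map_conj_eq] at hg ⊢
  exact h.lo_eq_cj hg

theorem normalizer_le_hi (R : Subgroup H) : normalizer (R : Set H) ≤ normalizer (hi f R : Set H) := by
  intro g hg
  rw [Subgroup.mem_normalizer_iff_map_conj_eq] at hg ⊢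
  exact h.hi_eq_cj hg

/-! ### Strict subgroups -/

/-- (a) -/
theorem strict_lo (R : Subgroup H) : Strict f (lo f R) := by
  intro B hB
  refine lt_of_le_of_ne (h.le_lo R B (hB.le.trans (h.lo_le_self R))) fun h1 => ?_
  have h2 : Best f R B := (h.best_lo R).of_le (hB.le.trans (h.lo_le_self R)) h1.ge
  exact absurd (lo_le h2) (not_le_of_gt hB)

/-- (b) -/
theorem le_inf_lo {R B : Subgroup H} (hB : B ≤ R) : f B ≤ f (B ⊓ lo f R) := h.le_inf_best (h.best_lo R) hB

end LS

variable {f : Subgroup H → ℕ}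

theorem Strict.cj (hf : LS f) {X : Subgroup H} (hX : Strict f X) (g : H) : Strict f (cj g X) := by
  intro B hB
  have h1 : Cfsg.Agent.Omega.NOThree.NoOver.cj g⁻¹ B < X := by
    rw [cj_lt_iff, inv_inv]
    exact hB
  have h2 := hX _ h1
  rwa [hf.conj, ← hf.conj g X] at h2

/-- a strict subgroup of `R` is in `lo R` -/
theorem Strict.le_lo (hf : LS f) [Finite H] {X R : Subgroup H} (hX : Strict f X) (hR : X ≤ R) : X ≤ lo f R := by
  have h1 := hf.le_inf_lo hR
  by_contra hc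
  exact absurd (hX _ (lt_of_le_of_ne inf_le_left fun h2 => hc (inf_eq_left.1 h2))) (not_lt.2 h1)

/-- a strict subgroup and the intersection with a best one: more generally `X ≤ Y` for best `Y` -/
theorem Strict.le_best (hf : LS f) {X R Y : Subgroup H} (hX : Strict f X) (hR : X ≤ R) (hY : Best f R Y) : X ≤ Y := by
  have h1 := hf.le_inf_best hY hR
  by_contra hc
  exact absurd (hX _ (lt_of_le_of_ne inf_le_left fun h2 => hc (inf_eq_left.1 h2))) (not_lt.2 h1)

theorem Strict.lo_eq (hf : LS f) [Finite H] {X : Subgroup H} (hX : Strict f X) : lo f X = X :=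
  le_antisymm (hf.lo_le_self X) (hX.le_lo hf le_rfl)

theorem strict_iff (hf : LS f) [Finite H] {X : Subgroup H} : Strict f X ↔ lo f X = X :=
  ⟨fun h => h.lo_eq hf, fun h => by have := hf.strict_lo X; rwa [h] at this⟩

/-- joins of strict subgroups are strict -/
theorem Strict.sup (hf : LS f) [Finite H] {X Y : Subgroup H} (hX : Strict f X) (hY : Strict f Y) :
    Strict f (X ⊔ Y) := by
  rw [strict_iff hf]
  exact le_antisymm (hf.lo_le_self _) (sup_le (hX.le_lo hf le_sup_left) (hY.le_lo hf le_sup_right))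

theorem strict_sSup (hf : LS f) [Finite H] {s : Set (Subgroup H)} (hs : ∀ X ∈ s, Strict f X) :
    Strict f (sSup s) := by
  rw [strict_iff hf]
  exact le_antisymm (hf.lo_le_self _) (sSup_le fun X hX => (hs X hX).le_lo hf (le_sSup hX))

theorem strict_bot (f : Subgroup H → ℕ) : Strict f ⊥ := fun _ hB => absurd hB not_lt_bot

/-- (b): monotony -/
theorem lo_mono (hf : LS f) [Finite H] {R R' : Subgroup H} (h : R ≤ R') : lo f R ≤ lo f R' :=
  (hf.strict_lo R).le_lo hf ((hf.lo_le_self R).trans h)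

theorem hi_mono (hf : LS f) [Finite H] {R R' : Subgroup H} (h : R ≤ R') : hi f R ≤ hi f R' := by
  have h1 := hf.sup (hi f R) (hi f R')
  have h2 := (hf.best_hi R).2 (hi f R ⊓ hi f R') (inf_le_left.trans (hf.hi_le_self R))
  have hp := hf.pos (hi f R)
  have h3 : f (hi f R') * f (hi f R) ≤ f (hi f R ⊔ hi f R') * f (hi f R) := by
    calc f (hi f R') * f (hi f R) = f (hi f R) * f (hi f R') := mul_comm _ _
      _ ≤ _ := h1
      _ ≤ _ := Nat.mul_le_mul_left _ h2
  have h4 := Nat.le_of_mul_le_mul_right h3 hp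
  have h5 : Best f R' (hi f R ⊔ hi f R') :=
    (hf.best_hi R').of_le (sup_le ((hf.hi_le_self R).trans h) (hf.hi_le_self R')) h4
  exact le_sup_left.trans (le_hi h5)

/-- if `lo R' ≤ R ≤ R'` then `lo R = lo R'` -/
theorem lo_eq_of_le (hf : LS f) [Finite H] {R R' : Subgroup H} (h : R ≤ R') (h' : lo f R' ≤ R) :
    lo f R = lo f R' := le_antisymm (lo_mono hf h) ((hf.strict_lo R').le_lo hf h')

/-- (c) -/
theorem lo_eq_bot_iff (hf : LS f) [Finite H] {R : Subgroup H} : lo f R = ⊥ ↔ ∀ B ≤ R, f B ≤ f ⊥ := by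
  constructor
  · intro h B hB
    have := hf.le_lo R B hB
    rwa [h] at this
  · intro h
    exact le_bot_iff.1 (lo_le ⟨bot_le, h⟩)

/-- `lo R` is the join of the strict subgroups of `R` -/
theorem lo_eq_sSup (hf : LS f) [Finite H] (R : Subgroup H) : lo f R = sSup {X | X ≤ R ∧ Strict f X} :=
  le_antisymm (le_sSup ⟨hf.lo_le_self R, hf.strict_lo R⟩) (sSup_le fun _ hX => hX.2.le_lo hf hX.1)

/-- weak closure: `lo T` is the only conjugate of itself in `T` -/
theorem cj_lo_eq (hf : LS f) [Finite H] {T : Subgroup H} {g : H} (h : cj g (lo f T) ≤ T) :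
    cj g (lo f T) = lo f T := by
  have h1 : cj g (lo f T) ≤ lo f T := ((hf.strict_lo T).cj hf g).le_lo hf h
  exact eq_of_le_of_card_ge h1
    (Nat.card_congr ((lo f T).equivMapOfInjective _ (MulAut.conj g).injective).toEquiv).le

/-! ### `D(U)`: the elementary abelian strict subgroups -/

/-- the join of the strict elementary abelian subgroups -/
def dd (f : Subgroup H → ℕ) (U : Subgroup H) : Subgroup H := sSup {X | X ≤ U ∧ Strict f X ∧ ∀ x ∈ X, x * x = 1}

theorem dd_le (f : Subgroup H → ℕ) (U : Subgroup H) : dd f U ≤ U := sSup_le fun _ hX => hX.1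

theorem le_dd {U X : Subgroup H} (h : X ≤ U) (hs : Strict f X) (he : ∀ x ∈ X, x * x = 1) : X ≤ dd f U :=
  le_sSup ⟨h, hs, he⟩

theorem strict_dd (hf : LS f) [Finite H] (U : Subgroup H) : Strict f (dd f U) := strict_sSup hf fun _ hX => hX.2.1

theorem dd_mono {U U' : Subgroup H} (h : U ≤ U') : dd f U ≤ dd f U' := sSup_le fun _ hX =>
  le_dd (hX.1.trans h) hX.2.1 hX.2.2

theorem dd_le_lo (hf : LS f) [Finite H] (U : Subgroup H) : dd f U ≤ lo f U := (strict_dd hf U).le_lo hf (dd_le f U)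

theorem cj_dd_le (hf : LS f) (g : H) (U : Subgroup H) : cj g (dd f U) ≤ dd f (cj g U) := by
  rw [cj_le_iff]
  refine sSup_le fun X hX => ?_
  rw [← cj_le_iff]
  refine le_dd (cj_mono hX.1) (hX.2.1.cj hf g) ?_
  rintro _ ⟨x, hx, rfl⟩
  have h1 := hX.2.2 x hx
  rw [← map_mul, h1, map_one]

theorem dd_cj (hf : LS f) (g : H) (U : Subgroup H) : dd f (cj g U) = cj g (dd f U) := by
  refine le_antisymm ?_ (cj_dd_le hf g U)
  have h1 := cj_dd_le hf g⁻¹ (cj g U)
  rwa [cj_cj, inv_mul_cancel, cj_one, cj_le_iff, inv_inv] at h1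

theorem normalizer_le_dd (hf : LS f) (U : Subgroup H) : normalizer (U : Set H) ≤ normalizer (dd f U : Set H) := by
  intro g hg
  rw [Subgroup.mem_normalizer_iff_map_conj_eq] at hg ⊢
  change cj g U = U at hg
  change cj g (dd f U) = dd f U
  rw [← dd_cj hf, hg]

/-! ### The point version: `A x = lo (Q x)` for an equivariant `Q` (`Q x = O₂(C_H(x))`) -/

theorem lo_smul (hf : LS f) [Finite H] {Ω : Type*} [MulAction H Ω] {Q : Ω → Subgroup H}
    (hQ : ∀ (g : H) (x : Ω), Q (g • x) = cj g (Q x)) (g : H) (x : Ω) : lo f (Q (g • x)) = cj g (lo f (Q x)) := by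
  rw [hQ, hf.lo_cj]

theorem stab_le_normalizer_lo (hf : LS f) [Finite H] {Ω : Type*} [MulAction H Ω] {Q : Ω → Subgroup H}
    (hQ : ∀ (g : H) (x : Ω), Q (g • x) = cj g (Q x)) (x : Ω) :
    MulAction.stabilizer H x ≤ normalizer (lo f (Q x) : Set H) := by
  refine le_trans ?_ (hf.normalizer_le_lo (Q x))
  intro g hg
  rw [Subgroup.mem_normalizer_iff_map_conj_eq]
  have h1 := hQ g x
  rw [MulAction.mem_stabilizer_iff.1 hg] at h1
  exact h1.symm

/-- `[A_x, A_y] ≤ A_x ∩ A_y` -/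
theorem commutator_lo_le (hf : LS f) [Finite H] {Ω : Type*} [MulAction H Ω] {Q : Ω → Subgroup H}
    (hQ : ∀ (g : H) (x : Ω), Q (g • x) = cj g (Q x)) {x y : Ω} (hxy : lo f (Q x) ≤ MulAction.stabilizer H y)
    (hyx : lo f (Q y) ≤ MulAction.stabilizer H x) : ⁅lo f (Q x), lo f (Q y)⁆ ≤ lo f (Q x) ⊓ lo f (Q y) := by
  have h1 := hyx.trans (stab_le_normalizer_lo hf hQ x)
  have h2 := hxy.trans (stab_le_normalizer_lo hf hQ y)
  rw [Subgroup.commutator_le]
  intro a ha b hb
  rw [commutatorElement_def]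
  constructor
  · have h3 := (mem_normalizer_iff.1 (h1 hb) a⁻¹).1 (inv_mem ha)
    have h4 : a * b * a⁻¹ * b⁻¹ = a * (b * a⁻¹ * b⁻¹) := by group
    rw [h4]
    exact mul_mem ha h3
  · exact Subgroup.mul_mem _ ((mem_normalizer_iff.1 (h2 ha) b).1 hb) (Subgroup.inv_mem _ hb)

/-! ### The functions `|B|^a |C_M(B)|^b` -/

variable {M : Type*} [Group M] [MulDistribMulAction H M]

variable (M) in
/-- `|B|^a |C_M(B)|^b` -/
noncomputable def fab (a b : ℕ) (B : Subgroup H) : ℕ := Nat.card B ^ a * Nat.card (cv M (B : Set H)) ^ b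

theorem fab_one (B : Subgroup H) : fab M 1 1 B = fo M B := by rw [fab, fo, pow_one, pow_one]

theorem fab_bot (a b : ℕ) : fab M a b (⊥ : Subgroup H) = Nat.card M ^ b := by
  rw [fab, cv_bot, card_bot, one_pow, one_mul, Nat.card_congr Subgroup.topEquiv.toEquiv]

/-- `|B| |D| ≤ |B ⊔ D| |B ⊓ D|` for all subgroups -/
theorem card_mul_card_le [Finite H] (B D : Subgroup H) :
    Nat.card B * Nat.card D ≤ Nat.card (B ⊔ D : Subgroup H) * Nat.card (B ⊓ D : Subgroup H) := by
  have h1 := card_mul_le B D (B ⊔ D) le_sup_left le_sup_right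
  rwa [mul_comm (Nat.card (B ⊓ D : Subgroup H))] at h1

theorem card_cv_le [Finite M] (B D : Subgroup H) :
    Nat.card (cv M (B : Set H)) * Nat.card (cv M (D : Set H)) ≤
      Nat.card (cv M ((B ⊔ D : Subgroup H) : Set H)) * Nat.card (cv M ((B ⊓ D : Subgroup H) : Set H)) := by
  have h2 := card_mul_le (cv M (B : Set H)) (cv M (D : Set H)) (cv M ((B ⊓ D : Subgroup H) : Set H))
    (cv_anti (SetLike.coe_subset_coe.2 inf_le_left)) (cv_anti (SetLike.coe_subset_coe.2 inf_le_right))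
  rwa [← cv_sup] at h2

variable (M) in
/-- **(1)** -/
theorem ls_fab [Finite H] [Finite M] (a b : ℕ) : LS (fab M a b : Subgroup H → ℕ) where
  pos := fun B => Nat.mul_pos (Nat.pow_pos Nat.card_pos) (Nat.pow_pos Nat.card_pos)
  sup := by
    intro B D
    have h1 := Nat.pow_le_pow_left (card_mul_card_le B D) a
    have h2 := Nat.pow_le_pow_left (card_cv_le (M := M) B D) b
    rw [mul_pow, mul_pow] at h1 h2
    unfold fab
    calc _ = (Nat.card B ^ a * Nat.card D ^ a) *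
          (Nat.card (cv M (B : Set H)) ^ b * Nat.card (cv M (D : Set H)) ^ b) := by ring
      _ ≤ _ := Nat.mul_le_mul h1 h2
      _ = _ := by ring
  conj := by
    intro g B
    have h1 : Nat.card (cj g B) = Nat.card B :=
      (Nat.card_congr (B.equivMapOfInjective _ (MulAut.conj g).injective).toEquiv).symm
    have h2 : Nat.card (cv M (cj g B : Set H)) = Nat.card (cv M (B : Set H)) := by
      have h3 : cv M (cj g B : Set H) = _ := QData.cv_map_conj (V := M) B g
      rw [h3]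
      exact (Nat.card_congr ((cv M (B : Set H)).equivMapOfInjective _
        (MulDistribMulAction.toMulEquiv M g : M ≃* M).injective).toEquiv).symm
    rw [fab, fab, h1, h2]

theorem card_eq_relIndex_mul {G : Type*} [Group G] {A B : Subgroup G} (h : A ≤ B) :
    Nat.card B = A.relIndex B * Nat.card A := by
  rw [← Subgroup.card_mul_index (A.subgroupOf B), mul_comm]
  congr 1
  exact Nat.card_congr (subgroupOfEquivOfLe h).toEquiv

/-- `f(B) < f(A)` in terms of indices -/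
theorem fab_lt_iff [Finite H] [Finite M] {a b : ℕ} {A B : Subgroup H} (hB : B ≤ A) :
    fab M a b B < fab M a b A ↔
      (cv M (A : Set H)).relIndex (cv M (B : Set H)) ^ b < B.relIndex A ^ a := by
  have h4le : cv M (A : Set H) ≤ cv M (B : Set H) := cv_anti (SetLike.coe_subset_coe.2 hB)
  have h3 := card_eq_relIndex_mul hB
  have h4 := card_eq_relIndex_mul h4le
  unfold fab
  rw [h3, h4, mul_pow, mul_pow]
  have e1 : Nat.card B ^ a * ((cv M (A : Set H)).relIndex (cv M (B : Set H)) ^ b *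
      Nat.card (cv M (A : Set H)) ^ b) = (Nat.card B ^ a * Nat.card (cv M (A : Set H)) ^ b) *
      (cv M (A : Set H)).relIndex (cv M (B : Set H)) ^ b := by ring
  have e2 : B.relIndex A ^ a * Nat.card B ^ a * Nat.card (cv M (A : Set H)) ^ b =
      (Nat.card B ^ a * Nat.card (cv M (A : Set H)) ^ b) * B.relIndex A ^ a := by ring
  rw [e1, e2]
  exact Nat.mul_lt_mul_left (Nat.mul_pos (Nat.pow_pos Nat.card_pos) (Nat.pow_pos Nat.card_pos))

theorem fab_le_iff [Finite H] [Finite M] {a b : ℕ} {A B : Subgroup H} (hB : B ≤ A) :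
    fab M a b A ≤ fab M a b B ↔
      B.relIndex A ^ a ≤ (cv M (A : Set H)).relIndex (cv M (B : Set H)) ^ b := by
  rw [← not_lt, fab_lt_iff hB, not_lt]

/-- **`A = lo R` is closed**: a subgroup of `R` centralising `C_M(A)` is in `A`. -/
theorem lo_closed [Finite H] [Finite M] {a b : ℕ} (ha : a ≠ 0) {R E : Subgroup H} (hE : E ≤ R)
    (hc : cv M (lo (fab M a b) R : Set H) ≤ cv M (E : Set H)) : E ≤ lo (fab M a b) R := by
  have hf := ls_fab (H := H) M a b
  set A := lo (fab M a b) R with hA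
  have h1 := hf.le_lo R (A ⊔ E) (sup_le (hf.lo_le_self R) hE)
  rw [← hA] at h1
  rw [fab_le_iff (le_sup_left : A ≤ A ⊔ E)] at h1
  have h2 : cv M ((A ⊔ E : Subgroup H) : Set H) = cv M (A : Set H) := by
    rw [cv_sup]
    exact inf_eq_left.2 hc
  rw [h2, relIndex_self, one_pow] at h1
  have h3 : A.relIndex (A ⊔ E) ≤ 1 := by
    by_contra h4
    rw [not_le] at h4
    have := Nat.one_lt_pow ha h4
    omega
  have h5 : A.relIndex (A ⊔ E) = 1 := le_antisymm h3 (Nat.one_le_iff_ne_zero.2 (relIndex_ne _ _))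
  exact le_sup_right.trans (relIndex_eq_one.1 h5)

/-- **(4)(iii)**: `|C^y : C^x ∩ C^y|^b < |A_x : D|^a`, `D < A_x` (`A_y` any group). -/
theorem relIndex_lt [Finite H] [Finite M] {a b : ℕ} {A B : Subgroup H} (hA : Strict (fab M a b) A)
    (h : ¬ A ≤ B) : (cv M (A : Set H)).relIndex (cv M (B : Set H)) ^ b < (A ⊓ B).relIndex A ^ a := by
  have h1 := hA (A ⊓ B) (lt_of_le_of_ne inf_le_left fun h2 => h (inf_eq_left.1 h2))
  rw [fab_lt_iff inf_le_left] at h1
  refine lt_of_le_of_lt ?_ h1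
  have h2 : cv M (B : Set H) ≤ cv M ((A ⊓ B : Subgroup H) : Set H) :=
    cv_anti (SetLike.coe_subset_coe.2 inf_le_right)
  exact Nat.pow_le_pow_left (Subgroup.relIndex_le_of_le_right h2 (relIndex_ne _ _)) b

/-- general form: for `W ≤ M` invariant or not: `|W : C_W(A)|^b < |A : C_A(W)|^a` if `[W, A] ≠ 1` -/
theorem relIndex_lt_of_moves [Finite H] [Finite M] {a b : ℕ} {A : Subgroup H} (hA : Strict (fab M a b) A)
    {W : Subgroup M} {B : Subgroup H} (hB : B < A) (hW : W ≤ cv M (B : Set H)) :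
    (cv M (A : Set H)).relIndex W ^ b < B.relIndex A ^ a := by
  have h1 := hA B hB
  rw [fab_lt_iff hB.le] at h1
  exact lt_of_le_of_lt (Nat.pow_le_pow_left (Subgroup.relIndex_le_of_le_right hW (relIndex_ne _ _)) b) h1

/-- **(5)** the ratio form: if `f ≤ |M|^b` on `R` and `f = |M|^b` for some nontrivial `B ≤ R`, then `hi R ≠ ⊥` has the
value `|M|^b`. -/
theorem hi_ne_bot [Finite H] [Finite M] {a b : ℕ} {R : Subgroup H} (h1 : ∀ B ≤ R, fab M a b B ≤ Nat.card M ^ b)
    {B : Subgroup H} (hB : B ≤ R) (hB' : B ≠ ⊥) (hf : Nat.card M ^ b ≤ fab M a b B) :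
    hi (fab M a b) R ≠ ⊥ ∧ fab M a b (hi (fab M a b) R) = Nat.card M ^ b := by
  have h2 : Best (fab M a b) R B := ⟨hB, fun D hD => (h1 D hD).trans hf⟩
  refine ⟨fun h3 => hB' (le_bot_iff.1 (h3 ▸ le_hi h2)), ?_⟩
  rw [((ls_fab M a b).best_hi R).eq h2]
  exact le_antisymm (h1 B hB) hf

/-! ### The minimal parabolics -/

variable (M) in
/-- THE INPUT: no subgroup of `T` is an over-offender (of weight `a/b`) on `⟨C_M(T)^P⟩`. -/
def FFab (a b : ℕ) (T P : Subgroup H) : Prop :=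
  ∀ B ≤ T, (fx M T P).relIndex B ^ a ≤ (cv M (B : Set H)).relIndex (mp M T P) ^ b

theorem ff_core_inf [Finite H] {T P B : Subgroup H} (hT : IsPGroup 2 T) (hTs : ¬ 2 ∣ T.relIndex P)
    (hP : IsMinPar T P) (hm : Moves M T P) (hB : B ≤ T) : fx M T P ⊓ B = B ⊓ core T P := by
  apply le_antisymm
  · exact le_inf inf_le_right fun x hx => fx_inf_le (M := M) hT hTs hP hm ⟨hx.1, hB hx.2⟩
  · exact le_inf (inf_le_right.trans (core_le_fx T P)) inf_le_left

/-- `f(B) ≤ f(B ∩ O₂(P))` for all `B ≤ T` -/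
theorem fab_le_core [Finite H] [Finite M] {a b : ℕ} {T P B : Subgroup H} (hT : IsPGroup 2 T)
    (hTs : ¬ 2 ∣ T.relIndex P) (hP : IsMinPar T P) (hm : Moves M T P) (hff : FFab M a b T P) (hB : B ≤ T) :
    fab M a b B ≤ fab M a b (B ⊓ core T P) := by
  rw [fab_le_iff inf_le_left]
  have h3 := hff B hB
  have h4 : (fx M T P).relIndex B = (B ⊓ core T P).relIndex B := by
    rw [← ff_core_inf (M := M) hT hTs hP hm hB, Subgroup.inf_relIndex_right]
  rw [h4] at h3
  refine h3.trans (Nat.pow_le_pow_left (Subgroup.relIndex_le_of_le_right ?_ (relIndex_ne _ _)) b)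
  intro m hm' x hx
  exact core_le_fx (M := M) T P hx.2 m hm'

/-- strict subgroups of `T` are in `O₂(P)` -/
theorem Strict.le_core [Finite H] [Finite M] {a b : ℕ} {T P X : Subgroup H} (hX : Strict (fab M a b) X)
    (hT : IsPGroup 2 T) (hTs : ¬ 2 ∣ T.relIndex P) (hP : IsMinPar T P) (hm : Moves M T P)
    (hff : FFab M a b T P) (hXT : X ≤ T) : X ≤ core T P := by
  have h1 := fab_le_core hT hTs hP hm hff hXT
  by_contra hc
  exact absurd (hX _ (lt_of_le_of_ne inf_le_left fun h2 => hc (inf_eq_left.1 h2))) (not_lt.2 h1)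

/-- the elementary abelian version: only `FFIn` of `NoOver.lean` is needed -/
theorem Strict.le_core_of_elem [Finite H] [Finite M] {T P X : Subgroup H} (hX : Strict (fab M 1 1) X)
    (he : ∀ x ∈ X, x * x = 1) (hT : IsPGroup 2 T) (hTs : ¬ 2 ∣ T.relIndex P) (hP : IsMinPar T P)
    (hm : Moves M T P) (hff : FFIn M T P) (hXT : X ≤ T) : X ≤ core T P := by
  by_contra hc
  have h1 := hX (X ⊓ core T P) (lt_of_le_of_ne inf_le_left fun h2 => hc (inf_eq_left.1 h2))
  rw [fab_lt_iff inf_le_left, pow_one, pow_one] at h1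
  have h3 := hff X hXT he
  have h4 : (fx M T P).relIndex X = (X ⊓ core T P).relIndex X := by
    rw [← ff_core_inf (M := M) hT hTs hP hm hXT, Subgroup.inf_relIndex_right]
  rw [h4] at h3
  have h5 : (cv M (X : Set H)).relIndex (mp M T P) ≤
      (cv M (X : Set H)).relIndex (cv M ((X ⊓ core T P : Subgroup H) : Set H)) :=
    Subgroup.relIndex_le_of_le_right (fun m hm' x hx => core_le_fx (M := M) T P hx.2 m hm') (relIndex_ne _ _)
  omega

/-- `D(T) ≤ O₂(P)` with the elementary abelian input -/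
theorem dd_le_core [Finite H] [Finite M] {T P : Subgroup H} (hT : IsPGroup 2 T) (hTs : ¬ 2 ∣ T.relIndex P)
    (hP : IsMinPar T P) (hm : Moves M T P) (hff : FFIn M T P) : dd (fab M 1 1) T ≤ core T P :=
  sSup_le fun _ hX => hX.2.1.le_core_of_elem hX.2.2 hT hTs hP hm hff hX.1

/-- `D(T) = D(O₂(P))` -/
theorem dd_core_eq [Finite H] [Finite M] {T P : Subgroup H} (hT : IsPGroup 2 T) (hTs : ¬ 2 ∣ T.relIndex P)
    (hP : IsMinPar T P) (hm : Moves M T P) (hff : FFIn M T P) :
    dd (fab M 1 1) (core T P) = dd (fab M 1 1) T := by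
  refine le_antisymm (dd_mono (core_le T P)) (sSup_le fun X hX => ?_)
  exact le_dd (hX.2.1.le_core_of_elem hX.2.2 hT hTs hP hm hff hX.1) hX.2.1 hX.2.2

/-- **(3)** `A(T) ≤ O₂(P)` -/
theorem lo_le_core [Finite H] [Finite M] {a b : ℕ} {T P : Subgroup H} (hT : IsPGroup 2 T)
    (hTs : ¬ 2 ∣ T.relIndex P) (hP : IsMinPar T P) (hm : Moves M T P) (hff : FFab M a b T P) :
    lo (fab M a b) T ≤ core T P :=
  ((ls_fab M a b).strict_lo T).le_core hT hTs hP hm hff ((ls_fab M a b).lo_le_self T)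

/-- **(3)** `A(T) = A(O₂(P))` -/
theorem lo_core_eq [Finite H] [Finite M] {a b : ℕ} {T P : Subgroup H} (hT : IsPGroup 2 T)
    (hTs : ¬ 2 ∣ T.relIndex P) (hP : IsMinPar T P) (hm : Moves M T P) (hff : FFab M a b T P) :
    lo (fab M a b) (core T P) = lo (fab M a b) T :=
  lo_eq_of_le (ls_fab M a b) (core_le T P) (lo_le_core hT hTs hP hm hff)

theorem le_normalizer_core {T P : Subgroup H} : P ≤ normalizer (core T P : Set H) := by
  intro g hg
  rw [mem_normalizer_iff]
  intro x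
  refine ⟨fun hx => conj_mem_core hx hg, fun hx => ?_⟩
  have h1 := conj_mem_core hx (P.inv_mem hg)
  have h2 : g⁻¹ * (g * x * g⁻¹) * g⁻¹⁻¹ = x := by group
  rwa [h2] at h1

/-- `P` normalises `A(T)` -/
theorem le_normalizer_lo [Finite H] [Finite M] {a b : ℕ} {T P : Subgroup H} (hT : IsPGroup 2 T)
    (hTs : ¬ 2 ∣ T.relIndex P) (hP : IsMinPar T P) (hm : Moves M T P) (hff : FFab M a b T P) :
    P ≤ normalizer (lo (fab M a b) T : Set H) := by
  rw [← lo_core_eq hT hTs hP hm hff]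
  exact le_normalizer_core.trans ((ls_fab M a b).normalizer_le_lo _)

/-- `X_T N_H(T)` normalises `A(T)` -/
theorem xt_le_normalizer_lo [Finite H] [Finite M] {a b : ℕ} {T : Subgroup H} (hT : Syl T)
    (hff : ∀ P, IsMinPar T P → Moves M T P → FFab M a b T P) :
    xt M T ⊔ normalizer (T : Set H) ≤ normalizer (lo (fab M a b) T : Set H) :=
  sup_le (iSup₂_le fun P hP => le_normalizer_lo hT.1 (hT.relIndex hP.1.le) hP.1 hP.2 (hff P hP.1 hP.2))
    ((ls_fab M a b).normalizer_le_lo T)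

/-- the same for `D(T)` -/
theorem xt_le_normalizer_dd [Finite H] [Finite M] {T : Subgroup H} (hT : Syl T)
    (hff : ∀ P, IsMinPar T P → Moves M T P → FFIn M T P) :
    xt M T ⊔ normalizer (T : Set H) ≤ normalizer (dd (fab M 1 1) T : Set H) := by
  refine sup_le (iSup₂_le fun P hP => ?_) (normalizer_le_dd (ls_fab M 1 1) T)
  have h1 := dd_core_eq hT.1 (hT.relIndex hP.1.le) hP.1 hP.2 (hff P hP.1 hP.2)
  rw [← h1]
  exact le_normalizer_core.trans (normalizer_le_dd (ls_fab M 1 1) _)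

end Cfsg.Agent.Omega.ML.CD

end

section


/-!
# (ML), the K-list end: the literal rows (helper721)

`H` acts faithfully and irreducibly on `M` (`F_2`-space), `K ⊴ H` quasisimple, `|Z(K)|` odd, `C_H(K) ≤ K`, `H = KA`,
`T` a Sylow 2-subgroup of `H` which lies in at least two maximal subgroups, `A` elementary abelian, strict,
`|A| ≥ 8` and `A ≤ O₂(R)` for all `T ≤ R < H` (#16000, #16602, #16589; output of the reduction).

* `In H M K T A` : this situation;
* `Dead 𝒮` : it does not occur if `K / Z(K)` is in the class `𝒮`;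
* `AS X S T A` : the image in `X = H / Z(K)`, almost simple with socle `S`;
* `DeadG 𝒮` : the group-theoretic row: `|A| ≤ 4` if `S` is in `𝒮`;  **`DeadG.dead`**: `DeadG 𝒮 → Dead 𝒮` for
  isomorphism-closed `𝒮`;
* `AS.card_le_four` : one overgroup `R` all of whose elementary abelian subgroups of `O₂(R)` have order at most 4;
  `AS.card_le_four₂`: two overgroups.
-/

set_option autoImplicit false

namespace Cfsg.Agent.Omega.ML.Rows

open Subgroup Cfsg Cfsg.Agent.ZN Cfsg.Agent.Omega.NOThree.NoOver Cfsg.Agent.Omega.ML.CD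
open Cfsg.Agent.MinSimple.VModule (o2_isPGroup o2_le le_o2 le_normalizer_o2)

universe u v w

/-- The situation at the end of the reduction of (ML). -/
structure In (H : Type u) [Group H] (M : Type v) [Group M] [MulDistribMulAction H M] (K T A : Subgroup H) :
    Prop where
  sq : ∀ m : M, m * m = 1
  faith : ∀ h : H, (∀ m : M, h • m = m) → h = 1
  irr : ∀ W : Subgroup M, (∀ h : H, ∀ w ∈ W, h • w ∈ W) → W = ⊥ ∨ W = ⊤
  norm : K.Normal
  qs : IsQuasisimple K
  odd : Odd (Nat.card (center K))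
  cen : centralizer (K : Set H) ≤ K
  zen : ∀ z ∈ centralizer (K : Set H), ∀ h : H, h * z = z * h
  gen : K ⊔ A = ⊤
  two : IsPGroup 2 T
  syl : ¬ 2 ∣ T.index
  el : ∀ a ∈ A, a * a = 1
  strict : Strict (fab M 1 1) A
  eight : 8 ≤ Nat.card A
  low : ∀ R : Subgroup H, T ≤ R → R ≠ ⊤ → A ≤ o2 R
  nmax : ¬ ∃ N : Subgroup H, N ≠ ⊤ ∧ ∀ R : Subgroup H, T ≤ R → R ≠ ⊤ → R ≤ N
  /-- (b) of #14676 for every strict elementary abelian `B ≤ O₂(C_R(v))`, `v` fixed by a Sylow 2-subgroup of `R < H` -/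
  bb : ∀ (R P B : Subgroup H) (v : M), R ≠ ⊤ → P ≤ R → IsPGroup 2 P → ¬ 2 ∣ P.relIndex R → (∀ s ∈ P, s • v = v) →
    (∀ b ∈ B, b * b = 1) → Strict (fab M 1 1) B → B ≤ o2 (R ⊓ MulAction.stabilizer H v) → B ≤ o2 R

/-- The row of the class `𝒮` of simple groups. -/
def Dead (𝒮 : ∀ (S : Type u) [Group S], Prop) : Prop :=
  ∀ (H : Type u) [Group H] [Finite H] (M : Type v) [Group M] [Finite M] [MulDistribMulAction H M]
    (K T A : Subgroup H), In H M K T A → 𝒮 (K ⧸ center K) → False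

/-- The image of the situation in the almost simple group `X = H / Z(K)` with socle `S`. -/
structure AS {X : Type u} [Group X] (S T A : Subgroup X) : Prop where
  norm : S.Normal
  simple : IsSimpleGroup S
  cen : centralizer (S : Set X) = ⊥
  gen : S ⊔ A = ⊤
  two : IsPGroup 2 T
  syl : ¬ 2 ∣ T.index
  el : ∀ a ∈ A, a * a = 1
  low : ∀ R : Subgroup X, T ≤ R → R ≠ ⊤ → A ≤ o2 R
  nmax : ¬ ∃ N : Subgroup X, N ≠ ⊤ ∧ ∀ R : Subgroup X, T ≤ R → R ≠ ⊤ → R ≤ N

/-- The group-theoretic row of the class `𝒮`. -/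
def DeadG (𝒮 : ∀ (S : Type u) [Group S], Prop) : Prop :=
  ∀ (X : Type u) [Group X] [Finite X] (S T A : Subgroup X), AS S T A → 𝒮 S → Nat.card A ≤ 4

/-- Isomorphism-closed classes. -/
def IsoClosed (𝒮 : ∀ (S : Type u) [Group S], Prop) : Prop :=
  ∀ (S S' : Type u) [Group S] [Group S'], (S ≃* S') → 𝒮 S → 𝒮 S'

section tools

variable {X : Type u} [Group X] {S T A : Subgroup X}

/-- `T ≠ ⊤`. -/
theorem AS.ne_top (h : AS S T A) : T ≠ ⊤ := by
  intro h1
  have hsim := h.simple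
  refine h.nmax ⟨⊥, ?_, fun R hTR hR => absurd (top_le_iff.1 (h1 ▸ hTR)) hR⟩
  intro h2
  obtain ⟨x, hx⟩ := exists_ne (1 : S)
  exact hx (Subtype.ext (mem_bot.1 (h2 ▸ mem_top (x : X))))

/-- One overgroup. -/
theorem AS.card_le_four (h : AS S T A) {R : Subgroup X} (hT : T ≤ R) (hR : R ≠ ⊤)
    (hc : ∀ B ≤ o2 R, (∀ b ∈ B, b * b = 1) → Nat.card B ≤ 4) : Nat.card A ≤ 4 :=
  hc A (h.low R hT hR) h.el

/-- Two overgroups. -/
theorem AS.card_le_four₂ (h : AS S T A) {R R' : Subgroup X} (hT : T ≤ R) (hR : R ≠ ⊤) (hT' : T ≤ R')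
    (hR' : R' ≠ ⊤) (hc : ∀ B ≤ o2 R ⊓ o2 R', (∀ b ∈ B, b * b = 1) → Nat.card B ≤ 4) : Nat.card A ≤ 4 :=
  hc A (le_inf (h.low R hT hR) (h.low R' hT' hR')) h.el

/-- An overgroup with `|O₂(R)| ≤ 4`. -/
theorem AS.card_le_four_of_o2 [Finite X] (h : AS S T A) {R : Subgroup X} (hT : T ≤ R) (hR : R ≠ ⊤)
    (hc : Nat.card (o2 R) ≤ 4) : Nat.card A ≤ 4 :=
  (card_le_of_le (h.low R hT hR)).trans hc

/-- `O₂(R) ≤ S` for one overgroup `R` of `T` implies `A ≤ S`, so `X = S`. -/
theorem AS.top_of_le (h : AS S T A) {R : Subgroup X} (hT : T ≤ R) (hR : R ≠ ⊤) (hS : o2 R ≤ S) : S = ⊤ := by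
  rw [← h.gen]
  exact (sup_eq_left.2 ((h.low R hT hR).trans hS)).symm

end tools

section image

variable {H : Type u} [Group H] {M : Type v} [Group M] [MulDistribMulAction H M] {K T A : Subgroup H}

/-- The kernel `Z = C_H(K)` is central. -/
theorem In.normalZ (h : In H M K T A) : (centralizer (K : Set H)).Normal :=
  ⟨fun z hz g => by rwa [h.zen z hz g, mul_inv_cancel_right]⟩

theorem In.card_centralizer (h : In H M K T A) : Nat.card (centralizer (K : Set H)) = Nat.card (center K) := by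
  have h1 : (center K).map K.subtype = centralizer (K : Set H) := by
    ext z
    constructor
    · rintro ⟨k, hk, rfl⟩
      refine mem_centralizer_iff.2 fun y hy => ?_
      exact congrArg Subtype.val (mem_center_iff.1 hk ⟨y, hy⟩)
    · intro hz
      refine ⟨⟨z, h.cen hz⟩, mem_center_iff.2 fun y => Subtype.ext ?_, rfl⟩
      exact mem_centralizer_iff.1 hz y y.2
  rw [← h1]
  exact card_map_of_injective K.subtype_injective

end image

end Cfsg.Agent.Omega.ML.Rows

end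

section


/-!
# THEOREM ONE_s (OMEGA, NO-3S, `s ≥ 4`; #18570 of helper49), frame and elementary facts; K-free

`H` acts faithfully on `M` (exponent two), `lam ≤ U ≤ M`, `|lam| = s ≥ 4`.  `Lam H lam` = the nonzero vectors of the
conjugates of `lam` (line vectors), `bb U = C_H(U) ∩ C_H(M/U)`, `br A = [M, A]`.

`Fr lam U` : TI, (COLL), elements of `C_H(U) ∩ C_H(M/U)` normalising a line subspace centralise it, (NO_U).
`TorAct`, `CenAct` : (F2') with the torus, resp. with a field acting.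
-/

set_option autoImplicit false
set_option maxHeartbeats 400000

namespace Cfsg.Agent.Omega.NO3S.OneS

open Subgroup Cfsg.Agent.ClassTwoFusion.Quad Cfsg.Agent.Omega.NOThree.NoOver
open scoped Pointwise

variable {H : Type*} [Group H] {M : Type*} [Group M] [MulDistribMulAction H M]

section sq

omit [Group H] [MulDistribMulAction H M]

variable (sq : ∀ m : M, m * m = 1)
include sq

theorem iv (a : M) : a⁻¹ = a := inv_eq_of_mul_eq_one_right (sq a)

theorem mc (a b : M) : a * b = b * a := by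
  have h1 := sq (a * b)
  have h2 : a * b = (a * b)⁻¹ := (iv sq _).symm
  rw [h2, mul_inv_rev, iv sq, iv sq]

theorem ml (a b c : M) : a * (b * c) = b * (a * c) := by rw [← mul_assoc, mc sq a b, mul_assoc]

theorem aa (a b : M) : a * (a * b) = b := by rw [← mul_assoc, sq, one_mul]

theorem eqm {a b : M} (h : a * b = 1) : a = b := by
  have := eq_inv_of_mul_eq_one_left h
  rw [this, iv sq]

end sq

variable (H) in
/-- the line vectors -/
def Lam (lam : Subgroup M) : Set M := {v | v ≠ 1 ∧ ∃ h : H, v ∈ h • lam}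

/-- `C_H(U) ∩ C_H(M/U)` (as a predicate) -/
def IsBB (U : Subgroup M) (b : H) : Prop := (∀ u ∈ U, b • u = u) ∧ ∀ m : M, (b • m) * m ∈ U

/-- `y x m = (x m) * (x' m) ...` -/
theorem smul_mul_self (sq : ∀ m : M, m * m = 1) (a b : H) (m : M) :
    (a * b) • m * m = a • (b • m * m) * (a • m * m) := by
  rw [mul_smul, smul_mul']
  simp only [mul_assoc, aa sq]

variable (H) in
/-- `C_H(U) ∩ C_H(M/U)` for `M` of exponent two -/
def bb (sq : ∀ m : M, m * m = 1) (U : Subgroup M) : Subgroup H where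
  carrier := {b | IsBB U b}
  one_mem' := ⟨fun u _ => one_smul _ _, fun m => by rw [one_smul, sq]; exact U.one_mem⟩
  mul_mem' := by
    rintro a b ⟨ha, ha'⟩ ⟨hb, hb'⟩
    refine ⟨fun u hu => by rw [mul_smul, hb u hu, ha u hu], fun m => ?_⟩
    rw [smul_mul_self sq, ha _ (hb' m)]
    exact U.mul_mem (hb' m) (ha' m)
  inv_mem' := by
    rintro a ⟨ha, ha'⟩
    refine ⟨fun u hu => by rw [inv_smul_eq_iff, ha u hu], fun m => ?_⟩
    have h1 := ha' (a⁻¹ • m)
    rw [smul_inv_smul] at h1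
    rw [mc sq]
    exact h1

theorem mem_bb {sq : ∀ m : M, m * m = 1} {U : Subgroup M} {b : H} : b ∈ bb H sq U ↔ IsBB U b := Iff.rfl

/-- `[M, A]` for `M` of exponent two -/
def br (A : Subgroup H) : Subgroup M := closure {v | ∃ a ∈ A, ∃ m : M, v = (a • m) * m}

theorem mem_br {A : Subgroup H} {a : H} (ha : a ∈ A) (m : M) : (a • m) * m ∈ br A :=
  subset_closure ⟨a, ha, m, rfl⟩

theorem br_le {A : Subgroup H} {X : Subgroup M} (h : ∀ a ∈ A, ∀ m : M, (a • m) * m ∈ X) : br A ≤ X := by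
  refine (closure_le _).2 ?_
  rintro _ ⟨a, ha, m, rfl⟩
  exact h a ha m

theorem br_cj (g : H) (A : Subgroup H) : br (cj g A) = g • (br A : Subgroup M) := by
  apply le_antisymm
  · refine br_le fun a ha m => ?_
    rw [mem_cj] at ha
    rw [mem_pointwise_smul_iff_inv_smul_mem, smul_mul']
    have h1 := mem_br ha (g⁻¹ • m)
    rw [← mul_smul, mul_assoc, mul_assoc, mul_inv_cancel, mul_one, mul_smul] at h1
    exact h1
  · rintro _ ⟨x, hx, rfl⟩
    rw [br] at hx
    change g • x ∈ _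
    induction hx using closure_induction with
    | mem x hx =>
      obtain ⟨a, ha, m, rfl⟩ := hx
      have h1 : g * a * g⁻¹ ∈ cj g A := by
        rw [mem_cj]
        simpa [mul_assoc] using ha
      have h2 := mem_br h1 (g • m)
      rw [smul_mul']
      rwa [mul_smul, inv_smul_smul, mul_smul] at h2
    | one => rw [smul_one]; exact one_mem _
    | mul x y _ _ hx hy => rw [smul_mul']; exact mul_mem hx hy
    | inv x _ hx => rw [smul_inv']; exact inv_mem hx

/-- the frame -/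
structure Fr (H : Type*) [Group H] {M : Type*} [Group M] [MulDistribMulAction H M] (lam U : Subgroup M) : Prop where
  sq : ∀ m : M, m * m = 1
  faith : ∀ h : H, (∀ m : M, h • m = m) → h = 1
  le : lam ≤ U
  stab : ∀ h : H, h • lam = lam → h • U = U
  ti : ∀ h : H, h • lam ⊓ lam ≠ ⊥ → h • lam = lam
  coll : ∀ h : H, h • lam ≠ lam → h • lam ⊓ U ≠ ⊥ → ∀ v ∈ h • lam ⊔ lam, v ≠ 1 → v ∈ Lam H lam
  two : ∀ b : H, IsBB U b → ∀ g : H, b • g • lam = g • lam → ∀ v ∈ g • lam, b • v = v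
  no : ∀ X : Subgroup H, (∀ x ∈ X, IsBB U x) → fo M X ≤ Nat.card M
  four : 4 ≤ Nat.card lam

/-- the torus version of (F2') -/
structure TorAct (H : Type*) [Group H] {M : Type*} [Group M] [MulDistribMulAction H M] (lam U : Subgroup M) : Prop where
  tor : ∀ z ∈ lam, z ≠ 1 → ∀ z' ∈ lam, z' ≠ 1 →
    ∃ t : H, t • lam = lam ∧ (∀ u ∈ U, (t • u) * u ∈ lam) ∧ t • z = z'
  act : ∀ u ∈ U, u ∉ lam → ∃ k : H, (∀ z ∈ lam, k • z = z) ∧ (∀ u ∈ U, (k • u) * u ∈ lam) ∧ k • u ≠ u

/-- the version of (F2') with endomorphisms commuting with `H` -/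
structure CenAct (H : Type*) [Group H] {M : Type*} [Group M] [MulDistribMulAction H M] (lam U : Subgroup M) : Prop where
  cen : ∀ z ∈ lam, z ≠ 1 → ∀ z' ∈ lam, ∃ θ : M →* M, (∀ (h : H) (m : M), θ (h • m) = h • θ m) ∧
    (∀ u ∈ U, θ u ∈ U) ∧ θ z = z'
  act : ∀ u ∈ U, u ∉ lam → ∀ z ∈ lam,
    ∃ k : H, (∀ z ∈ lam, k • z = z) ∧ (∀ u ∈ U, (k • u) * u ∈ lam) ∧ k • u = u * z

theorem smul_eq_of_fix {X : Subgroup M} {g : H} (h : ∀ x ∈ X, g • x = x) : g • X = X := by
  apply le_antisymm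
  · rintro _ ⟨x, hx, rfl⟩
    change g • x ∈ X
    rw [h x hx]
    exact hx
  · intro x hx
    rw [mem_pointwise_smul_iff_inv_smul_mem, inv_smul_eq_iff.2 (h x hx).symm]
    exact hx

theorem card_smul_eq (g : H) (X : Subgroup M) : Nat.card (g • X : Subgroup M) = Nat.card X :=
  (Nat.card_congr (equivSMul g X).toEquiv).symm

theorem ne_bot_iff' {X : Subgroup M} : X ≠ ⊥ ↔ ∃ x ∈ X, x ≠ 1 := by
  rw [Ne, eq_bot_iff_forall]
  push Not
  rfl

theorem isBB_conj {U : Subgroup M} {b : H} (g : H) (h : IsBB U b) : IsBB (g • U) (g * b * g⁻¹) := by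
  refine ⟨fun u hu => ?_, fun m => ?_⟩
  · rw [mem_pointwise_smul_iff_inv_smul_mem] at hu
    rw [mul_smul, mul_smul, h.1 _ hu, smul_inv_smul]
  · rw [mem_pointwise_smul_iff_inv_smul_mem, smul_mul', ← mul_smul]
    have h1 := h.2 (g⁻¹ • m)
    rw [← mul_smul] at h1
    have h2 : g⁻¹ * (g * b * g⁻¹) = b * g⁻¹ := by group
    rw [h2]
    exact h1

namespace Fr

variable {lam U : Subgroup M} (F : Fr H lam U)
include F

theorem mc (a b : M) : a * b = b * a := OneS.mc F.sq a b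

/-- an element of `C_H(U) ∩ C_H(M/U)` is an involution -/
theorem bb_sq {b : H} (hb : IsBB U b) : b * b = 1 := by
  apply F.faith
  intro m
  have h1 := hb.1 _ (hb.2 m)
  rw [smul_mul', ← mul_smul] at h1
  have h2 : (b * b) • m = (b • m * m) * b • m := by
    rw [← h1, mul_assoc, F.sq, mul_one]
  rw [h2, F.mc (b • m) m, mul_assoc, F.sq, mul_one]

theorem bb_comm {a b : H} (ha : IsBB U a) (hb : IsBB U b) : a * b = b * a := by
  have h1 : IsBB U (a * b) := (bb H F.sq U).mul_mem ha hb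
  have h2 := F.bb_sq h1
  have h3 := F.bb_sq ha
  have h4 := F.bb_sq hb
  calc a * b = (b * b) * (a * b) * (a * a) := by rw [h3, h4, one_mul, mul_one]
    _ = b * (b * a) * (b * a) * a := by group
    _ = b * ((b * a) * (b * a)) * a := by group
    _ = b * a := by
        have h5 : (b * a) * (b * a) = 1 := F.bb_sq ((bb H F.sq U).mul_mem hb ha)
        rw [h5, mul_one]

/-- general (TI) -/
theorem ti' {g k : H} (h : g • lam ⊓ k • lam ≠ ⊥) : g • lam = k • lam := by
  obtain ⟨x, hx, hx1⟩ := ne_bot_iff'.1 h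
  have h1 : (k⁻¹ * g) • lam ⊓ lam ≠ ⊥ := by
    refine ne_bot_iff'.2 ⟨k⁻¹ • x, ⟨?_, ?_⟩, ?_⟩
    · rw [mul_smul]
      exact smul_mem_pointwise_smul _ _ _ hx.1
    · have := smul_mem_pointwise_smul x k⁻¹ _ hx.2
      rwa [inv_smul_smul] at this
    · intro hc
      apply hx1
      rw [inv_smul_eq_iff, smul_one] at hc
      exact hc
  have h2 := F.ti _ h1
  rw [mul_smul, inv_smul_eq_iff] at h2
  exact h2

/-- general (COLL) -/
theorem coll' {g k : H} (hne : g • lam ≠ k • lam) {x : M} (hx : x ∈ g • lam) (hx' : x ∈ k • U) (hx1 : x ≠ 1) {v : M}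
    (hv : v ∈ g • lam ⊔ k • lam) (hv1 : v ≠ 1) : v ∈ Lam H lam := by
  have h1 : (k⁻¹ * g) • lam ≠ lam := by
    intro h
    apply hne
    rw [mul_smul, inv_smul_eq_iff] at h
    exact h
  have h2 : (k⁻¹ * g) • lam ⊓ U ≠ ⊥ := by
    refine ne_bot_iff'.2 ⟨k⁻¹ • x, ⟨?_, ?_⟩, ?_⟩
    · rw [mul_smul]
      exact smul_mem_pointwise_smul _ _ _ hx
    · have := smul_mem_pointwise_smul x k⁻¹ _ hx'
      rwa [inv_smul_smul] at this
    · intro hc
      apply hx1
      rw [inv_smul_eq_iff, smul_one] at hc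
      exact hc
  have h3 : k⁻¹ • v ∈ (k⁻¹ * g) • lam ⊔ lam := by
    have := smul_mem_pointwise_smul v k⁻¹ _ hv
    rwa [smul_sup, inv_smul_smul, ← mul_smul] at this
  have h4 : k⁻¹ • v ≠ 1 := by
    intro hc
    apply hv1
    rw [inv_smul_eq_iff, smul_one] at hc
    exact hc
  obtain ⟨-, l, hl⟩ := F.coll _ h1 h2 _ h3 h4
  refine ⟨hv1, k * l, ?_⟩
  rw [mul_smul]
  have := smul_mem_pointwise_smul _ k _ hl
  rwa [smul_inv_smul] at this

theorem stab' {g k : H} (h : g • lam = k • lam) : g • U = k • U := by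
  have h1 : (k⁻¹ * g) • lam = lam := by rw [mul_smul, h, inv_smul_smul]
  have h2 := F.stab _ h1
  rw [mul_smul, inv_smul_eq_iff] at h2
  exact h2

/-- general `two` -/
theorem two' {g b : H} (hb : IsBB U b) (h : b • g • lam = g • lam) {v : M} (hv : v ∈ g • lam) : b • v = v :=
  F.two b hb g h v hv

theorem exists_ne : ∃ z ∈ lam, z ≠ 1 := by
  apply ne_bot_iff'.1
  rintro rfl
  have := F.four
  rw [Subgroup.card_bot] at this
  omega

end Fr

end Cfsg.Agent.Omega.NO3S.OneS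

end

section


/-!
# THEOREM ONE_s (OMEGA, NO-3S, `s ≥ 4`; #18570 of helper49): the situation and REG; K-free

`Sit lam U A f h` : `A` a minimal exact subgroup of `C_H(U) ∩ C_H(M/U)`, `f ∈ A` inverts `h` of odd order and moves
`h • lam`, and (WD).  `f₁ = h * f` swaps `lam`, `h • lam`.
-/

set_option autoImplicit false
set_option maxHeartbeats 400000

namespace Cfsg.Agent.Omega.NO3S.OneS

open Subgroup Cfsg.Agent.ClassTwoFusion.Quad Cfsg.Agent.Omega.NOThree.NoOver
open scoped Pointwise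

variable {H : Type*} [Group H] {M : Type*} [Group M] [MulDistribMulAction H M]

omit [Group H] [MulDistribMulAction H M] in
theorem nrm (sq : ∀ m : M, m * m = 1) (X : Subgroup M) : X.Normal :=
  ⟨fun x hx g => by rw [OneS.mc sq g x, mul_inv_cancel_right]; exact hx⟩

omit [Group H] [MulDistribMulAction H M] in
theorem mem_sup' (sq : ∀ m : M, m * m = 1) {X Y : Subgroup M} {m : M} :
    m ∈ X ⊔ Y ↔ ∃ x ∈ X, ∃ y ∈ Y, m = x * y := by
  have := nrm sq Y
  rw [mem_sup_of_normal_right]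
  constructor
  · rintro ⟨y, hy, z, hz, e⟩
    exact ⟨y, hy, z, hz, e.symm⟩
  · rintro ⟨y, hy, z, hz, e⟩
    exact ⟨y, hy, z, hz, e.symm⟩

/-- the situation -/
structure Sit (lam U : Subgroup M) (A : Subgroup H) (f h : H) : Prop where
  F : Fr H lam U
  hA : ∀ a ∈ A, IsBB U a
  hex : fo M A = Nat.card M
  hmin : ∀ X ≤ A, X ≠ ⊥ → X ≠ A → fo M X < Nat.card M
  hf : f ∈ A
  hodd : Odd (orderOf h)
  hinv : f * h * f = h⁻¹
  hmov : f • h • lam ≠ h • lam
  wd : ∀ v ∈ U ⊓ h • U, v ∈ br A ⊔ lam → v ∉ Lam H lam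

namespace Sit

variable {lam U : Subgroup M} {A : Subgroup H} {f h : H} (S : Sit lam U A f h)
include S

theorem ff : f * f = 1 := S.F.bb_sq (S.hA f S.hf)

theorem f_fix {u : M} (hu : u ∈ U) : f • u = u := (S.hA f S.hf).1 u hu

theorem f1_sq : (h * f) * (h * f) = 1 := by
  have h1 : (h * f) * (h * f) = h * (f * h * f) := by group
  rw [h1, S.hinv, mul_inv_cancel]

theorem f1_inv : (h * f)⁻¹ = h * f := inv_eq_of_mul_eq_one_right S.f1_sq

theorem f1_f1 (m : M) : (h * f) • (h * f) • m = m := by rw [← mul_smul, S.f1_sq, one_smul]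

theorem f1_U : (h * f) • U = h • U := by
  rw [mul_smul, smul_eq_of_fix (fun x hx => S.f_fix hx)]

theorem f1_lam : (h * f) • lam = h • lam := by
  rw [mul_smul, smul_eq_of_fix (fun x hx => S.f_fix (S.F.le hx))]

theorem f1_V : (h * f) • h • U = U := by
  rw [← S.f1_U, ← mul_smul, S.f1_sq, one_smul]

theorem f1_mu : (h * f) • h • lam = lam := by
  rw [← S.f1_lam, ← mul_smul, S.f1_sq, one_smul]

theorem f1_mem_V {u : M} (hu : u ∈ U) : (h * f) • u ∈ h • U := by
  rw [← S.f1_U]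
  exact smul_mem_pointwise_smul _ _ _ hu

theorem f1_mem_U {u : M} (hu : u ∈ h • U) : (h * f) • u ∈ U := by
  have := smul_mem_pointwise_smul u (h * f) _ hu
  rwa [S.f1_V] at this

theorem f1_mem_mu {u : M} (hu : u ∈ lam) : (h * f) • u ∈ h • lam := by
  rw [← S.f1_lam]
  exact smul_mem_pointwise_smul _ _ _ hu

theorem f1_mem_lam {u : M} (hu : u ∈ h • lam) : (h * f) • u ∈ lam := by
  have := smul_mem_pointwise_smul u (h * f) _ hu
  rwa [S.f1_mu] at this

theorem f1_ne {u : M} (hu : u ≠ 1) : (h * f) • u ≠ 1 := by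
  intro hc
  apply hu
  rw [← S.f1_f1 u, hc, smul_one]

theorem mu_le : h • lam ≤ h • U := smul_mono_right h S.F.le

theorem h_mem (K : Subgroup H) (h1 : f ∈ K) (h2 : h * f * h⁻¹ ∈ K) : h ∈ K := by
  have h3 : h ^ 2 ∈ K := by
    have h4 := K.mul_mem h1 h2
    have h5 : f * (h * f * h⁻¹) = (f * h * f) * h⁻¹ := by group
    rw [h5, S.hinv] at h4
    have h6 := K.inv_mem h4
    have h7 : (h⁻¹ * h⁻¹)⁻¹ = h ^ 2 := by group
    rwa [h7] at h6
  obtain ⟨k, hk⟩ := S.hodd
  have h4 : (h ^ 2) ^ (k + 1) = h := by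
    rw [← pow_mul]
    have : 2 * (k + 1) = orderOf h + 1 := by omega
    rw [this, pow_succ, pow_orderOf_eq_one, one_mul]
  rw [← h4]
  exact K.pow_mem h3 _

theorem g_bb : IsBB (h • U) (h * f * h⁻¹) := isBB_conj h (S.hA f S.hf)

theorem h_fix {v : M} (hv : v ∈ h • U) (hfv : f • v = v) : h • v = v := by
  have h1 := S.h_mem (MulAction.stabilizer H v) (MulAction.mem_stabilizer_iff.2 hfv)
    (MulAction.mem_stabilizer_iff.2 (S.g_bb.1 v hv))
  exact MulAction.mem_stabilizer_iff.1 h1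

theorem cvf {v : M} (hv : v ∈ h • U) (hfv : f • v = v) : v ∈ U ⊓ h • U := by
  refine ⟨?_, hv⟩
  have h1 := mem_pointwise_smul_iff_inv_smul_mem.1 hv
  rwa [inv_smul_eq_iff.2 (S.h_fix hv hfv).symm] at h1

theorem f1_D {d : M} (hd : d ∈ U ⊓ h • U) : (h * f) • d = d := by
  rw [mul_smul, S.f_fix hd.1, S.h_fix hd.2 (S.f_fix hd.1)]

theorem lam_ne : lam ≠ h • lam := by
  intro hc
  apply S.hmov
  rw [← hc, smul_eq_of_fix (fun x hx => S.f_fix (S.F.le hx))]

theorem lam_D {z : M} (hz : z ∈ lam) (hd : z ∈ U ⊓ h • U) : z = 1 := by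
  by_contra hne
  have h1 : z ∈ h • lam := by
    rw [← S.f1_D hd]
    exact S.f1_mem_mu hz
  have h2 : (1 : H) • lam ⊓ h • lam ≠ ⊥ := by
    refine ne_bot_iff'.2 ⟨z, ⟨?_, h1⟩, hne⟩
    rw [one_smul]
    exact hz
  have h3 := S.F.ti' h2
  rw [one_smul] at h3
  exact S.lam_ne h3

theorem B_bb {b : H} (hb : b ∈ cj (h * f) A) : IsBB (h • U) b := by
  rw [mem_cj] at hb
  have h1 := isBB_conj (h * f) (S.hA _ hb)
  rw [S.f1_U] at h1
  have h2 : (h * f) * ((h * f)⁻¹ * b * (h * f)) * (h * f)⁻¹ = b := by group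
  rwa [h2] at h1

theorem f1_cj {a : H} (ha : a ∈ A) : (h * f) * a * (h * f) ∈ cj (h * f) A := by
  rw [mem_cj]
  have : (h * f)⁻¹ * ((h * f) * a * (h * f)) * (h * f) = a * ((h * f) * (h * f)) := by group
  rw [this, S.f1_sq, mul_one]
  exact ha

theorem f1_cj' {b : H} (hb : b ∈ cj (h * f) A) : (h * f) * b * (h * f) ∈ A := by
  rw [mem_cj, S.f1_inv] at hb
  exact hb

theorem two_mu {b : H} (hb : IsBB U b) {z : M} (hz : z ∈ h • lam) (hz1 : z ≠ 1) (hbz : b • z = z) {z' : M}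
    (hz' : z' ∈ h • lam) : b • z' = z' := by
  have h1 : (b * h) • lam ⊓ h • lam ≠ ⊥ := by
    refine ne_bot_iff'.2 ⟨z, ⟨?_, hz⟩, hz1⟩
    rw [mul_smul, ← hbz]
    exact smul_mem_pointwise_smul _ _ _ hz
  have h2 := S.F.ti' h1
  rw [mul_smul] at h2
  exact S.F.two' hb h2 hz'

/-- (i) -/
theorem i1 {P : Subgroup H} (hP : ∀ b ∈ P, IsBB U b) (wdP : ∀ v ∈ U ⊓ h • U, v ∈ br P → v ∉ Lam H lam) {b : H}
    (hb : b ∈ P) {z : M} (hz : z ∈ h • lam) (hd : b • z * z ∈ U ⊓ h • U) : b • z = z := by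
  by_contra hne
  have hz1 : z ≠ 1 := by
    rintro rfl
    exact hne (smul_one _)
  have hv1 : b • z * z ≠ 1 := fun hc => hne (eqm S.F.sq hc)
  have hbb := hP b hb
  have h1 : (b * h) • lam ≠ h • lam := by
    intro hc
    rw [mul_smul] at hc
    exact hne (S.F.two' hbb hc hz)
  have h2 : b • z ∈ (b * h) • lam := by
    rw [mul_smul]
    exact smul_mem_pointwise_smul _ _ _ hz
  have h3 : b • z ∈ h • U := by
    have : b • z = (b • z * z) * z := by rw [mul_assoc, S.F.sq, mul_one]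
    rw [this]
    exact mul_mem hd.2 (S.mu_le hz)
  have h4 : b • z ≠ 1 := by
    intro hc
    apply hz1
    rw [smul_eq_iff_eq_inv_smul, smul_one] at hc
    exact hc
  exact wdP _ hd (mem_br hb z) (S.F.coll' h1 h2 h3 h4 (mul_mem (mem_sup_left h2) (mem_sup_right hz)) hv1)

theorem smul_V {b : H} (hfix : ∀ z ∈ h • lam, b • z = z) : b • h • U = h • U := by
  have h1 : (b * h) • lam = h • lam := by rw [mul_smul, smul_eq_of_fix hfix]
  have h2 := S.F.stab' h1
  rwa [mul_smul] at h2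

/-- (ii) -/
theorem i2 {P : Subgroup H} (hP : ∀ b ∈ P, IsBB U b) (wdP : ∀ v ∈ U ⊓ h • U, v ∈ br P → v ∉ Lam H lam) {b : H}
    (hb : b ∈ P) (hfix : ∀ z ∈ h • lam, b • z = z) {g : H} (hg : IsBB (h • U) g) {z : M} (hz : z ∈ lam) :
    b • (g • z * z) = g • z * z := by
  by_contra hne
  have hz1 : z ≠ 1 := by
    rintro rfl
    apply hne
    rw [smul_one, one_mul, smul_one]
  have hbz : b • z = z := (hP b hb).1 z (S.F.le hz)
  set v := b • (g • z * z) * (g • z * z) with hv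
  have hv' : v = b • g • z * g • z := by
    rw [hv, smul_mul', hbz, mul_assoc, S.F.mc (g • z) z, aa S.F.sq]
  have hvU : v ∈ U := (hP b hb).2 _
  have hvV : v ∈ h • U := by
    refine mul_mem ?_ (hg.2 z)
    rw [← S.smul_V hfix]
    exact smul_mem_pointwise_smul _ _ _ (hg.2 z)
  have hv1 : v ≠ 1 := fun hc => hne (eqm S.F.sq hc)
  have hbb := hP b hb
  have h1 : (b * g) • lam ≠ g • lam := by
    intro hc
    rw [mul_smul] at hc
    have := S.F.two' hbb hc (smul_mem_pointwise_smul z g _ hz)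
    apply hv1
    rw [hv', this, S.F.sq]
  have h2 : b • g • z ∈ (b * g) • lam := by
    rw [mul_smul]
    exact smul_mem_pointwise_smul _ _ _ (smul_mem_pointwise_smul _ _ _ hz)
  have h3 : b • g • z ∈ g • U := by
    have h5 : b • g • z = v * g • z := by rw [hv', mul_assoc, S.F.sq, mul_one]
    rw [h5]
    refine mul_mem ?_ (smul_mem_pointwise_smul _ _ _ (S.F.le hz))
    rw [← hg.1 v hvV]
    exact smul_mem_pointwise_smul _ _ _ hvU
  have h4 : b • g • z ≠ 1 := by
    intro hc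
    apply hz1
    rw [smul_eq_iff_eq_inv_smul, smul_one, smul_eq_iff_eq_inv_smul, smul_one] at hc
    exact hc
  refine wdP v ⟨hvU, hvV⟩ (mem_br hb _) (S.F.coll' h1 h2 h3 h4 ?_ hv1)
  rw [hv']
  exact mul_mem (mem_sup_left h2) (mem_sup_right (smul_mem_pointwise_smul _ _ _ hz))

end Sit

end Cfsg.Agent.Omega.NO3S.OneS

end

section


/-!
# THEOREM ONE_s (OMEGA, NO-3S, `s ≥ 4`; #18570 of helper49): REG; K-free

`U = D × [m, A]` for every `1 ≠ m ∈ μ`, `M = C_M(A) V`, and the images under `f₁`.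
-/

set_option autoImplicit false
set_option maxHeartbeats 400000

namespace Cfsg.Agent.Omega.NO3S.OneS

open Subgroup Cfsg.Agent.ClassTwoFusion.Quad Cfsg.Agent.Omega.NOThree.NoOver
open scoped Pointwise

variable {H : Type*} [Group H] {M : Type*} [Group M] [MulDistribMulAction H M]

/-- `b ↦ [z, b]` -/
def im (sq : ∀ m : M, m * m = 1) {U : Subgroup M} {P : Subgroup H} (hP : ∀ b ∈ P, IsBB U b) (z : M) : P →* M where
  toFun b := (b : H) • z * z
  map_one' := by
    change (1 : H) • z * z = 1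
    rw [one_smul, sq]
  map_mul' a b := by
    change ((a : H) * (b : H)) • z * z = _
    rw [smul_mul_self sq, (hP a a.2).1 _ ((hP b b.2).2 z)]
    exact OneS.mc sq _ _

theorem mem_im {sq : ∀ m : M, m * m = 1} {U : Subgroup M} {P : Subgroup H} {hP : ∀ b ∈ P, IsBB U b} {z x : M} :
    x ∈ (im sq hP z).range ↔ ∃ b ∈ P, x = b • z * z := by
  constructor
  · rintro ⟨b, hb⟩
    exact ⟨b, b.2, hb.symm⟩
  · rintro ⟨b, hb, e⟩
    exact ⟨⟨b, hb⟩, e.symm⟩

theorem card_im (sq : ∀ m : M, m * m = 1) {U : Subgroup M} {P : Subgroup H} (hP : ∀ b ∈ P, IsBB U b) (z : M) :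
    Nat.card (im sq hP z).range * Nat.card (P ⊓ MulAction.stabilizer H z : Subgroup H) = Nat.card P := by
  have h1 : (im sq hP z).ker = (P ⊓ MulAction.stabilizer H z).subgroupOf P := by
    ext b
    rw [MonoidHom.mem_ker, mem_subgroupOf]
    change (b : H) • z * z = 1 ↔ _
    constructor
    · intro h
      exact ⟨b.2, MulAction.mem_stabilizer_iff.2 (eqm sq h)⟩
    · rintro ⟨-, h⟩
      rw [MulAction.mem_stabilizer_iff.1 h, sq]
  have h2 := Subgroup.index_ker (im sq hP z)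
  have h3 := Subgroup.card_mul_index (im sq hP z).ker
  rw [h2, h1, Nat.card_congr (subgroupOfEquivOfLe inf_le_left).toEquiv] at h3
  rw [mul_comm]
  exact h3

namespace Sit

variable {lam U : Subgroup M} {A : Subgroup H} {f h : H} (S : Sit lam U A f h)
include S

theorem wdA (v : M) (hv : v ∈ U ⊓ h • U) (hv' : v ∈ br A) : v ∉ Lam H lam := S.wd v hv (mem_sup_left hv')

theorem f1_im {a : H} (z : M) : (h * f) • (a • z * z) =
    ((h * f) * a * (h * f)) • ((h * f) • z) * ((h * f) • z) := by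
  rw [smul_mul', mul_smul ((h * f) * a) (h * f), S.f1_f1, mul_smul (h * f) a]

theorem key [Finite H] [Finite M] {z : M} (hz : z ∈ h • lam) (hz1 : z ≠ 1) :
    A ⊓ MulAction.stabilizer H z = ⊥ ∧ (h * f) • (im S.F.sq S.hA z).range ⊔ cv M (A : Set H) = ⊤ := by
  set X := (im S.F.sq S.hA z).range with hX
  set P0 := A ⊓ MulAction.stabilizer H z with hP0
  have hP0f : ∀ b ∈ P0, ∀ z' ∈ h • lam, b • z' = z' := fun b hb z' hz' =>
    S.two_mu (S.hA b hb.1) hz hz1 (MulAction.mem_stabilizer_iff.1 hb.2) hz'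
  have hXD : ∀ x ∈ X, x ∈ U ⊓ h • U → x = 1 := by
    intro x hx hd
    obtain ⟨b, hb, rfl⟩ := mem_im.1 hx
    rw [S.i1 S.hA S.wdA hb hz hd, S.F.sq]
  have hYc : (h * f) • X ⊓ cv M (A : Set H) = ⊥ := by
    rw [eq_bot_iff_forall]
    rintro y ⟨⟨x, hx, rfl⟩, hy⟩
    change (h * f) • x ∈ _ at hy
    change (h * f) • x = 1
    obtain ⟨b, hb, rfl⟩ := mem_im.1 hx
    have h1 : (h * f) • (b • z * z) ∈ h • U := S.f1_mem_V ((S.hA b hb).2 z)
    have h2 := S.cvf h1 (hy f S.hf)
    have h3 := S.f1_D h2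
    rw [S.f1_f1] at h3
    rw [← h3] at h2
    rw [hXD _ hx h2, smul_one]
  have hYP : (h * f) • X ≤ cv M (P0 : Set H) := by
    rintro _ ⟨x, hx, rfl⟩
    change (h * f) • x ∈ _
    obtain ⟨b, hb, rfl⟩ := mem_im.1 hx
    intro c hc
    rw [S.f1_im]
    exact S.i2 S.hA S.wdA hc.1 (hP0f c hc) (S.B_bb (S.f1_cj hb)) (S.f1_mem_lam hz)
  have h1 := card_im S.F.sq S.hA z
  rw [← hX, ← hP0] at h1
  have hAP : cv M (A : Set H) ≤ cv M (P0 : Set H) := cv_anti (SetLike.coe_subset_coe.2 inf_le_left)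
  have h2 := card_mul_le ((h * f) • X) (cv M (A : Set H)) (cv M (P0 : Set H)) hYP hAP
  rw [hYc, card_bot, one_mul, card_smul_eq] at h2
  have h3 : P0 = ⊥ := by
    by_contra hne
    have h4 : P0 ≠ A := by
      intro hc
      apply S.hmov
      apply smul_eq_of_fix
      exact hP0f f (hc ▸ S.hf)
    have h5 := S.hmin P0 inf_le_left hne h4
    have h6 : fo M A ≤ fo M P0 := by
      unfold fo
      rw [← h1, mul_assoc, mul_left_comm]
      exact Nat.mul_le_mul_left _ h2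
    rw [S.hex] at h6
    omega
  refine ⟨h3, ?_⟩
  rw [h3, card_bot, mul_one] at h1
  have hn : (h * f) • X ≤ normalizer (cv M (A : Set H) : Set M) := by
    haveI := nrm S.F.sq (cv M (A : Set H))
    rw [normalizer_eq_top]
    exact le_top
  have h4 := card_sup_mul ((h * f) • X) (cv M (A : Set H)) hn
  rw [hYc, card_bot, mul_one, card_smul_eq, h1] at h4
  have h5 := S.hex
  unfold fo at h5
  rw [h5] at h4
  exact eq_top_of_card_eq _ h4

variable [Finite H] [Finite M]

/-- elements of `A` with a nontrivial fixed point in `μ` are trivial -/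
theorem eq_one_of {z : M} (hz : z ∈ h • lam) (hz1 : z ≠ 1) {a : H} (ha : a ∈ A) (haz : a • z = z) : a = 1 := by
  have h1 : a ∈ A ⊓ MulAction.stabilizer H z := ⟨ha, MulAction.mem_stabilizer_iff.2 haz⟩
  rw [(S.key hz hz1).1] at h1
  exact mem_bot.1 h1

theorem exists_mu : ∃ z ∈ h • lam, z ≠ 1 := by
  obtain ⟨z, hz, hz1⟩ := S.F.exists_ne
  exact ⟨_, S.f1_mem_mu hz, S.f1_ne hz1⟩

theorem r3 (m : M) : ∃ v ∈ h • U, ∃ c ∈ cv M (A : Set H), m = v * c := by
  obtain ⟨z, hz, hz1⟩ := S.exists_mu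
  have h1 : m ∈ (h * f) • (im S.F.sq S.hA z).range ⊔ cv M (A : Set H) := by
    rw [(S.key hz hz1).2]
    trivial
  obtain ⟨y, ⟨x, hx, rfl⟩, c, hc, e⟩ := (mem_sup' S.F.sq).1 h1
  obtain ⟨b, hb, rfl⟩ := mem_im.1 hx
  exact ⟨_, S.f1_mem_V ((S.hA b hb).2 z), c, hc, e⟩

/-- `M = U C_M(B)` -/
theorem r4 (m : M) : ∃ u ∈ U, ∃ c ∈ cv M ((cj (h * f) A : Subgroup H) : Set H), m = u * c := by
  obtain ⟨v, hv, c, hc, e⟩ := S.r3 ((h * f) • m)
  refine ⟨_, S.f1_mem_U hv, (h * f) • c, ?_, ?_⟩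
  · intro b hb
    have h1 := hc _ (S.f1_cj' hb)
    rw [mul_smul, mul_smul] at h1
    rw [← S.f1_f1 (b • (h * f) • c), h1]
  · rw [← smul_mul', ← e, S.f1_f1]

/-- `V = [z', B] D` -/
theorem r2 {z : M} (hz : z ∈ lam) (hz1 : z ≠ 1) {v : M} (hv : v ∈ h • U) :
    ∃ b ∈ cj (h * f) A, ∃ d ∈ U ⊓ h • U, v = (b • z * z) * d := by
  have hz' := S.f1_mem_mu hz
  have h1 : v ∈ (h * f) • (im S.F.sq S.hA ((h * f) • z)).range ⊔ cv M (A : Set H) := by
    rw [(S.key hz' (S.f1_ne hz1)).2]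
    trivial
  obtain ⟨y, ⟨x, hx, rfl⟩, c, hc, e⟩ := (mem_sup' S.F.sq).1 h1
  obtain ⟨b, hb, rfl⟩ := mem_im.1 hx
  change v = (h * f) • _ * c at e
  have h2 : (h * f) • (b • (h * f) • z * (h * f) • z) ∈ h • U := S.f1_mem_V ((S.hA b hb).2 _)
  have h3 : c ∈ h • U := by
    have : c = (h * f) • (b • (h * f) • z * (h * f) • z) * v := by rw [e, aa S.F.sq]
    rw [this]
    exact mul_mem h2 hv
  refine ⟨_, S.f1_cj hb, c, S.cvf h3 (hc f S.hf), ?_⟩
  rw [e, S.f1_im, S.f1_f1]

/-- `U = [z, A] D` -/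
theorem r1 {z : M} (hz : z ∈ h • lam) (hz1 : z ≠ 1) {u : M} (hu : u ∈ U) :
    ∃ a ∈ A, ∃ d ∈ U ⊓ h • U, u = (a • z * z) * d := by
  obtain ⟨b, hb, d, hd, e⟩ := S.r2 (S.f1_mem_lam hz) (S.f1_ne hz1) (S.f1_mem_V hu)
  refine ⟨_, S.f1_cj' hb, d, hd, ?_⟩
  rw [← S.f1_f1 u, e, smul_mul', S.f1_D hd, S.f1_im, S.f1_f1]

end Sit

end Cfsg.Agent.Omega.NO3S.OneS

end

section


/-!
# THEOREM ONE_s (OMEGA, NO-3S, `s ≥ 4`; #18570 of helper49): the conjugates `A^g`, `g` trivial on `U/lam`; K-free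

`Semi lam U g` : `g` stabilises `lam` and acts trivially on `U/lam`.  `A^g` induces on `V` a subgroup of what `A`
induces (`act_V`); its subgroup fixing `V` is `1` or `A^g` (`dich`); in the first case `[M, A]^g = [M, A]` (`same`), in
the second `[[M, A]^g, B] ≤ ([M, A]^g)^f₁` (`three`).
-/

set_option autoImplicit false
set_option maxHeartbeats 400000

namespace Cfsg.Agent.Omega.NO3S.OneS

open Subgroup Cfsg.Agent.ClassTwoFusion.Quad Cfsg.Agent.Omega.NOThree.NoOver
open scoped Pointwise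

variable {H : Type*} [Group H] {M : Type*} [Group M] [MulDistribMulAction H M]

/-- `g ∈ Stab(lam)` is trivial on `U/lam` -/
structure Semi (lam U : Subgroup M) (g : H) : Prop where
  st : g • lam = lam
  cl : ∀ u ∈ U, g • u * u ∈ lam

variable (H) in
/-- the elements of `C_H(U) ∩ C_H(M/U)` with `[M, b] ≤ X` -/
def bx (sq : ∀ m : M, m * m = 1) (U X : Subgroup M) : Subgroup H where
  carrier := {b | IsBB U b ∧ ∀ m : M, b • m * m ∈ X}
  one_mem' := ⟨(bb H sq U).one_mem, fun m => by rw [one_smul, sq]; exact X.one_mem⟩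
  mul_mem' := by
    rintro a b ⟨ha, ha'⟩ ⟨hb, hb'⟩
    refine ⟨(bb H sq U).mul_mem ha hb, fun m => ?_⟩
    rw [smul_mul_self sq, ha.1 _ (hb.2 m)]
    exact X.mul_mem (hb' m) (ha' m)
  inv_mem' := by
    rintro a ⟨ha, ha'⟩
    refine ⟨(bb H sq U).inv_mem ha, fun m => ?_⟩
    have h1 := ha' (a⁻¹ • m)
    rw [smul_inv_smul] at h1
    rw [mc sq]
    exact h1

variable (H) in
/-- the elements of `C_H(U) ∩ C_H(M/U)` fixing `V` pointwise -/
def KK (sq : ∀ m : M, m * m = 1) (U V : Subgroup M) : Subgroup H := bb H sq U ⊓ fixingSubgroup H (V : Set M)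

theorem mem_KK {sq : ∀ m : M, m * m = 1} {U V : Subgroup M} {b : H} :
    b ∈ KK H sq U V ↔ IsBB U b ∧ ∀ v ∈ V, b • v = v := by
  rw [KK, mem_inf, mem_fixingSubgroup_iff]
  rfl

theorem card_cj (g : H) (X : Subgroup H) : Nat.card (cj g X) = Nat.card X :=
  (Nat.card_congr (X.equivMapOfInjective _ (MulAut.conj g).injective).toEquiv).symm

theorem cj_inv_cj (g : H) (X : Subgroup H) : cj g (cj g⁻¹ X) = X := by
  ext x
  rw [mem_cj, mem_cj]
  have : g⁻¹⁻¹ * (g⁻¹ * x * g) * g⁻¹ = x := by group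
  rw [this]

theorem cj_inv_cj' (g : H) (X : Subgroup H) : cj g⁻¹ (cj g X) = X := by
  ext x
  rw [mem_cj, mem_cj]
  have : g⁻¹ * (g⁻¹⁻¹ * x * g⁻¹) * g = x := by group
  rw [this]

namespace Fr

variable {lam U : Subgroup M} (F : Fr H lam U)
include F

theorem le_norm {X Y : Subgroup H} (hX : ∀ x ∈ X, IsBB U x) (hY : ∀ y ∈ Y, IsBB U y) :
    X ≤ normalizer (Y : Set H) := by
  intro x hx
  have hc : ∀ y : H, IsBB U y → x * y * x⁻¹ = y := fun y hy => by
    rw [F.bb_comm (hX x hx) hy, mul_inv_cancel_right]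
  rw [mem_normalizer_iff]
  intro y
  constructor
  · intro hy
    rw [hc y (hY y hy)]
    exact hy
  · intro hy
    have h1 := hY _ hy
    have h2 : x⁻¹ * (x * y * x⁻¹) * x⁻¹⁻¹ = y := by group
    have h3 : x⁻¹ * (x * y * x⁻¹) * x⁻¹⁻¹ = x * y * x⁻¹ := by
      rw [F.bb_comm ((bb H F.sq U).inv_mem (hX x hx) : IsBB U x⁻¹) h1, mul_inv_cancel_right]
    rw [← h2, h3]
    exact hy

theorem semi_U {g : H} (hg : Semi lam U g) : g • U = U := F.stab g hg.st

theorem cj_bb {g : H} (hg : Semi lam U g) {A : Subgroup H} (hA : ∀ a ∈ A, IsBB U a) :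
    ∀ b ∈ cj g A, IsBB U b := by
  intro b hb
  rw [mem_cj] at hb
  have h1 := isBB_conj g (hA _ hb)
  rw [F.semi_U hg] at h1
  have h2 : g * (g⁻¹ * b * g) * g⁻¹ = b := by group
  rwa [h2] at h1

theorem sup_bb {X Y : Subgroup H} (hX : ∀ x ∈ X, IsBB U x) (hY : ∀ y ∈ Y, IsBB U y) :
    ∀ b ∈ X ⊔ Y, IsBB U b := by
  have h1 : X ⊔ Y ≤ bb H F.sq U := sup_le (fun x hx => hX x hx) (fun y hy => hY y hy)
  exact fun b hb => h1 hb

end Fr

namespace Sit

variable {lam U : Subgroup M} {A : Subgroup H} {f h : H} (S : Sit lam U A f h)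
include S

theorem br_le_U : br A ≤ U := br_le fun a ha m => (S.hA a ha).2 m

theorem smul_br_le {g : H} (hg : Semi lam U g) : g • (br A : Subgroup M) ≤ br A ⊔ lam := by
  rintro _ ⟨r, hr, rfl⟩
  change g • r ∈ _
  have h1 : g • r = r * (g • r * r) := by rw [S.F.mc r, mul_assoc, S.F.sq, mul_one]
  rw [h1]
  exact mul_mem (mem_sup_left hr) (mem_sup_right (hg.cl r (S.br_le_U hr)))

theorem br_sup_le {g : H} (hg : Semi lam U g) : br (A ⊔ cj g A) ≤ br A ⊔ lam := by
  have h1 : A ⊔ cj g A ≤ bx H S.F.sq U (br A ⊔ lam) := by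
    refine sup_le (fun a ha => ⟨S.hA a ha, fun m => mem_sup_left (mem_br ha m)⟩) ?_
    intro b hb
    refine ⟨S.F.cj_bb hg S.hA b hb, fun m => S.smul_br_le hg ?_⟩
    rw [← br_cj]
    exact mem_br hb m
  exact br_le fun a ha m => (h1 ha).2 m

theorem wd' {g : H} (hg : Semi lam U g) (v : M) (hv : v ∈ U ⊓ h • U) (hv' : v ∈ br (A ⊔ cj g A)) :
    v ∉ Lam H lam := S.wd v hv (S.br_sup_le hg hv')

variable [Finite H] [Finite M]

/-- what `A^g` induces on `V` is induced by `A` -/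
theorem act_V {g : H} (hg : Semi lam U g) {b : H} (hb : b ∈ A ⊔ cj g A) :
    ∃ a ∈ A, ∀ v ∈ h • U, (a * b) • v = v := by
  obtain ⟨z, hz, hz1⟩ := S.exists_mu
  have hP := S.F.sup_bb S.hA (S.F.cj_bb hg S.hA)
  obtain ⟨a, ha, d, hd, e⟩ := S.r1 hz hz1 ((hP b hb).2 z)
  refine ⟨a, ha, ?_⟩
  have hc : a * b ∈ A ⊔ cj g A := mul_mem (mem_sup_left ha) hb
  have h1 : (a * b) • z * z = d := by
    rw [smul_mul_self S.F.sq, (S.hA a ha).1 _ ((hP b hb).2 z), e, S.F.mc _ (a • z * z), aa S.F.sq]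
  have h2 : (a * b) • z = z := S.i1 hP (S.wd' hg) hc hz (by rw [h1]; exact hd)
  have h3 : ∀ z' ∈ h • lam, (a * b) • z' = z' := fun z' hz' => S.two_mu (hP _ hc) hz hz1 h2 hz'
  obtain ⟨z₀, hz₀, hz₀1⟩ := S.F.exists_ne
  intro v hv
  obtain ⟨b', hb', d', hd', rfl⟩ := S.r2 hz₀ hz₀1 hv
  rw [smul_mul', S.i2 hP (S.wd' hg) hc h3 (S.B_bb hb') hz₀, (hP _ hc).1 d' hd'.1]

/-- `A ∩ K = 1`, `K` the elements of `C_H(U) ∩ C_H(M/U)` fixing `V` -/
theorem inf_KK : A ⊓ KK H S.F.sq U (h • U) = ⊥ := by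
  obtain ⟨z, hz, hz1⟩ := S.exists_mu
  rw [eq_bot_iff_forall]
  rintro a ⟨ha, ha'⟩
  exact S.eq_one_of hz hz1 ha ((mem_KK.1 ha').2 z (S.mu_le hz))

omit [Finite H] [Finite M] in
theorem KK_bb : ∀ b ∈ KK H S.F.sq U (h • U), IsBB U b := fun _ hb => (mem_KK.1 hb).1

/-- the element of `A` acting like `b ∈ A^g` is in `E` -/
theorem mem_E {g : H} {a b : H} (ha : a ∈ A) (hb : b ∈ cj g A) (hg : Semi lam U g)
    (hab : ∀ v ∈ h • U, (a * b) • v = v) :
    a ∈ A ⊓ (cj g A ⊔ KK H S.F.sq U (h • U)) := by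
  refine ⟨ha, ?_⟩
  have h1 : a * b ∈ KK H S.F.sq U (h • U) :=
    mem_KK.2 ⟨(bb H S.F.sq U).mul_mem (S.hA a ha) (S.F.cj_bb hg S.hA b hb), hab⟩
  have h2 : a = (a * b) * b⁻¹ := by group
  rw [h2]
  exact mul_mem (mem_sup_right h1) (Subgroup.inv_mem _ (mem_sup_left hb))

theorem sup_KK {g : H} (hg : Semi lam U g) :
    A ⊓ (cj g A ⊔ KK H S.F.sq U (h • U)) ⊔ KK H S.F.sq U (h • U) = cj g A ⊔ KK H S.F.sq U (h • U) := by
  apply le_antisymm
  · exact sup_le inf_le_right le_sup_right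
  · refine sup_le ?_ le_sup_right
    intro b hb
    obtain ⟨a, ha, hab⟩ := S.act_V hg (mem_sup_right hb)
    have h1 : a * b ∈ KK H S.F.sq U (h • U) :=
      mem_KK.2 ⟨(bb H S.F.sq U).mul_mem (S.hA a ha) (S.F.cj_bb hg S.hA b hb), hab⟩
    have h2 : b = a⁻¹ * (a * b) := by group
    rw [h2]
    exact mul_mem (Subgroup.inv_mem _ (mem_sup_left (S.mem_E ha hb hg hab))) (mem_sup_right h1)

theorem card_E {g : H} (hg : Semi lam U g) :
    Nat.card (A ⊓ (cj g A ⊔ KK H S.F.sq U (h • U)) : Subgroup H) *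
      Nat.card (cj g A ⊓ KK H S.F.sq U (h • U) : Subgroup H) = Nat.card A := by
  set K := KK H S.F.sq U (h • U) with hK
  set E := A ⊓ (cj g A ⊔ K) with hE
  have hEb : ∀ x ∈ E, IsBB U x := fun x hx => S.hA x hx.1
  have h1 := card_sup_mul E K (S.F.le_norm hEb S.KK_bb)
  have h2 := card_sup_mul (cj g A) K (S.F.le_norm (S.F.cj_bb hg S.hA) S.KK_bb)
  have h3 : E ⊓ K = ⊥ := by
    rw [eq_bot_iff, ← S.inf_KK]
    exact inf_le_inf_right _ inf_le_left
  rw [h3, card_bot, mul_one, S.sup_KK hg] at h1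
  rw [h1, card_cj] at h2
  have h4 : 0 < Nat.card K := Nat.card_pos
  apply Nat.eq_of_mul_eq_mul_left h4
  rw [← mul_assoc, mul_comm (Nat.card K) (Nat.card E), h2, mul_comm]

theorem cv_E {g : H} (hg : Semi lam U g) :
    h • U ⊓ cv M ((A ⊓ (cj g A ⊔ KK H S.F.sq U (h • U)) : Subgroup H) : Set H) =
      h • U ⊓ cv M ((cj g A : Subgroup H) : Set H) := by
  apply le_antisymm
  · rintro v ⟨hv, hv'⟩
    refine ⟨hv, fun b hb => ?_⟩
    obtain ⟨a, ha, hab⟩ := S.act_V hg (mem_sup_right hb)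
    have h1 := hv' a (S.mem_E ha hb hg hab)
    have h2 := hab v hv
    rw [mul_smul] at h2
    have h3 := S.F.bb_sq (S.hA a ha)
    rw [← one_smul H (b • v), ← h3, mul_smul, h2, h1]
  · rintro v ⟨hv, hv'⟩
    refine ⟨hv, ?_⟩
    have h1 : cj g A ⊔ KK H S.F.sq U (h • U) ≤ MulAction.stabilizer H v :=
      sup_le (fun b hb => MulAction.mem_stabilizer_iff.2 (hv' b hb))
        (fun b hb => MulAction.mem_stabilizer_iff.2 ((mem_KK.1 hb).2 v hv))
    exact fun b hb => MulAction.mem_stabilizer_iff.1 (h1 hb.2)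

theorem V_sup : h • U ⊔ cv M (A : Set H) = ⊤ := by
  rw [eq_top_iff]
  intro m _
  obtain ⟨v, hv, c, hc, rfl⟩ := S.r3 m
  exact mul_mem (mem_sup_left hv) (mem_sup_right hc)

omit [Finite H] [Finite M] in
theorem card_supM (X Y : Subgroup M) :
    Nat.card (X ⊔ Y : Subgroup M) * Nat.card (X ⊓ Y : Subgroup M) = Nat.card X * Nat.card Y := by
  refine card_sup_mul X Y ?_
  have := nrm S.F.sq Y
  rw [normalizer_eq_top]
  exact le_top

omit [Finite H] [Finite M] in
theorem hmin' {g : H} {X : Subgroup H} (hX : X ≤ cj g A) (h1 : X ≠ ⊥) (h2 : X ≠ cj g A) :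
    fo M X < Nat.card M := by
  have h3 : fo M (cj g⁻¹ X) = fo M X := Star.map_fo g⁻¹ X
  rw [← h3]
  refine S.hmin _ ?_ ?_ ?_
  · have := cj_mono (g := g⁻¹) hX
    rwa [cj_inv_cj'] at this
  · intro hc
    apply h1
    rw [← cj_inv_cj g X, hc]
    exact Subgroup.map_bot _
  · intro hc
    apply h2
    rw [← cj_inv_cj g X, hc]

/-- the elements of `A^g` fixing `V` : all or nothing -/
theorem dich {g : H} (hg : Semi lam U g) :
    cj g A ⊓ KK H S.F.sq U (h • U) = ⊥ ∨ cj g A ≤ KK H S.F.sq U (h • U) := by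
  by_contra hcon
  push Not at hcon
  obtain ⟨hc1, hc2⟩ := hcon
  set K := KK H S.F.sq U (h • U) with hK
  set A0 := cj g A ⊓ K with hA0
  have h6 : fo M A0 < Nat.card M := S.hmin' inf_le_left hc1 fun hc => hc2 (inf_eq_left.1 hc)
  have h1 := S.card_E hg
  set E := A ⊓ (cj g A ⊔ K) with hE
  have h2 : fo M (cj g A) = Nat.card M := (Star.map_fo g A).trans S.hex
  have h3 : fo M E ≤ Nat.card M := S.F.no E fun x hx => S.hA x hx.1
  have h4 := S.card_supM (h • U) (cv M (E : Set H))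
  have h4' : h • U ⊔ cv M (E : Set H) = ⊤ := by
    rw [eq_top_iff, ← S.V_sup]
    exact sup_le_sup_left (cv_anti (SetLike.coe_subset_coe.2 inf_le_left)) _
  rw [h4', card_top, S.cv_E hg] at h4
  have h5 := card_mul_le (h • U) (cv M ((cj g A : Subgroup H) : Set H)) (cv M (A0 : Set H))
    (fun v hv b hb => (mem_KK.1 hb.2).2 v hv) (cv_anti (SetLike.coe_subset_coe.2 inf_le_left))
  change Nat.card E * Nat.card A0 = Nat.card A at h1
  unfold fo at h2 h3 h6
  rw [card_cj] at h2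
  generalize Nat.card E = e at *
  generalize Nat.card (A0 : Subgroup H) = a0 at *
  generalize Nat.card (cv M ((cj g A : Subgroup H) : Set H)) = cg at *
  generalize Nat.card (cv M (A0 : Set H)) = c0 at *
  have hvE : 0 < Nat.card (h • U ⊓ cv M ((cj g A : Subgroup H) : Set H) : Subgroup M) := Nat.card_pos
  generalize Nat.card (h • U ⊓ cv M ((cj g A : Subgroup H) : Set H) : Subgroup M) = vE at *
  have hcE : 0 < Nat.card (cv M (E : Set H)) := Nat.card_pos
  generalize Nat.card (cv M (E : Set H)) = cE at *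
  generalize Nat.card (h • U : Subgroup M) = v at *
  generalize Nat.card A = a at *
  generalize Nat.card M = m at *
  have h7 : e * vE ≤ v := by
    refine Nat.le_of_mul_le_mul_right (c := cE) ?_ hcE
    calc e * vE * cE = (e * cE) * vE := by ring
      _ ≤ m * vE := Nat.mul_le_mul_right _ h3
      _ = v * cE := h4
  have h8 : e * cg ≤ c0 := by
    refine (Nat.mul_le_mul_left_iff hvE).1 ?_
    calc vE * (e * cg) = (e * vE) * cg := by ring
      _ ≤ v * cg := Nat.mul_le_mul_right _ h7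
      _ ≤ vE * c0 := h5
  have h9 : m ≤ a0 * c0 := by
    calc m = a0 * (e * cg) := by rw [← h2, ← h1]; ring
      _ ≤ a0 * c0 := Nat.mul_le_mul_left _ h8
  omega

/-- first case: `[M, A]^g = [M, A]` -/
theorem same {g : H} (hg : Semi lam U g) (h0 : cj g A ⊓ KK H S.F.sq U (h • U) = ⊥) :
    g • (br A : Subgroup M) = br A := by
  have h1 := S.card_E hg
  rw [h0, card_bot, mul_one] at h1
  have h2 : A ⊓ (cj g A ⊔ KK H S.F.sq U (h • U)) = A := eq_of_le_of_card_ge inf_le_left h1.ge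
  have h3 := S.cv_E hg
  rw [h2] at h3
  have h4 := S.card_supM (h • U) (cv M (A : Set H))
  have h5 := S.card_supM (h • U) (cv M ((cj g A : Subgroup H) : Set H))
  have h6 : Nat.card (cv M ((cj g A : Subgroup H) : Set H)) = Nat.card (cv M (A : Set H)) := by
    have h7 : fo M (cj g A) = fo M A := Star.map_fo g A
    unfold fo at h7
    rw [card_cj] at h7
    exact Nat.eq_of_mul_eq_mul_left Nat.card_pos h7
  rw [← h3, h6, ← h4, h3] at h5
  have h7 : h • U ⊔ cv M ((cj g A : Subgroup H) : Set H) = ⊤ := by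
    apply eq_top_of_card_eq
    rw [Nat.eq_of_mul_eq_mul_right Nat.card_pos h5, S.V_sup, card_top]
  have h8 : (br (cj g A) : Subgroup M) ≤ br A := by
    refine br_le fun b hb m => ?_
    have hm : m ∈ h • U ⊔ cv M ((cj g A : Subgroup H) : Set H) := by
      rw [h7]
      trivial
    obtain ⟨v, hv, c, hc, rfl⟩ := (mem_sup' S.F.sq).1 hm
    obtain ⟨a, ha, hab⟩ := S.act_V hg (mem_sup_right hb)
    have h9 := hab v hv
    rw [mul_smul] at h9
    have h10 : b • v = a • v := by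
      rw [← one_smul H (b • v), ← S.F.bb_sq (S.hA a ha), mul_smul, h9]
    have h11 : b • c = c := hc b hb
    rw [smul_mul', h10, h11, mul_assoc, S.F.mc v c, aa S.F.sq]
    exact mem_br ha v
  rw [br_cj] at h8
  exact eq_of_le_of_card_ge h8 (card_smul_eq _ _).ge

omit [Finite H] in
theorem smul_eq_of {X : Subgroup M} {x : H} (hx : ∀ m ∈ X, x • m * m ∈ X) : x • X = X := by
  refine eq_of_le_of_card_ge ?_ (card_smul_eq _ _).ge
  rintro _ ⟨c, hc, rfl⟩
  change x • c ∈ X
  have h1 : x • c = (x • c * c) * c := by rw [mul_assoc, S.F.sq, mul_one]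
  rw [h1]
  exact mul_mem (hx c hc) hc

/-- second case -/
theorem three {g : H} (hg : Semi lam U g) (h1 : cj g A ≤ KK H S.F.sq U (h • U)) {r : M}
    (hr : r ∈ g • (br A : Subgroup M)) {y : H} (hy : y ∈ cj (h * f) A) :
    y • r * r ∈ (h * f) • g • (br A : Subgroup M) := by
  set C := cv M ((cj g A : Subgroup H) : Set H) with hC
  have hAg := S.F.cj_bb hg S.hA
  have hUC : U ≤ C := fun u hu b hb => (hAg b hb).1 u hu
  have hVC : h • U ≤ C := fun v hv b hb => (mem_KK.1 (h1 hb)).2 v hv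
  have hfC : f ∈ MulAction.stabilizer H C :=
    MulAction.mem_stabilizer_iff.2 (S.smul_eq_of fun m _ => hUC ((S.hA f S.hf).2 m))
  have hgC : h * f * h⁻¹ ∈ MulAction.stabilizer H C :=
    MulAction.mem_stabilizer_iff.2 (S.smul_eq_of fun m _ => hVC (S.g_bb.2 m))
  have hhC := S.h_mem _ hfC hgC
  have hf1C : (h * f) • C = C := MulAction.mem_stabilizer_iff.1 (mul_mem hhC hfC)
  -- the double centraliser
  have hX : KK H S.F.sq U C = cj g A := by
    symm
    refine eq_of_le_of_card_ge (fun b hb => mem_KK.2 ⟨hAg b hb, fun c hc => hc b hb⟩) ?_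
    have h2 := S.F.no (KK H S.F.sq U C) fun x hx => (mem_KK.1 hx).1
    have h3 : fo M (cj g A) = Nat.card M := (Star.map_fo g A).trans S.hex
    have h4 : Nat.card C ≤ Nat.card (cv M ((KK H S.F.sq U C : Subgroup H) : Set H)) :=
      Subgroup.card_le_of_le fun c hc b hb => (mem_KK.1 hb).2 c hc
    rw [← h3] at h2
    unfold fo at h2
    rw [← hC] at h2
    refine Nat.le_of_mul_le_mul_right (c := Nat.card C) ?_ Nat.card_pos
    exact (Nat.mul_le_mul_left _ h4).trans h2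
  have hyb := S.B_bb hy
  have hyC : ∀ c ∈ C, y • c ∈ C := by
    intro c hc
    have h2 : y • c = (y • c * c) * c := by rw [mul_assoc, S.F.sq, mul_one]
    rw [h2]
    exact mul_mem (hVC (hyb.2 c)) hc
  have hyy : ∀ m : M, y • y • m = m := fun m => by
    have h2 : y * y = 1 := by
      apply S.F.faith
      intro m
      have h3 := hyb.1 _ (hyb.2 m)
      rw [smul_mul', ← mul_smul] at h3
      have h4 : (y * y) • m = (y • m * m) * y • m := by
        rw [← h3, mul_assoc, S.F.sq, mul_one]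
      rw [h4, S.F.mc (y • m) m, mul_assoc, S.F.sq, mul_one]
    rw [← mul_smul, h2, one_smul]
  -- generators
  have hgen : ∀ b ∈ cj g A, ∀ m : M, y • (b • m * m) * (b • m * m) ∈ (h * f) • g • (br A : Subgroup M) := by
    intro b hb m
    have hbb : ∀ m : M, b • b • m = m := fun m => by
      rw [← mul_smul, S.F.bb_sq (hAg b hb), one_smul]
    have hbV : ∀ v ∈ h • U, b • v = v := (mem_KK.1 (h1 hb)).2
    have hkV : IsBB (h • U) (y * b * y * b) := by
      refine ⟨fun v hv => ?_, fun m => ?_⟩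
      · rw [mul_smul, mul_smul, mul_smul, hbV v hv, hyb.1 v hv, hbV v hv, hyb.1 v hv]
      · have h2 : y • b • m = (y • b • m * b • m) * b • m := by rw [mul_assoc, S.F.sq, mul_one]
        have h3 : b • y • b • m = (y • b • m * b • m) * m := by
          rw [h2, smul_mul', hbV _ (hyb.2 _), hbb]
          rw [mul_assoc (y • b • m * b • m), S.F.sq, mul_one]
        have h4 : (y * b * y * b) • m * m = (y • b • m * b • m) * (y • m * m) := by
          rw [mul_smul, mul_smul, mul_smul, h3, smul_mul', hyb.1 _ (hyb.2 _), mul_assoc]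
        rw [h4]
        exact mul_mem (hyb.2 _) (hyb.2 _)
    have hkC : ∀ c ∈ C, (y * b * y * b) • c = c := by
      intro c hc
      rw [mul_smul, mul_smul, mul_smul, (hc b hb : b • c = c), (hyC c hc b hb : b • y • c = y • c), hyy]
    have hk : y * b * y * b ∈ cj (h * f) (cj g A) := by
      rw [mem_cj, ← hX, mem_KK]
      refine ⟨?_, fun c hc => ?_⟩
      · have h2 := isBB_conj (h * f)⁻¹ hkV
        rw [inv_inv] at h2
        have h3 : (h * f)⁻¹ • h • U = U := by rw [S.f1_inv, S.f1_V]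
        rwa [h3] at h2
      · rw [mul_smul, mul_smul]
        have h2 : (h * f) • c ∈ C := by
          rw [← hf1C]
          exact smul_mem_pointwise_smul _ _ _ hc
        rw [hkC _ h2, inv_smul_smul]
    have h5 := mem_br hk (b • y • m)
    rw [br_cj, br_cj] at h5
    have h6 : (y * b * y * b) • b • y • m = y • b • m := by
      rw [mul_smul, mul_smul, mul_smul, hbb, hyy]
    rw [h6] at h5
    have h7 : y • (b • m * m) * (b • m * m) = y • b • m * b • y • m := by
      have h8 : b • y • m = (y • m * m) * b • m := by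
        have h9 : y • m = (y • m * m) * m := by rw [mul_assoc, S.F.sq, mul_one]
        rw [h9, smul_mul', hbV _ (hyb.2 _)]
        rw [mul_assoc (y • m * m), S.F.sq, mul_one]
      rw [h8, smul_mul']
      simp only [mul_assoc]
      rw [S.F.mc (b • m) m]
    rw [h7]
    exact h5
  -- all of `[M, A^g]`
  rw [← br_cj] at hr
  unfold br at hr
  induction hr using closure_induction with
  | mem x hx =>
    obtain ⟨b, hb, m, rfl⟩ := hx
    exact hgen b hb m
  | one => rw [smul_one, one_mul]; exact one_mem _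
  | mul a b _ _ ha hb =>
    have h2 : y • (a * b) * (a * b) = (y • a * a) * (y • b * b) := by
      rw [smul_mul']
      simp only [mul_assoc]
      rw [ml S.F.sq a]
    rw [h2]
    exact mul_mem ha hb
  | inv a _ ha => rw [iv S.F.sq]; exact ha

end Sit

end Cfsg.Agent.Omega.NO3S.OneS

end

section


/-!
# THEOREM ONE_s (OMEGA, NO-3S, `s ≥ 4`; #18570 of helper49); K-free

`Sit.lam_le` : under (WD), `lam ≤ [M, A]`.  `Fr.lam_le_of`, `Fr.exists_line_of` : `[M, A]` contains a line vector.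
-/

set_option autoImplicit false
set_option maxHeartbeats 400000

namespace Cfsg.Agent.Omega.NO3S.OneS

open Subgroup Cfsg.Agent.ClassTwoFusion.Quad Cfsg.Agent.Omega.NOThree.NoOver
open scoped Pointwise

variable {H : Type*} [Group H] {M : Type*} [Group M] [MulDistribMulAction H M]

theorem phi_mul (sq : ∀ m : M, m * m = 1) (k : H) (a b : M) :
    k • (a * b) * (a * b) = (k • a * a) * (k • b * b) := by
  rw [smul_mul']
  simp only [mul_assoc]
  rw [ml sq a]

namespace Fr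

variable {lam U : Subgroup M} (F : Fr H lam U)
include F

theorem semi_one : Semi lam U (1 : H) :=
  ⟨one_smul _ _, fun u _ => by rw [one_smul, F.sq]; exact one_mem _⟩

theorem semi_inv {t : H} (ht : Semi lam U t) {u : M} (hu : u ∈ U) : t⁻¹ • u ∈ U ∧ t⁻¹ • u * u ∈ lam := by
  have h1 : t⁻¹ • u ∈ U := by
    have := smul_mem_pointwise_smul u t⁻¹ _ hu
    rwa [inv_smul_eq_iff.2 (F.semi_U ht).symm] at this
  refine ⟨h1, ?_⟩
  have h2 := ht.cl _ h1
  rw [smul_inv_smul, F.mc] at h2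
  exact h2

/-- conjugates of the `k` with `[lam, k] = 1`, `[U, k] ≤ lam` -/
theorem conj_fix {k t : H} (hk : ∀ z ∈ lam, k • z = z) (ht : Semi lam U t) : ∀ z ∈ lam, (t * k * t⁻¹) • z = z := by
  intro z hz
  have h1 : t⁻¹ • z ∈ lam := by
    have := smul_mem_pointwise_smul z t⁻¹ _ hz
    rwa [inv_smul_eq_iff.2 ht.st.symm] at this
  rw [mul_smul, mul_smul, hk _ h1, smul_inv_smul]

theorem conj_phi {k t : H} (hk : ∀ z ∈ lam, k • z = z) (ht : Semi lam U t) {u : M} (hu : u ∈ U) :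
    (t * k * t⁻¹) • u * u = t • (k • u * u) := by
  obtain ⟨-, h2⟩ := F.semi_inv ht hu
  have h3 : t⁻¹ • u = (t⁻¹ • u * u) * u := by rw [mul_assoc, F.sq, mul_one]
  have h4 : k • t⁻¹ • u = (t⁻¹ • u) * (k • u * u) := by
    rw [h3, smul_mul', hk _ h2]
    simp only [mul_assoc]
    rw [F.mc u (k • u * u), mul_assoc, F.sq, mul_one]
  rw [mul_smul, mul_smul, h4, smul_mul', smul_inv_smul, F.mc u, mul_assoc, F.sq, mul_one]

theorem conj_semi {k t : H} (hk : ∀ z ∈ lam, k • z = z) (hk' : ∀ u ∈ U, k • u * u ∈ lam) (ht : Semi lam U t) :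
    Semi lam U (t * k * t⁻¹) := by
  refine ⟨smul_eq_of_fix (F.conj_fix hk ht), fun u hu => ?_⟩
  rw [F.conj_phi hk ht hu]
  have := smul_mem_pointwise_smul _ t _ (hk' u hu)
  rwa [ht.st] at this

theorem exists_two : ∃ z₁ ∈ lam, ∃ z₂ ∈ lam, z₁ ≠ 1 ∧ z₂ ≠ 1 ∧ z₁ * z₂ ≠ 1 := by
  obtain ⟨z₁, hz₁, h1⟩ := F.exists_ne
  by_contra hcon
  push Not at hcon
  have h2 : (lam : Set M) ⊆ {1, z₁} := by
    intro z hz
    by_cases hz1 : z = 1
    · exact Or.inl hz1
    · exact Or.inr (eqm F.sq (hcon z₁ hz₁ z hz h1 hz1)).symm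
  have h3 := Set.ncard_le_ncard h2 (Set.toFinite _)
  rw [Set.ncard_pair (Ne.symm h1)] at h3
  have h4 := F.four
  change 4 ≤ Set.ncard (lam : Set M) at h4
  omega

end Fr

namespace Sit

variable {lam U : Subgroup M} {A : Subgroup H} {f h : H} (S : Sit lam U A f h)
include S

theorem f1_br_mem {y : H} (hy : y ∈ cj (h * f) A) (m : M) : (h * f) • (y • m * m) ∈ br A := by
  rw [S.f1_im]
  exact mem_br (S.f1_cj' hy) _

variable [Finite H] [Finite M]

theorem cases {g : H} (hg : Semi lam U g) : g • (br A : Subgroup M) = br A ∨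
    ∀ r ∈ g • (br A : Subgroup M), ∀ y ∈ cj (h * f) A, y • r * r ∈ (h * f) • g • (br A : Subgroup M) := by
  rcases S.dich hg with h0 | h1
  · exact Or.inl (S.same hg h0)
  · exact Or.inr fun r hr y hy => S.three hg h1 hr hy

theorem all_of {X : Subgroup M} {y : H} (hy : y ∈ cj (h * f) A) (hX : ∀ u ∈ U, y • u * u ∈ X) (m : M) :
    y • m * m ∈ X := by
  obtain ⟨u, hu, c, hc, rfl⟩ := S.r4 m
  rw [phi_mul S.F.sq, (hc y hy : y • c = c), S.F.sq, mul_one]
  exact hX u hu

section five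

variable (hRl : ∀ r ∈ br A, r ∈ lam → r = 1) {k : H} (hk : ∀ z ∈ lam, k • z = z) (hk' : ∀ u ∈ U, k • u * u ∈ lam)
  {r : M} (hr : r ∈ br A) (hkr : k • r ≠ r)
include hRl hk hk' hr hkr

omit [Finite H] [Finite M] in
theorem br_U {x : M} (hx : x ∈ br A) : x ∈ U := S.br_le_U hx

theorem main {t : H} (ht : Semi lam U t) {r' : M} (hr' : r' ∈ br A) {y : H} (hy : y ∈ cj (h * f) A) :
    k • ((h * f) • (y • r' * r')) * ((h * f) • (y • r' * r')) =
      k • ((h * f) • (y • (t • (k • r' * r')) * (t • (k • r' * r')))) *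
        ((h * f) • (y • (t • (k • r' * r')) * (t • (k • r' * r')))) := by
  set g := t * k * t⁻¹ with hgdef
  have hg : Semi lam U g := S.F.conj_semi hk hk' ht
  have hphi : ∀ u ∈ U, g • u * u = t • (k • u * u) := fun u hu => S.F.conj_phi hk ht hu
  have hfix : ∀ u ∈ U, g • u = u → k • u = u := by
    intro u hu hgu
    have h1 := hphi u hu
    rw [hgu, S.F.sq] at h1
    apply eqm S.F.sq
    rw [eq_comm, smul_eq_iff_eq_inv_smul, smul_one] at h1
    exact h1
  rcases S.cases hg with h1 | h1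
  · exfalso
    apply hkr
    apply hfix r (S.br_le_U hr)
    apply eqm S.F.sq
    apply hRl
    · refine mul_mem ?_ hr
      have h2 := smul_mem_pointwise_smul r g _ hr
      rwa [h1] at h2
    · exact hg.cl r (S.br_le_U hr)
  · have h2 := h1 _ (smul_mem_pointwise_smul r' g _ hr') y hy
    have h3 : g • r' = r' * (t • (k • r' * r')) := by
      rw [← hphi r' (S.br_le_U hr'), S.F.mc r', mul_assoc, S.F.sq, mul_one]
    rw [h3, phi_mul S.F.sq] at h2
    set w := (y • r' * r') * (y • (t • (k • r' * r')) * (t • (k • r' * r'))) with hw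
    have h4 : (h * f) • w ∈ g • (br A : Subgroup M) := by
      have := smul_mem_pointwise_smul w (h * f) _ h2
      rwa [← mul_smul (h * f) (h * f), S.f1_sq, one_smul] at this
    have h5 : (h * f) • w ∈ br A := by
      rw [hw, smul_mul']
      exact mul_mem (S.f1_br_mem hy _) (S.f1_br_mem hy _)
    obtain ⟨x, hx, hxw⟩ := h4
    change g • x = (h * f) • w at hxw
    have h6 : g • x * x = 1 := by
      apply hRl
      · refine mul_mem ?_ hx
        rw [hxw]
        exact h5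
      · exact hg.cl x (S.br_le_U hx)
    have h7 : g • x = x := eqm S.F.sq h6
    have h8 : k • ((h * f) • w) = (h * f) • w := by
      have := hfix x (S.br_le_U hx) h7
      rwa [← hxw, h7]
    rw [hw, smul_mul'] at h8
    have h9 := phi_mul S.F.sq k ((h * f) • (y • r' * r'))
      ((h * f) • (y • (t • (k • r' * r')) * (t • (k • r' * r'))))
    rw [h8, S.F.sq] at h9
    exact eqm S.F.sq h9.symm

theorem psi (T : TorAct H lam U) {y : H} (hy : y ∈ cj (h * f) A) {z : M} (hz : z ∈ lam) :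
    k • ((h * f) • (y • z * z)) * ((h * f) • (y • z * z)) = 1 := by
  have hconst : ∀ z ∈ lam, z ≠ 1 → k • ((h * f) • (y • z * z)) * ((h * f) • (y • z * z)) =
      k • ((h * f) • (y • r * r)) * ((h * f) • (y • r * r)) := by
    intro z hz hz1
    obtain ⟨t, ht1, ht2, ht3⟩ := T.tor _ (hk' r (S.br_le_U hr)) (fun hc => hkr (eqm S.F.sq hc)) z hz hz1
    have h1 := S.main hRl hk hk' hr hkr ⟨ht1, ht2⟩ hr hy
    rw [ht3] at h1
    exact h1.symm
  by_cases hz1 : z = 1
  · rw [hz1, smul_one, one_mul, smul_one, smul_one, one_mul]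
  obtain ⟨z₁, hz₁, z₂, hz₂, h1, h2, h3⟩ := S.F.exists_two
  have h4 := hconst _ (mul_mem hz₁ hz₂) h3
  rw [phi_mul S.F.sq, smul_mul', phi_mul S.F.sq, hconst z₁ hz₁ h1, hconst z₂ hz₂ h2, S.F.sq] at h4
  rw [hconst z hz hz1, ← h4]

theorem all_fix (T : TorAct H lam U) {y : H} (hy : y ∈ cj (h * f) A) (m : M) :
    k • ((h * f) • (y • m * m)) = (h * f) • (y • m * m) := by
  have h1 : ∀ r' ∈ (br A : Subgroup M), k • ((h * f) • (y • r' * r')) * ((h * f) • (y • r' * r')) = 1 := by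
    intro r' hr'
    rw [S.main hRl hk hk' hr hkr S.F.semi_one hr' hy]
    apply S.psi hRl hk hk' hr hkr T hy
    rw [one_smul]
    exact hk' r' (S.br_le_U hr')
  obtain ⟨z, hz, hz1⟩ := S.exists_mu
  obtain ⟨u, hu, c, hc, rfl⟩ := S.r4 m
  obtain ⟨a, ha, d, hd, rfl⟩ := S.r1 hz hz1 hu
  rw [phi_mul S.F.sq, phi_mul S.F.sq, (hc y hy : y • c = c), S.F.sq, mul_one, (S.B_bb hy).1 d hd.2, S.F.sq, mul_one]
  exact eqm S.F.sq (h1 _ (mem_br ha z))

end five

/-- (4) of #18570 -/
theorem inf_ne (T : TorAct H lam U) : ∃ r ∈ br A, r ∈ lam ∧ r ≠ 1 := by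
  by_contra hcon
  have hRl : ∀ r ∈ br A, r ∈ lam → r = 1 := by
    intro r hr hr'
    by_contra h1
    exact hcon ⟨r, hr, hr', h1⟩
  have hall : ∀ r ∈ (br A : Subgroup M), r = 1 := by
    intro r hr
    by_contra hr1
    obtain ⟨k, hk, hk', hkr⟩ := T.act r (S.br_le_U hr) fun hc => hr1 (hRl r hr hc)
    apply hkr
    have h1 : br A ≤ cv M ({k} : Set H) := by
      refine br_le fun a ha m => ?_
      rw [mem_cv_singleton]
      have h2 := S.all_fix hRl hk hk' hr hkr T (S.f1_cj ha) ((h * f) • m)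
      rw [← S.f1_im, S.f1_f1] at h2
      exact h2
    exact mem_cv_singleton.1 (h1 hr)
  have h1 : f = 1 := by
    apply S.F.faith
    intro m
    exact eqm S.F.sq (hall _ (mem_br S.hf m))
  apply S.hmov
  rw [h1, one_smul]

/-- the end of (4), (5): `U ≤ [M, A]^t D` and `[[M, A]^t, B] ≤ ([M, A]^t)^f₁` give `[M, A]^t = [M, A]` -/
theorem end_of {t : H}
    (h1 : ∀ r ∈ t • (br A : Subgroup M), ∀ y ∈ cj (h * f) A, y • r * r ∈ (h * f) • t • (br A : Subgroup M))
    (h2 : ∀ u ∈ U, ∃ x ∈ t • (br A : Subgroup M), ∃ d ∈ U ⊓ h • U, u = x * d) :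
    (br A : Subgroup M) = t • (br A : Subgroup M) := by
  have h3 : ∀ y ∈ cj (h * f) A, ∀ m : M, y • m * m ∈ (h * f) • t • (br A : Subgroup M) := by
    intro y hy
    refine S.all_of hy fun u hu => ?_
    obtain ⟨x, hx, d, hd, rfl⟩ := h2 u hu
    rw [phi_mul S.F.sq, (S.B_bb hy).1 d hd.2, S.F.sq, mul_one]
    exact h1 x hx y hy
  have h4 : (br A : Subgroup M) ≤ t • (br A : Subgroup M) := by
    refine br_le fun a ha m => ?_
    have h5 := h3 _ (S.f1_cj ha) ((h * f) • m)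
    rw [← S.f1_im] at h5
    have h6 := smul_mem_pointwise_smul _ (h * f) _ h5
    rwa [S.f1_f1, ← mul_smul (h * f) (h * f), S.f1_sq, one_smul] at h6
  exact eq_of_le_of_card_ge h4 (card_smul_eq _ _).le

/-- **THEOREM ONE_s**, torus version -/
theorem lam_le (T : TorAct H lam U) : lam ≤ br A := by
  obtain ⟨z, hz, hzl, hz1⟩ := S.inf_ne T
  intro z' hz'
  by_cases hz'1 : z' = 1
  · rw [hz'1]
    exact one_mem _
  obtain ⟨t, ht1, ht2, ht3⟩ := T.tor z hzl hz1 z' hz' hz'1
  have ht : Semi lam U t := ⟨ht1, ht2⟩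
  have hz't : z' ∈ t • (br A : Subgroup M) := by
    rw [← ht3]
    exact smul_mem_pointwise_smul _ _ _ hz
  rcases S.cases ht with h1 | h1
  · rw [← h1]
    exact hz't
  -- `U ≤ [M, A]^t D`
  have h2 : ∀ u ∈ U, ∃ x ∈ t • (br A : Subgroup M), ∃ d ∈ U ⊓ h • U, u = x * d := by
    intro u hu
    obtain ⟨b, hb, d, hd, e⟩ := S.r2 hz' hz'1 (S.f1_mem_V hu)
    refine ⟨(h * f) • (b • z' * z'), ?_, d, hd, ?_⟩
    · have := smul_mem_pointwise_smul _ (h * f) _ (h1 z' hz't b hb)
      rwa [← mul_smul (h * f) (h * f), S.f1_sq, one_smul] at this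
    · rw [← S.f1_f1 u, e, smul_mul', S.f1_D hd]
  rw [S.end_of h1 h2]
  exact hz't

section cen

variable (T : CenAct H lam U)
include T

omit [Finite H] [Finite M] in
theorem map_br {θ : M →* M} (hθ : ∀ (h : H) (m : M), θ (h • m) = h • θ m) {r : M} (hr : r ∈ br A) : θ r ∈ br A := by
  have h1 : (br A : Subgroup M) ≤ (br A).comap θ := by
    refine br_le fun a ha m => ?_
    rw [mem_comap, map_mul, hθ]
    exact mem_br ha _
  exact h1 hr

/-- (4), version with a field acting -/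
theorem inf_ne' : ∃ r ∈ br A, r ∈ lam ∧ r ≠ 1 := by
  by_contra hcon
  have hRl : ∀ r ∈ br A, r ∈ lam → r = 1 := by
    intro r hr hr'
    by_contra h1
    exact hcon ⟨r, hr, hr', h1⟩
  obtain ⟨z, hz, hz1⟩ := S.exists_mu
  obtain ⟨l, hl, l', hl', hl1, hl'1, hll⟩ := S.F.exists_two
  obtain ⟨a, ha, d, hd, e⟩ := S.r1 hz hz1 (S.F.le hl)
  set r := a • z * z with hr
  have hrb : r ∈ br A := mem_br ha z
  have hrl : r ∉ lam := by
    intro hc
    have h1 := hRl r hrb hc
    rw [h1, one_mul] at e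
    exact hl1 (S.lam_D hl (e ▸ hd))
  obtain ⟨k, hk, hk', hkr⟩ := T.act r (S.br_le_U hrb) hrl l' hl'
  have hg : Semi lam U k := ⟨smul_eq_of_fix hk, hk'⟩
  rcases S.cases hg with h1 | h1
  · apply hl'1
    refine hRl l' ?_ hl'
    have h2 : l' = r * (k • r) := by rw [hkr, aa S.F.sq]
    rw [h2]
    refine mul_mem hrb ?_
    rw [← h1]
    exact smul_mem_pointwise_smul _ _ _ hrb
  -- `X = [M, A]^k D` is invariant under `θ`, contains `lam`, `[M, A]`, `U`
  set X : Subgroup M := k • (br A : Subgroup M) ⊔ (U ⊓ h • U) with hX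
  have h2 : l' * l ∈ X := by
    have h3 : l' * l = (k • r) * d := by
      rw [hkr, e, ← mul_assoc l' r d, S.F.mc l' r]
    rw [h3]
    exact mul_mem (mem_sup_left (smul_mem_pointwise_smul _ _ _ hrb)) (mem_sup_right hd)
  have h3 : lam ≤ X := by
    intro z' hz'
    obtain ⟨θ, hθ, hθU, hθz⟩ := T.cen (l' * l) (mul_mem hl' hl) (by rw [S.F.mc]; exact hll) z' hz'
    rw [← hθz]
    have h4 : X ≤ X.comap θ := by
      refine sup_le ?_ ?_
      · rintro _ ⟨x, hx, rfl⟩
        change θ (k • x) ∈ X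
        rw [hθ]
        exact mem_sup_left (smul_mem_pointwise_smul _ _ _ (S.map_br T hθ hx))
      · rintro x ⟨hx, hx'⟩
        refine mem_sup_right ⟨hθU x hx, ?_⟩
        change θ x ∈ h • U
        rw [mem_pointwise_smul_iff_inv_smul_mem, ← hθ]
        exact hθU _ (mem_pointwise_smul_iff_inv_smul_mem.1 hx')
    exact h4 h2
  have h4 : (br A : Subgroup M) ≤ X := by
    intro x hx
    have h5 : x = (k • x) * (k • x * x) := by rw [aa S.F.sq]
    rw [h5]
    exact mul_mem (mem_sup_left (smul_mem_pointwise_smul _ _ _ hx)) (h3 (hk' x (S.br_le_U hx)))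
  have h5 : ∀ u ∈ U, ∃ x ∈ k • (br A : Subgroup M), ∃ d ∈ U ⊓ h • U, u = x * d := by
    intro u hu
    rw [← mem_sup' S.F.sq]
    obtain ⟨a', ha', d', hd', rfl⟩ := S.r1 hz hz1 hu
    exact mul_mem (h4 (mem_br ha' z)) (mem_sup_right hd')
  have h6 := S.end_of h1 h5
  apply hl'1
  refine hRl l' ?_ hl'
  have h2 : l' = r * (k • r) := by rw [hkr, aa S.F.sq]
  rw [h2]
  refine mul_mem hrb ?_
  rw [h6]
  exact smul_mem_pointwise_smul _ _ _ hrb

/-- **THEOREM ONE_s**, version with a field acting -/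
theorem lam_le' : lam ≤ br A := by
  obtain ⟨z, hz, hzl, hz1⟩ := S.inf_ne' T
  intro z' hz'
  obtain ⟨θ, hθ, -, hθz⟩ := T.cen z hzl hz1 z' hz'
  rw [← hθz]
  exact S.map_br T hθ hz

end cen

end Sit

namespace Fr

variable {lam U : Subgroup M} (F : Fr H lam U)
include F

omit F in
theorem line_of_lam {z : M} (hz : z ∈ lam) (hz1 : z ≠ 1) : z ∈ Lam H lam :=
  ⟨hz1, 1, by rw [one_smul]; exact hz⟩

/-- `r` and `r z` are conjugate for `r ∈ U - lam`, `z ∈ lam` -/
theorem exists_conj (T : TorAct H lam U) {r z : M} (hr : r ∈ U) (hr' : r ∉ lam) (hz : z ∈ lam) :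
    ∃ k : H, k • r = r * z := by
  by_cases hz1 : z = 1
  · exact ⟨1, by rw [hz1, one_smul, mul_one]⟩
  obtain ⟨k, hk, hk', hkr⟩ := T.act r hr hr'
  obtain ⟨t, ht1, ht2, ht3⟩ := T.tor _ (hk' r hr) (fun hc => hkr (eqm F.sq hc)) z hz hz1
  refine ⟨t * k * t⁻¹, ?_⟩
  have h1 := F.conj_phi hk ⟨ht1, ht2⟩ hr
  rw [ht3] at h1
  rw [← h1, F.mc r, mul_assoc ((t * k * t⁻¹) • r), F.sq, mul_one]

theorem h_mem_aux {f h : H} (hodd : Odd (orderOf h)) (hinv : f * h * f = h⁻¹) (K : Subgroup H) (h1 : f ∈ K)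
    (h2 : h * f * h⁻¹ ∈ K) : h ∈ K := by
  have h3 : h ^ 2 ∈ K := by
    have h4 := K.mul_mem h1 h2
    have h5 : f * (h * f * h⁻¹) = (f * h * f) * h⁻¹ := by group
    rw [h5, hinv] at h4
    have h6 := K.inv_mem h4
    have h7 : (h⁻¹ * h⁻¹)⁻¹ = h ^ 2 := by group
    rwa [h7] at h6
  obtain ⟨k, hk⟩ := hodd
  have h4 : (h ^ 2) ^ (k + 1) = h := by
    rw [← pow_mul]
    have : 2 * (k + 1) = orderOf h + 1 := by omega
    rw [this, pow_succ, pow_orderOf_eq_one, one_mul]
  rw [← h4]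
  exact K.pow_mem h3 _

/-- (WD) if `[M, A]` contains no line vector and `r`, `r z` are conjugate -/
theorem sit_of {A : Subgroup H} (hA : ∀ a ∈ A, IsBB U a)
    (hex : fo M A = Nat.card M) (hmin : ∀ X ≤ A, X ≠ ⊥ → X ≠ A → fo M X < Nat.card M) {f h : H} (hf : f ∈ A)
    (hodd : Odd (orderOf h)) (hinv : f * h * f = h⁻¹) (hmov : f • h • lam ≠ h • lam)
    (hconj : ∀ r ∈ U, r ∉ lam → ∀ z ∈ lam, ∃ k : H, k • r = r * z) (hno : ∀ v ∈ br A, v ∉ Lam H lam) :
    Sit lam U A f h := by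
  have hbU : (br A : Subgroup M) ≤ U := br_le fun a ha m => (hA a ha).2 m
  refine ⟨F, hA, hex, hmin, hf, hodd, hinv, hmov, ?_⟩
  intro v hv hvs hvL
  obtain ⟨r, hr, z, hz, rfl⟩ := (mem_sup' F.sq).1 hvs
  by_cases hrl : r ∈ lam
  · -- `v ∈ lam ∩ D = 1`
    have hvl : r * z ∈ lam := mul_mem hrl hz
    have hgb : IsBB (h • U) (h * f * h⁻¹) := isBB_conj h (hA f hf)
    have h1 : h • (r * z) = r * z := by
      have h2 := h_mem_aux F hodd hinv (MulAction.stabilizer H (r * z))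
        (MulAction.mem_stabilizer_iff.2 ((hA f hf).1 _ hv.1)) (MulAction.mem_stabilizer_iff.2 (hgb.1 _ hv.2))
      exact MulAction.mem_stabilizer_iff.1 h2
    have h2 : h • lam ⊓ lam ≠ ⊥ := by
      refine ne_bot_iff'.2 ⟨r * z, ⟨?_, hvl⟩, hvL.1⟩
      rw [← h1]
      exact smul_mem_pointwise_smul _ _ _ hvl
    have h3 := F.ti _ h2
    apply hmov
    rw [h3, smul_eq_of_fix]
    exact fun x hx => (hA f hf).1 x (F.le hx)
  · obtain ⟨k, hk⟩ := hconj r (hbU hr) hrl z hz
    apply hno r hr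
    obtain ⟨h1, g, hg⟩ := hvL
    refine ⟨fun hc => hrl (hc ▸ one_mem _), k⁻¹ * g, ?_⟩
    rw [mul_smul, mem_pointwise_smul_iff_inv_smul_mem, inv_inv, hk]
    exact hg

/-- `[M, A]` contains a line vector -/
theorem exists_line_of [Finite H] [Finite M] (T : TorAct H lam U ∨ CenAct H lam U) {A : Subgroup H}
    (hA : ∀ a ∈ A, IsBB U a)
    (hex : fo M A = Nat.card M) (hmin : ∀ X ≤ A, X ≠ ⊥ → X ≠ A → fo M X < Nat.card M) {f h : H} (hf : f ∈ A)
    (hodd : Odd (orderOf h)) (hinv : f * h * f = h⁻¹) (hmov : f • h • lam ≠ h • lam) :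
    ∃ v ∈ br A, v ∈ Lam H lam := by
  by_contra hcon
  have hno : ∀ v ∈ br A, v ∉ Lam H lam := fun v hv hv' => hcon ⟨v, hv, hv'⟩
  have S : Sit lam U A f h := by
    refine F.sit_of hA hex hmin hf hodd hinv hmov ?_ hno
    intro r hr hrl z hz
    rcases T with T | T
    · exact F.exists_conj T hr hrl hz
    · obtain ⟨k, -, -, hk⟩ := T.act r hr hrl z hz
      exact ⟨k, hk⟩
  obtain ⟨z, hz, hz1⟩ := F.exists_ne
  rcases T with T | T
  · exact hno z (S.lam_le T hz) (line_of_lam hz hz1)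
  · exact hno z (S.lam_le' T hz) (line_of_lam hz hz1)

end Fr

end Cfsg.Agent.Omega.NO3S.OneS

end

section


/-!
# THEOREM ONE_s (OMEGA, NO-3S, `s ≥ 4`; #18570 of helper49): the final form; K-free

`Fr.exists_line` : `O₂(H) = 1`, `A ≠ 1` minimal exact in `C_H(U) ∩ C_H(M/U)` ⟹ `[M, A]` contains a line vector.
`Fr.exists_line_le` : the same for an arbitrary exact `A ≠ 1`.
-/

set_option autoImplicit false
set_option maxHeartbeats 400000

namespace Cfsg.Agent.Omega.NO3S.OneS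

open Subgroup Cfsg.Agent.ClassTwoFusion.Quad Cfsg.Agent.Omega.NOThree.NoOver
open scoped Pointwise

variable {H : Type*} [Group H] {M : Type*} [Group M] [MulDistribMulAction H M]

namespace Fr

variable {lam U : Subgroup M} (F : Fr H lam U)
include F

/-- an element of odd order inverted by `f ∈ C_H(U) ∩ C_H(M/U)` moves `lam`, and `f` moves `h • lam` -/
theorem moves {f h : H} (hf : IsBB U f) (h1 : h ≠ 1) (hodd : Odd (orderOf h)) (hinv : f * h * f = h⁻¹) :
    f • h • lam ≠ h • lam := by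
  intro hc
  have hff : f * f = 1 := F.bb_sq hf
  have hfl : f • lam = lam := smul_eq_of_fix fun x hx => hf.1 x (F.le hx)
  have h2 : h⁻¹ * f * h = f * (h * h) := by
    rw [← hinv]
    have : f * h * f * f * h = f * h * (f * f) * h := by group
    rw [this, hff]
    group
  have h3 : (f * (h * h)) • lam = lam := by
    rw [← h2, mul_smul, mul_smul, hc, inv_smul_smul]
  have h4 : (h * h) • lam = lam := by
    rw [mul_smul, smul_eq_iff_eq_inv_smul, inv_eq_of_mul_eq_one_right hff, hfl] at h3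
    exact h3
  have h5 : ∀ K : Subgroup H, h * h ∈ K → h ∈ K := by
    intro K hK
    obtain ⟨k, hk⟩ := hodd
    have h6 : (h * h) ^ (k + 1) = h := by
      rw [← pow_two, ← pow_mul]
      have : 2 * (k + 1) = orderOf h + 1 := by omega
      rw [this, pow_succ, pow_orderOf_eq_one, one_mul]
    rw [← h6]
    exact K.pow_mem hK _
  have h6 : h ∈ MulAction.stabilizer H lam := h5 _ (MulAction.mem_stabilizer_iff.2 h4)
  have h7 : h⁻¹ • lam = lam := MulAction.mem_stabilizer_iff.1 (inv_mem h6)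
  have h8 := isBB_conj h⁻¹ hf
  rw [F.stab _ h7, inv_inv, h2] at h8
  have h9 : IsBB U (h * h) := by
    have h10 := (bb H F.sq U).mul_mem ((bb H F.sq U).inv_mem hf) h8
    have h11 : f⁻¹ * (f * (h * h)) = h * h := by group
    rw [h11] at h10
    exact h10
  have h10 := F.bb_sq h9
  apply h1
  have h11 : h ^ 4 = 1 := by
    have : h ^ 4 = (h * h) * (h * h) := by rw [← pow_two, ← pow_two, ← pow_mul]
    rw [this, h10]
  have h12 : Nat.Coprime (orderOf h) (2 ^ 2) := (Nat.coprime_two_right.2 hodd).pow_right 2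
  exact orderOf_eq_one_iff.1 (Nat.Coprime.eq_one_of_dvd h12 (orderOf_dvd_of_pow_eq_one h11))

/-- `O₂(H) = 1`, `A ≠ 1` minimal exact: `[M, A]` contains a line vector -/
theorem exists_line [Finite H] [Finite M] (T : TorAct H lam U ∨ CenAct H lam U) (hO : ∀ N : Subgroup H, N.Normal → IsPGroup 2 N → N = ⊥)
    {A : Subgroup H} (hA : ∀ a ∈ A, IsBB U a) (hne : A ≠ ⊥) (hex : fo M A = Nat.card M)
    (hmin : ∀ X ≤ A, X ≠ ⊥ → X ≠ A → fo M X < Nat.card M) : ∃ v ∈ br A, v ∈ Lam H lam := by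
  obtain ⟨f, hf, hf1⟩ : ∃ f ∈ A, f ≠ 1 := by
    by_contra hcon
    push Not at hcon
    exact hne ((Subgroup.eq_bot_iff_forall _).2 hcon)
  have hff := F.bb_sq (hA f hf)
  obtain ⟨h, h1, hodd, hinv⟩ := Cfsg.Agent.Involutions.BaerSuzuki.exists_odd_inverted f hff (by
    intro h2
    have h3 := hO _ inferInstance h2
    exact hf1 (mem_bot.1 (h3 ▸ subset_normalClosure rfl)))
  rw [inv_eq_of_mul_eq_one_right hff] at hinv
  exact F.exists_line_of T hA hex hmin hf hodd hinv (F.moves (hA f hf) h1 hodd hinv)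

/-- every exact `A ≠ 1` contains a minimal one -/
theorem exists_line_le [Finite H] [Finite M] (T : TorAct H lam U ∨ CenAct H lam U) (hO : ∀ N : Subgroup H, N.Normal → IsPGroup 2 N → N = ⊥)
    {A : Subgroup H} (hA : ∀ a ∈ A, IsBB U a) (hne : A ≠ ⊥) (hex : Nat.card M ≤ fo M A) :
    ∃ v ∈ br A, v ∈ Lam H lam := by
  obtain ⟨X, ⟨hXA, hX1, hX2⟩, hmin⟩ := Set.exists_min_image
    {X : Subgroup H | X ≤ A ∧ X ≠ ⊥ ∧ Nat.card M ≤ fo M X} (fun X => Nat.card X) (Set.toFinite _) ⟨A, le_rfl, hne, hex⟩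
  have hXb : ∀ a ∈ X, IsBB U a := fun a ha => hA a (hXA ha)
  obtain ⟨v, hv, hv'⟩ := F.exists_line T hO hXb hX1 (le_antisymm (F.no X hXb) hX2) (by
    intro Y hY hY1 hY2
    by_contra hcon
    rw [not_lt] at hcon
    have h1 := hmin Y ⟨hY.trans hXA, hY1, hcon⟩
    exact hY2 (eq_of_le_of_card_ge hY h1))
  exact ⟨v, (br_le fun a ha m => mem_br (hXA ha) m : (br X : Subgroup M) ≤ br A) hv, hv'⟩

end Fr

end Cfsg.Agent.Omega.NO3S.OneS

end

section


/-!
# THEOREM INN_s (OMEGA, NO-3S MidQ, `s ≥ 4`; helper49): inner exact groups, FAT POINTS; K-free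

`Inn lam U A` : `A ≤ C_H(U) ∩ C_H(M/U)`, and (***): a line vector `v` of `[M, A] lam` has `[U_v, A] = 1`.
`At lam U A A₁ f h` : an atom `A₁ ≤ A` with `f ∈ A₁`, `h`.
`At.fat` : `m^{s b'} = [m, s] d` is a line vector of `[M, A₁] lam` with `U_{m^{s b'}} = U`.  (No torus, no field.)
-/

set_option autoImplicit false
set_option maxHeartbeats 400000

namespace Cfsg.Agent.Omega.NO3S.OneS

open Subgroup Cfsg.Agent.ClassTwoFusion.Quad Cfsg.Agent.Omega.NOThree.NoOver
open scoped Pointwise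

variable {H : Type*} [Group H] {M : Type*} [Group M] [MulDistribMulAction H M]

theorem br_mono {A B : Subgroup H} (hAB : A ≤ B) : (br A : Subgroup M) ≤ br B := br_le fun _ ha m => mem_br (hAB ha) m

/-- the frame of an inner pair -/
structure Inn (H : Type*) [Group H] {M : Type*} [Group M] [MulDistribMulAction H M] (lam U : Subgroup M)
    (A : Subgroup H) : Prop where
  F : Fr H lam U
  sym : ∀ g : H, g • lam ≠ lam → g • lam ⊓ U ≠ ⊥ → lam ≤ g • U
  bs : ∀ f : H, f * f = 1 → f ≠ 1 → ∃ h : H, h ≠ 1 ∧ Odd (orderOf h) ∧ f * h * f = h⁻¹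
  hA : ∀ a ∈ A, IsBB U a
  cen : ∀ v ∈ br A ⊔ lam, v ≠ 1 → ∀ g : H, v ∈ g • lam → ∀ a ∈ A, ∀ u ∈ g • U, a • u = u

namespace Inn

variable {lam U : Subgroup M} {A : Subgroup H} (I : Inn H lam U A)
include I

/-- general (SYM) -/
theorem sym' {g k : H} (hne : g • lam ≠ k • lam) {x : M} (hx : x ∈ g • lam) (hx' : x ∈ k • U) (hx1 : x ≠ 1) :
    k • lam ≤ g • U := by
  have h1 : (k⁻¹ * g) • lam ≠ lam := by
    intro h
    apply hne
    rw [mul_smul, inv_smul_eq_iff] at h
    exact h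
  have h2 : (k⁻¹ * g) • lam ⊓ U ≠ ⊥ := by
    refine ne_bot_iff'.2 ⟨k⁻¹ • x, ⟨?_, ?_⟩, ?_⟩
    · rw [mul_smul]
      exact smul_mem_pointwise_smul _ _ _ hx
    · have := smul_mem_pointwise_smul x k⁻¹ _ hx'
      rwa [inv_smul_smul] at this
    · intro hc
      apply hx1
      rw [inv_smul_eq_iff, smul_one] at hc
      exact hc
  have h3 := smul_mono_right k (I.sym _ h1 h2)
  rwa [← mul_smul, mul_inv_cancel_left] at h3

/-- the situation for an atom -/
theorem sit {A₁ : Subgroup H} (hle : A₁ ≤ A) (hex : fo M A₁ = Nat.card M)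
    (hmin : ∀ X ≤ A₁, X ≠ ⊥ → X ≠ A₁ → fo M X < Nat.card M) {f h : H} (hf : f ∈ A₁) (h1 : h ≠ 1)
    (hodd : Odd (orderOf h)) (hinv : f * h * f = h⁻¹) : Sit lam U A₁ f h := by
  have hfb := I.hA f (hle hf)
  have hmov := I.F.moves hfb h1 hodd hinv
  refine ⟨I.F, fun a ha => I.hA a (hle ha), hex, hmin, hf, hodd, hinv, hmov, ?_⟩
  rintro v hv hvs ⟨hv1, g, hg⟩
  have hvA : v ∈ br A ⊔ lam := sup_le_sup_right (br_mono hle) lam hvs
  have h2 := I.cen v hvA hv1 g hg f (hle hf)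
  by_cases hgh : g • lam = h • lam
  · -- `v ∈ μ ∩ D = 1`
    have h3 := I.F.h_mem_aux hodd hinv (MulAction.stabilizer H v)
      (MulAction.mem_stabilizer_iff.2 (hfb.1 _ hv.1)) (MulAction.mem_stabilizer_iff.2 ((isBB_conj h hfb).1 _ hv.2))
    rw [MulAction.mem_stabilizer_iff] at h3
    have h4 : v ∈ lam := by
      rw [hgh, mem_pointwise_smul_iff_inv_smul_mem, inv_smul_eq_iff.2 h3.symm] at hg
      exact hg
    have h5 : h • lam ⊓ lam ≠ ⊥ := ne_bot_iff'.2 ⟨v, ⟨hgh ▸ hg, h4⟩, hv1⟩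
    apply hmov
    rw [I.F.ti _ h5, smul_eq_of_fix fun x hx => hfb.1 x (I.F.le hx)]
  · have h3 := I.sym' hgh hg hv.2 hv1
    exact hmov (smul_eq_of_fix fun x hx => h2 x (h3 hx))

end Inn

namespace Sit

variable {lam U : Subgroup M} {A : Subgroup H} {f h : H} (S : Sit lam U A f h)
include S

/-- `C_M(f) = C_M(A)` -/
theorem cv_f [Finite H] [Finite M] {m : M} (hm : f • m = m) : m ∈ cv M (A : Set H) := by
  obtain ⟨z, hz, hz1⟩ := S.exists_mu
  set X := (im S.F.sq S.hA z).range with hX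
  have h1 := card_im S.F.sq S.hA z
  rw [(S.key hz hz1).1, card_bot, mul_one, ← hX] at h1
  have hYc : (h * f) • X ⊓ cv M ({f} : Set H) = ⊥ := by
    rw [eq_bot_iff_forall]
    rintro y ⟨⟨x, hx, rfl⟩, hy⟩
    change (h * f) • x ∈ _ at hy
    change (h * f) • x = 1
    obtain ⟨b, hb, rfl⟩ := mem_im.1 hx
    have h2 := S.cvf (S.f1_mem_V ((S.hA b hb).2 z)) (mem_cv_singleton.1 hy)
    have h3 := S.f1_D h2
    rw [S.f1_f1] at h3
    rw [← h3] at h2
    rw [S.i1 S.hA S.wdA hb hz h2, S.F.sq, smul_one]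
  have h2 := card_mul_le ((h * f) • X) (cv M ({f} : Set H)) ⊤ le_top le_top
  rw [hYc, card_bot, one_mul, card_smul_eq, h1, card_top, ← S.hex] at h2
  unfold fo at h2
  have h3 := Nat.le_of_mul_le_mul_left h2 Nat.card_pos
  have h4 : cv M (A : Set H) ≤ cv M ({f} : Set H) := cv_anti (Set.singleton_subset_iff.2 S.hf)
  rw [eq_of_le_of_card_ge h4 h3]
  exact mem_cv_singleton.2 hm

end Sit

/-- an atom of `A` -/
structure At (lam U : Subgroup M) (A A₁ : Subgroup H) (f h : H) : Prop where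
  I : Inn H lam U A
  le : A₁ ≤ A
  S : Sit lam U A₁ f h

namespace At

variable {lam U : Subgroup M} {A A₁ : Subgroup H} {f h : H} (Q : At lam U A A₁ f h)
include Q

theorem two_V {y : H} (hy : IsBB (h • U) y) {g : H} (hg : y • g • lam = g • lam) {v : M} (hv : v ∈ g • lam) :
    y • v = v := by
  have h1 := isBB_conj (h * f)⁻¹ hy
  rw [inv_inv] at h1
  have h2 : (h * f)⁻¹ • h • U = U := by rw [Q.S.f1_inv, Q.S.f1_V]
  rw [h2] at h1
  have h3 : ((h * f)⁻¹ * y * (h * f)) • ((h * f)⁻¹ * g) • lam = ((h * f)⁻¹ * g) • lam := by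
    rw [← mul_smul]
    have : (h * f)⁻¹ * y * (h * f) * ((h * f)⁻¹ * g) = (h * f)⁻¹ * (y * g) := by group
    rw [this, mul_smul, mul_smul, hg, ← mul_smul]
  have h4 := Q.I.F.two _ h1 _ h3 ((h * f)⁻¹ • v) (by
    rw [mul_smul]
    exact smul_mem_pointwise_smul _ _ _ hv)
  rw [mul_smul, mul_smul, smul_inv_smul] at h4
  exact smul_left_cancel _ h4

variable [Finite H] [Finite M]

theorem cv_eq {a : H} (ha : a ∈ A₁) (ha1 : a ≠ 1) {m : M} (hm : a • m = m) : m ∈ cv M (A₁ : Set H) := by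
  obtain ⟨k, hk1, hko, hki⟩ := Q.I.bs a (Q.S.F.bb_sq (Q.S.hA a ha)) ha1
  exact (Q.I.sit Q.le Q.S.hex Q.S.hmin ha hk1 hko hki).cv_f hm

theorem mem_D_of_fix {a : H} (ha : a ∈ A₁) (ha1 : a ≠ 1) {v : M} (hv : v ∈ h • U) (hav : a • v = v) :
    v ∈ U ⊓ h • U := Q.S.cvf hv (Q.cv_eq ha ha1 hav f Q.S.hf)

theorem mem_D_of_fix' {y : H} (hy : y ∈ cj (h * f) A₁) (hy1 : y ≠ 1) {u : M} (hu : u ∈ U) (hyu : y • u = u) :
    u ∈ U ⊓ h • U := by
  have h1 : (h * f) * y * (h * f) ≠ 1 := by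
    intro hc
    apply hy1
    have h2 : y = (h * f)⁻¹ * ((h * f) * y * (h * f)) * (h * f)⁻¹ := by group
    rw [h2, hc, mul_one, ← mul_inv_rev, Q.S.f1_sq, inv_one]
  have h2 : ((h * f) * y * (h * f)) • (h * f) • u = (h * f) • u := by
    rw [mul_smul, mul_smul, Q.S.f1_f1, hyu]
  have h3 := Q.mem_D_of_fix (Q.S.f1_cj' hy) h1 (Q.S.f1_mem_V hu) h2
  have h4 := Q.S.f1_D h3
  rw [Q.S.f1_f1] at h4
  rw [← h4] at h3
  exact h3

omit [Finite H] [Finite M] in
theorem cenB {v : M} (hv : v ∈ br (cj (h * f) A₁)) (hv1 : v ≠ 1) {g : H} (hg : v ∈ g • lam) {y : H}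
    (hy : y ∈ cj (h * f) A₁) {u : M} (hu : u ∈ g • U) : y • u = u := by
  rw [br_cj] at hv
  have h1 : (h * f) • v ∈ br A₁ := by
    have := smul_mem_pointwise_smul v (h * f) _ hv
    rwa [← mul_smul, Q.S.f1_sq, one_smul] at this
  have h2 : (h * f) • v ∈ ((h * f) * g) • lam := by
    rw [mul_smul]
    exact smul_mem_pointwise_smul _ _ _ hg
  have h3 : (h * f) • u ∈ ((h * f) * g) • U := by
    rw [mul_smul]
    exact smul_mem_pointwise_smul _ _ _ hu
  have h4 := Q.I.cen _ (mem_sup_left (br_mono Q.le h1)) (Q.S.f1_ne hv1) _ h2 _ (Q.le (Q.S.f1_cj' hy)) _ h3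
  rw [mul_smul, mul_smul, Q.S.f1_f1] at h4
  exact smul_left_cancel _ h4

/-- (1) : `[u, y] ∉ D` for `u ∈ U - D`, `1 ≠ y ∈ B` -/
theorem bij {u : M} (hu : u ∈ U) {y : H} (hy : y ∈ cj (h * f) A₁) (hy1 : y ≠ 1) (hd : y • u * u ∈ U ⊓ h • U) :
    u ∈ U ⊓ h • U := by
  apply Q.mem_D_of_fix' hy hy1 hu
  obtain ⟨z, hz, hz1⟩ := Q.S.exists_mu
  obtain ⟨a, ha, d, hdD, rfl⟩ := Q.S.r1 hz hz1 hu
  have hyb := Q.S.B_bb hy
  have hyd : y • d = d := hyb.1 d hdD.2
  have hyz : y • z = z := hyb.1 z (Q.S.mu_le hz)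
  have hab := Q.S.hA a ha
  have e1 : y • ((a • z * z) * d) * ((a • z * z) * d) = y • a • z * a • z := by
    rw [phi_mul Q.S.F.sq, hyd, Q.S.F.sq, mul_one, phi_mul Q.S.F.sq, hyz, Q.S.F.sq, mul_one]
  rw [e1] at hd
  set v := y • a • z * a • z with hv
  by_cases hv1 : v = 1
  · rw [smul_mul', smul_mul', hyd, hyz, eqm Q.S.F.sq hv1]
  exfalso
  have h1 : a • z ∈ (a * h) • lam := by
    rw [mul_smul]
    exact smul_mem_pointwise_smul _ _ _ hz
  have h2 : y • a • z ∈ (y * (a * h)) • lam := by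
    rw [mul_smul]
    exact smul_mem_pointwise_smul _ _ _ h1
  have haU : (a * h) • lam ≤ (a * h) • U := smul_mono_right _ Q.S.F.le
  have hvU : v ∈ (a * h) • U := by
    rw [mul_smul, ← hab.1 v hd.1]
    exact smul_mem_pointwise_smul _ _ _ hd.2
  have h3 : y • a • z = v * a • z := by rw [hv, mul_assoc, Q.S.F.sq, mul_one]
  have h4 : y • a • z ∈ (a * h) • U := by
    rw [h3]
    exact mul_mem hvU (haU h1)
  have haz1 : a • z ≠ 1 := by
    intro hc
    apply hz1
    rw [smul_eq_iff_eq_inv_smul, smul_one] at hc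
    exact hc
  have hyaz1 : y • a • z ≠ 1 := by
    intro hc
    apply haz1
    rw [smul_eq_iff_eq_inv_smul, smul_one] at hc
    exact hc
  have hnot : (y * (a * h)) • lam ≠ (a * h) • lam := by
    intro hc
    apply hv1
    rw [mul_smul] at hc
    rw [hv, Q.two_V hyb hc h1, Q.S.F.sq]
  obtain ⟨-, g, hg⟩ := Q.S.F.coll' hnot h2 h4 hyaz1 (mul_mem (mem_sup_left h2) (mem_sup_right h1)) hv1
  have hvB : v ∈ br (cj (h * f) A₁) := mem_br hy _
  by_cases hgg : g • lam = (a * h) • lam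
  · apply hnot
    apply Q.S.F.ti'
    refine ne_bot_iff'.2 ⟨y • a • z, ⟨h2, ?_⟩, hyaz1⟩
    rw [h3]
    exact mul_mem (hgg ▸ hg) h1
  · have h5 := Q.I.sym' hgg hg hvU hv1
    have h6 := Q.cenB hvB hv1 hg hy (h5 h1)
    apply hv1
    rw [hv, h6, Q.S.F.sq]

/-- `y ↦ [u, y]` is onto `V/D` for `u ∈ U - D` -/
theorem onto {u : M} (hu : u ∈ U) (huD : u ∉ U ⊓ h • U) {v : M} (hv : v ∈ h • U) :
    ∃ y ∈ cj (h * f) A₁, ∃ d ∈ U ⊓ h • U, v = (y • u * u) * d := by
  have hB : ∀ y ∈ cj (h * f) A₁, IsBB (h • U) y := fun y hy => Q.S.B_bb hy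
  set X := (im Q.S.F.sq hB u).range with hX
  have h1 := card_im Q.S.F.sq hB u
  have h2 : cj (h * f) A₁ ⊓ MulAction.stabilizer H u = ⊥ := by
    rw [eq_bot_iff_forall]
    rintro y ⟨hy, hy'⟩
    by_contra hy1
    exact huD (Q.mem_D_of_fix' hy hy1 hu (MulAction.mem_stabilizer_iff.1 hy'))
  rw [h2, card_bot, mul_one, ← hX] at h1
  have h3 : X ⊓ (U ⊓ h • U) = ⊥ := by
    rw [eq_bot_iff_forall]
    rintro x ⟨hx, hx'⟩
    obtain ⟨y, hy, rfl⟩ := mem_im.1 hx
    by_cases hy1 : y = 1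
    · rw [hy1, one_smul, Q.S.F.sq]
    · exact absurd (Q.bij hu hy hy1 hx') huD
  have h4 := Q.S.card_supM X (U ⊓ h • U)
  rw [h3, card_bot, mul_one, h1] at h4
  obtain ⟨l, hl, hl1⟩ := Q.S.F.exists_ne
  have h5 : (h • U : Subgroup M) ≤ (im Q.S.F.sq hB l).range ⊔ (U ⊓ h • U) := by
    intro w hw
    obtain ⟨b, hb, d, hd, rfl⟩ := Q.S.r2 hl hl1 hw
    exact mul_mem (mem_sup_left (mem_im.2 ⟨b, hb, rfl⟩)) (mem_sup_right hd)
  have h6 : Nat.card (h • U : Subgroup M) ≤ Nat.card (cj (h * f) A₁) * Nat.card (U ⊓ h • U : Subgroup M) := by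
    have h7 := Q.S.card_supM (im Q.S.F.sq hB l).range (U ⊓ h • U)
    have h8 := card_im Q.S.F.sq hB l
    have h9 := Subgroup.card_le_of_le h5
    have h10 : 0 < Nat.card ((im Q.S.F.sq hB l).range ⊓ (U ⊓ h • U) : Subgroup M) := Nat.card_pos
    have h11 : Nat.card ((im Q.S.F.sq hB l).range ⊔ (U ⊓ h • U) : Subgroup M) ≤
        Nat.card (im Q.S.F.sq hB l).range * Nat.card (U ⊓ h • U : Subgroup M) := by
      rw [← h7]
      exact Nat.le_mul_of_pos_right _ h10
    refine h9.trans (h11.trans (Nat.mul_le_mul_right _ ?_))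
    rw [← h8]
    exact Nat.le_mul_of_pos_right _ Nat.card_pos
  have h7 : X ⊔ (U ⊓ h • U) ≤ h • U := by
    refine sup_le ?_ inf_le_right
    intro x hx
    obtain ⟨y, hy, rfl⟩ := mem_im.1 hx
    exact (hB y hy).2 u
  have h8 : X ⊔ (U ⊓ h • U) = h • U := eq_of_le_of_card_ge h7 (h6.trans h4.ge)
  rw [← h8] at hv
  obtain ⟨x, hx, d, hd, rfl⟩ := (mem_sup' Q.S.F.sq).1 hv
  obtain ⟨y, hy, rfl⟩ := mem_im.1 hx
  exact ⟨y, hy, d, hd, rfl⟩

/-- (2) FAT POINTS -/
theorem fat {s : H} (hs : s ∈ A₁) (hs1 : s ≠ 1) {z : M} (hz : z ∈ h • lam) (hz1 : z ≠ 1) :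
    ∃ b ∈ cj (h * f) A₁, ∃ d ∈ U ⊓ h • U, (b * s) • z = (s • z * z) * d ∧ (b * s) • h • U = U ∧
      (s • z * z) * d ∈ br A₁ ⊔ lam ∧ (s • z * z) * d ≠ 1 := by
  have hsb := Q.S.hA s hs
  set u := s • z * z with hu
  have huU : u ∈ U := hsb.2 z
  have huD : u ∉ U ⊓ h • U := fun hc => hs1 (Q.S.eq_one_of hz hz1 hs (Q.S.i1 Q.S.hA Q.S.wdA hs hz hc))
  obtain ⟨b, hb, d, hd, e⟩ := Q.onto huU huD (Q.S.mu_le hz)
  have hbb := Q.S.B_bb hb
  have h1 : (b * s) • z = u * d := by
    have h2 : s • z = u * z := by rw [hu, mul_assoc, Q.S.F.sq, mul_one]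
    rw [mul_smul, h2, smul_mul', hbb.1 z (Q.S.mu_le hz)]
    have h3 : b • u = (b • u * u) * u := by rw [mul_assoc, Q.S.F.sq, mul_one]
    have h4 : b • u * u = z * d := by
      have h5 : z * d = (b • u * u) * d * d := by rw [← e]
      rw [h5, mul_assoc (b • u * u), Q.S.F.sq, mul_one]
    rw [h3, h4, Q.S.F.mc (z * d * u) z, mul_assoc z d u, aa Q.S.F.sq, Q.S.F.mc d u]
  have hdB : d ∈ br (cj (h * f) A₁) ⊔ h • lam := by
    have h2 : d = (b • u * u) * z := by rw [e, aa Q.S.F.sq]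
    rw [h2]
    exact mul_mem (mem_sup_left (mem_br hb u)) (mem_sup_right hz)
  have hdA : d ∈ br A₁ ⊔ lam := by
    rw [br_cj] at hdB
    have := smul_mem_pointwise_smul d (h * f) _ hdB
    rwa [smul_sup, ← mul_smul, Q.S.f1_sq, one_smul, Q.S.f1_D hd, Q.S.f1_mu] at this
  have h2 : u * d ∈ br A₁ ⊔ lam := mul_mem (mem_sup_left (mem_br hs z)) hdA
  have h3 : u * d ≠ 1 := fun hc => huD (by rw [eqm Q.S.F.sq hc]; exact hd)
  have h4 : u * d ∈ ((b * s) * h) • lam := by
    rw [← h1, mul_smul (b * s) h]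
    exact smul_mem_pointwise_smul _ _ _ hz
  have h5 := Q.I.cen _ (sup_le_sup_right (br_mono Q.le) lam h2) h3 _ h4 f (Q.le Q.S.hf)
  refine ⟨b, hb, d, hd, h1, ?_, h2, h3⟩
  refine eq_of_le_of_card_ge ?_ ?_
  · rintro _ ⟨w, hw, rfl⟩
    change (b * s) • w ∈ U
    set u₁ := s • w * w with hu₁
    have hu₁U : u₁ ∈ U := hsb.2 w
    have h6 : (b * s) • w = u₁ * ((b • u₁ * u₁) * w) := by
      have h7 : s • w = u₁ * w := by rw [hu₁, mul_assoc, Q.S.F.sq, mul_one]
      rw [mul_smul, h7, smul_mul', hbb.1 w hw, Q.S.F.mc (b • u₁) u₁]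
      simp only [mul_assoc]
      rw [aa Q.S.F.sq]
    have h7 : f • (b * s) • w = (b * s) • w := by
      apply h5
      rw [mul_smul (b * s) h]
      exact smul_mem_pointwise_smul _ _ _ hw
    rw [h6, smul_mul', Q.S.f_fix hu₁U] at h7
    have h8 := Q.S.cvf (mul_mem (hbb.2 u₁) hw) (mul_left_cancel h7)
    rw [h6]
    exact mul_mem hu₁U h8.1
  · rw [card_smul_eq, card_smul_eq]

end At

end Cfsg.Agent.Omega.NO3S.OneS

end

section


/-!
# THEOREM INN_s (OMEGA, NO-3S MidQ, `s ≥ 4`; helper49, end by helper426): atoms; K-free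

`Fatt lam U A` : (T), the fat line vectors of `[M, A]` are in `lam`; `FattS` : the same for `[M, A] lam`.
`At.dec`, `At.card_A` : `U = lam × D`, `|A₁| = |lam|`.  `At.split` : `X = A₁ × C_X(μ)` for `A₁ ≤ X ≤ A`, and `C_X(μ)` centralises `V`, is exact if `X` is.
`At.comm` : for `A₃` exact centralising `V`, `[b, y] ∈ A₃^f₁` for `b ∈ A₃`, `y ∈ B`.
-/

set_option autoImplicit false
set_option maxHeartbeats 400000

namespace Cfsg.Agent.Omega.NO3S.OneS

open Subgroup Cfsg.Agent.ClassTwoFusion.Quad Cfsg.Agent.Omega.NOThree.NoOver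
open scoped Pointwise

variable {H : Type*} [Group H] {M : Type*} [Group M] [MulDistribMulAction H M]

/-- (T) -/
def Fatt (lam U : Subgroup M) (A : Subgroup H) : Prop :=
  ∀ g : H, g • U = U → ∀ v ∈ br A, v ≠ 1 → v ∈ g • lam → g • lam = lam

/-- (T) for `[M, A] lam` -/
def FattS (lam U : Subgroup M) (A : Subgroup H) : Prop :=
  ∀ g : H, g • U = U → ∀ v ∈ br A ⊔ lam, v ≠ 1 → v ∈ g • lam → g • lam = lam

/-- every exact subgroup `≠ 1` contains a minimal one -/
theorem exists_atom [Finite H] {X : Subgroup H} (hX : X ≠ ⊥) (hex : fo M X = Nat.card M)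
    (no : ∀ Y ≤ X, fo M Y ≤ Nat.card M) :
    ∃ A₁ ≤ X, A₁ ≠ ⊥ ∧ fo M A₁ = Nat.card M ∧ ∀ Y ≤ A₁, Y ≠ ⊥ → Y ≠ A₁ → fo M Y < Nat.card M := by
  obtain ⟨A₁, ⟨h1, h2, h3⟩, hmin⟩ := Set.exists_min_image
    {Y : Subgroup H | Y ≤ X ∧ Y ≠ ⊥ ∧ fo M Y = Nat.card M} (fun Y => Nat.card Y) (Set.toFinite _) ⟨X, le_rfl, hX, hex⟩
  refine ⟨A₁, h1, h2, h3, fun Y hY hY1 hY2 => ?_⟩
  refine lt_of_le_of_ne (no Y (hY.trans h1)) fun h4 => hY2 ?_
  exact eq_of_le_of_card_ge hY (hmin Y ⟨hY.trans h1, hY1, h4⟩)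

/-- atoms of exact groups are `At` -/
theorem Inn.exists_at [Finite H] {lam U : Subgroup M} {A : Subgroup H} (I : Inn H lam U A) {X : Subgroup H}
    (hXA : X ≤ A) (hX : X ≠ ⊥) (hex : fo M X = Nat.card M) : ∃ A₁ ≤ X, ∃ f h, At lam U A A₁ f h := by
  obtain ⟨A₁, h1, h2, h3, h4⟩ := exists_atom hX hex fun Y hY => I.F.no Y fun y hy => I.hA y (hXA (hY hy))
  obtain ⟨f, hf, hf1⟩ : ∃ f ∈ A₁, f ≠ 1 := by
    by_contra hcon
    push Not at hcon
    exact h2 ((Subgroup.eq_bot_iff_forall _).2 hcon)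
  obtain ⟨h, hh1, hodd, hinv⟩ := I.bs f (I.F.bb_sq (I.hA f (hXA (h1 hf)))) hf1
  exact ⟨A₁, h1, f, h, I, h1.trans hXA, I.sit (h1.trans hXA) h3 h4 hf hh1 hodd hinv⟩

namespace At

variable {lam U : Subgroup M} {A A₁ : Subgroup H} {f h : H} (Q : At lam U A A₁ f h)
include Q

theorem wd' (v : M) (hv : v ∈ U ⊓ h • U) (hvA : v ∈ br A ⊔ lam) : v ∉ Lam H lam := by
  rintro ⟨hv1, g, hg⟩
  have h2 := Q.I.cen v hvA hv1 g hg f (Q.le Q.S.hf)
  by_cases hgh : g • lam = h • lam
  · have h3 : (h * f) • v ∈ lam := Q.S.f1_mem_lam (hgh ▸ hg)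
    rw [Q.S.f1_D hv] at h3
    exact hv1 (Q.S.lam_D h3 hv)
  · have h3 := Q.I.sym' hgh hg hv.2 hv1
    exact Q.S.hmov (smul_eq_of_fix fun x hx => h2 x (h3 hx))

theorem wdX {X : Subgroup H} (hX : X ≤ A) (v : M) (hv : v ∈ U ⊓ h • U) (hv' : v ∈ br X) : v ∉ Lam H lam :=
  Q.wd' v hv (mem_sup_left (br_mono hX hv'))

variable [Finite H] [Finite M]

theorem mu_D {z : M} (hz : z ∈ h • lam) (hd : z ∈ U ⊓ h • U) : z = 1 := by
  have h1 := Q.S.lam_D (Q.S.f1_mem_lam hz) (by rw [Q.S.f1_D hd]; exact hd)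
  by_contra h2
  exact Q.S.f1_ne h2 h1

theorem move (hT : FattS lam U A) {s : H} (hs : s ∈ A₁) (hs1 : s ≠ 1) :
    ∃ b ∈ cj (h * f) A₁, (b * s) • h • lam = lam := by
  obtain ⟨z, hz, hz1⟩ := Q.S.exists_mu
  obtain ⟨b, hb, d, hd, e1, e2, e3, e4⟩ := Q.fat hs hs1 hz hz1
  refine ⟨b, hb, ?_⟩
  rw [← mul_smul]
  refine hT _ (by rw [mul_smul, e2]) _ (sup_le_sup_right (br_mono Q.le) lam e3) e4 ?_
  rw [← e1, mul_smul (b * s) h]
  exact smul_mem_pointwise_smul _ _ _ hz

/-- `[m, s] ∈ lam D` -/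
theorem dec (hT : FattS lam U A) {s : H} (hs : s ∈ A₁) {z : M} (hz : z ∈ h • lam) :
    ∃ l ∈ lam, ∃ d ∈ U ⊓ h • U, s • z * z = l * d := by
  by_cases hs1 : s = 1
  · refine ⟨1, one_mem _, 1, one_mem _, ?_⟩
    rw [hs1, one_smul, Q.S.F.sq, one_mul]
  obtain ⟨b, hb, e⟩ := Q.move hT hs hs1
  have h1 : (b * s) • z ∈ lam := by
    rw [← e]
    exact smul_mem_pointwise_smul _ _ _ hz
  set u := s • z * z with hu
  have huU : u ∈ U := (Q.S.hA s hs).2 z
  have hbb := Q.S.B_bb hb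
  have h2 : (b * s) • z = u * ((b • u * u) * z) := by
    have h7 : s • z = u * z := by rw [hu, mul_assoc, Q.S.F.sq, mul_one]
    rw [mul_smul, h7, smul_mul', hbb.1 z (Q.S.mu_le hz), Q.S.F.mc (b • u) u]
    simp only [mul_assoc]
    rw [aa Q.S.F.sq]
  refine ⟨(b * s) • z, h1, (b • u * u) * z, ⟨?_, mul_mem (hbb.2 u) (Q.S.mu_le hz)⟩, ?_⟩
  · have h3 : (b • u * u) * z = u * ((b * s) • z) := by rw [h2, aa Q.S.F.sq]
    rw [h3]
    exact mul_mem huU (Q.S.F.le h1)
  · rw [h2, mul_assoc, Q.S.F.sq, mul_one]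

theorem U_dec (hT : FattS lam U A) : lam ⊔ (U ⊓ h • U) = U := by
  apply le_antisymm
  · exact sup_le Q.S.F.le inf_le_left
  · intro u hu
    obtain ⟨z, hz, hz1⟩ := Q.S.exists_mu
    obtain ⟨a, ha, d, hd, rfl⟩ := Q.S.r1 hz hz1 hu
    obtain ⟨l, hl, d', hd', e⟩ := Q.dec hT ha hz
    rw [e, mul_assoc]
    exact mul_mem (mem_sup_left hl) (mem_sup_right (mul_mem hd' hd))

theorem lam_inf_D : lam ⊓ (U ⊓ h • U) = ⊥ := by
  rw [eq_bot_iff_forall]
  rintro x ⟨h1, h2⟩
  exact Q.S.lam_D h1 h2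

theorem card_A (hT : FattS lam U A) : Nat.card A₁ = Nat.card lam := by
  obtain ⟨z, hz, hz1⟩ := Q.S.exists_mu
  set X := (im Q.S.F.sq Q.S.hA z).range with hX
  have h1 := card_im Q.S.F.sq Q.S.hA z
  rw [(Q.S.key hz hz1).1, card_bot, mul_one, ← hX] at h1
  have h2 : X ⊓ (U ⊓ h • U) = ⊥ := by
    rw [eq_bot_iff_forall]
    rintro x ⟨hx, hx'⟩
    obtain ⟨b, hb, rfl⟩ := mem_im.1 hx
    rw [Q.S.i1 Q.S.hA Q.S.wdA hb hz hx', Q.S.F.sq]
  have h3 : X ⊔ (U ⊓ h • U) = U := by
    apply le_antisymm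
    · refine sup_le ?_ inf_le_left
      intro x hx
      obtain ⟨b, hb, rfl⟩ := mem_im.1 hx
      exact (Q.S.hA b hb).2 z
    · intro u hu
      obtain ⟨a, ha, d, hd, rfl⟩ := Q.S.r1 hz hz1 hu
      exact mul_mem (mem_sup_left (mem_im.2 ⟨a, ha, rfl⟩)) (mem_sup_right hd)
  have h4 := Q.S.card_supM X (U ⊓ h • U)
  rw [h2, h3, card_bot, mul_one, h1] at h4
  have h5 := Q.S.card_supM lam (U ⊓ h • U)
  rw [Q.lam_inf_D, Q.U_dec hT, card_bot, mul_one, h4] at h5
  exact Nat.eq_of_mul_eq_mul_right Nat.card_pos h5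

/-- `X = A₁ C_X(μ)` -/
theorem split {X : Subgroup H} (hX : X ≤ A) {b : H} (hb : b ∈ X) (h1 : A₁ ≤ X) :
    ∃ a ∈ A₁, a * b ∈ X ⊓ fixingSubgroup H ((h • lam : Subgroup M) : Set M) := by
  have hXb : ∀ b ∈ X, IsBB U b := fun b hb => Q.I.hA b (hX hb)
  obtain ⟨z, hz, hz1⟩ := Q.S.exists_mu
  obtain ⟨a, ha, d, hd, e⟩ := Q.S.r1 hz hz1 ((hXb b hb).2 z)
  have hab : a * b ∈ X := mul_mem (h1 ha) hb
  refine ⟨a, ha, hab, ?_⟩
  have h2 : (a * b) • z * z = d := by
    rw [smul_mul_self Q.S.F.sq, (Q.S.hA a ha).1 _ ((hXb b hb).2 z), e, Q.S.F.mc _ (a • z * z), aa Q.S.F.sq]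
  have h3 : (a * b) • z = z := Q.S.i1 hXb (Q.wdX hX) hab hz (by rw [h2]; exact hd)
  exact (mem_fixingSubgroup_iff H).2 fun z' hz' => Q.S.two_mu (hXb _ hab) hz hz1 h3 hz'

theorem split_sup {X : Subgroup H} (hX : X ≤ A) (h1 : A₁ ≤ X) :
    A₁ ⊔ X ⊓ fixingSubgroup H ((h • lam : Subgroup M) : Set M) = X := by
  apply le_antisymm (sup_le h1 inf_le_left)
  intro b hb
  obtain ⟨a, ha, hab⟩ := Q.split hX hb h1
  have h2 : b = a⁻¹ * (a * b) := by group
  rw [h2]
  exact mul_mem (Subgroup.inv_mem _ (mem_sup_left ha)) (mem_sup_right hab)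

theorem split_inf {X : Subgroup H} : A₁ ⊓ (X ⊓ fixingSubgroup H ((h • lam : Subgroup M) : Set M)) = ⊥ := by
  obtain ⟨z, hz, hz1⟩ := Q.S.exists_mu
  rw [eq_bot_iff_forall]
  rintro a ⟨ha, -, ha'⟩
  exact Q.S.eq_one_of hz hz1 ha ((mem_fixingSubgroup_iff H).1 ha' z hz)

theorem split_card {X : Subgroup H} (hX : X ≤ A) (h1 : A₁ ≤ X) :
    Nat.card X = Nat.card A₁ * Nat.card (X ⊓ fixingSubgroup H ((h • lam : Subgroup M) : Set M) : Subgroup H) := by
  have hXb : ∀ b ∈ X, IsBB U b := fun b hb => Q.I.hA b (hX hb)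
  have h2 := card_sup_mul A₁ (X ⊓ fixingSubgroup H ((h • lam : Subgroup M) : Set M))
    (Q.S.F.le_norm Q.S.hA fun b hb => hXb b hb.1)
  rw [Q.split_sup hX h1, Q.split_inf, card_bot, mul_one] at h2
  exact h2

/-- `C_X(μ)` centralises `V` -/
theorem fix_V {X : Subgroup H} (hX : X ≤ A) {b : H}
    (hb : b ∈ X ⊓ fixingSubgroup H ((h • lam : Subgroup M) : Set M)) : ∀ v ∈ h • U, b • v = v := by
  have hXb : ∀ b ∈ X, IsBB U b := fun b hb => Q.I.hA b (hX hb)
  obtain ⟨z₀, hz₀, hz₀1⟩ := Q.S.F.exists_ne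
  intro v hv
  obtain ⟨b', hb', d', hd', rfl⟩ := Q.S.r2 hz₀ hz₀1 hv
  rw [smul_mul', Q.S.i2 hXb (Q.wdX hX) hb.1 ((mem_fixingSubgroup_iff H).1 hb.2) (Q.S.B_bb hb') hz₀,
    (hXb _ hb.1).1 d' hd'.1]

/-- `C_X(μ)` is exact if `X` is -/
theorem split_exact (hT : FattS lam U A) {X : Subgroup H} (hX : X ≤ A) (h1 : A₁ ≤ X) (hex : fo M X = Nat.card M) :
    fo M (X ⊓ fixingSubgroup H ((h • lam : Subgroup M) : Set M)) = Nat.card M := by
  set P := X ⊓ fixingSubgroup H ((h • lam : Subgroup M) : Set M) with hP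
  apply le_antisymm (Q.I.F.no P fun b hb => Q.I.hA b (hX hb.1))
  have h2 := card_mul_le (h • lam) (cv M (X : Set H)) (cv M (P : Set H))
    (fun v hv b hb => Q.fix_V hX hb v (Q.S.mu_le hv)) (cv_anti (SetLike.coe_subset_coe.2 inf_le_left))
  have h3 : h • lam ⊓ cv M (X : Set H) = ⊥ := by
    rw [eq_bot_iff_forall]
    rintro v ⟨hv, hv'⟩
    exact Q.mu_D hv (Q.S.cvf (Q.S.mu_le hv) (hv' f (h1 Q.S.hf)))
  rw [h3, card_bot, one_mul, card_smul_eq, ← Q.card_A hT] at h2
  rw [← hex]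
  unfold fo
  rw [Q.split_card hX h1, ← hP, mul_comm (Nat.card A₁), mul_assoc]
  exact Nat.mul_le_mul_left _ h2

/-- `[b, y] ∈ A₃^f₁` and `[[m, b], y] = [m, [b, y]]` -/
theorem comm {A₃ : Subgroup H} (h3 : ∀ b ∈ A₃, IsBB U b) (hex : fo M A₃ = Nat.card M)
    (hV : ∀ b ∈ A₃, ∀ v ∈ h • U, b • v = v) {b : H} (hb : b ∈ A₃) {y : H} (hy : y ∈ cj (h * f) A₁) :
    y * b * y * b ∈ cj (h * f) A₃ ∧
      ∀ m : M, y • (b • m * m) * (b • m * m) = (y * b * y * b) • m * m := by
  have S := Q.S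
  set C := cv M ((A₃ : Subgroup H) : Set H) with hC
  have hUC : U ≤ C := fun u hu b hb => (h3 b hb).1 u hu
  have hVC : h • U ≤ C := fun v hv b hb => hV b hb v hv
  have hfC : f ∈ MulAction.stabilizer H C :=
    MulAction.mem_stabilizer_iff.2 (S.smul_eq_of fun m _ => hUC ((S.hA f S.hf).2 m))
  have hgC : h * f * h⁻¹ ∈ MulAction.stabilizer H C :=
    MulAction.mem_stabilizer_iff.2 (S.smul_eq_of fun m _ => hVC (S.g_bb.2 m))
  have hhC := S.h_mem _ hfC hgC
  have hf1C : (h * f) • C = C := MulAction.mem_stabilizer_iff.1 (mul_mem hhC hfC)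
  have hX : KK H S.F.sq U C = A₃ := by
    symm
    refine eq_of_le_of_card_ge (fun b hb => mem_KK.2 ⟨h3 b hb, fun c hc => hc b hb⟩) ?_
    have h2 := S.F.no (KK H S.F.sq U C) fun x hx => (mem_KK.1 hx).1
    have h4 : Nat.card C ≤ Nat.card (cv M ((KK H S.F.sq U C : Subgroup H) : Set H)) :=
      Subgroup.card_le_of_le fun c hc b hb => (mem_KK.1 hb).2 c hc
    rw [← hex] at h2
    unfold fo at h2
    rw [← hC] at h2
    refine Nat.le_of_mul_le_mul_right (c := Nat.card C) ?_ Nat.card_pos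
    exact (Nat.mul_le_mul_left _ h4).trans h2
  have hyb := S.B_bb hy
  have hyy : ∀ m : M, y • y • m = m := fun m => by
    have h2 : y * y = 1 := by
      have h4 := S.F.bb_sq (S.hA _ (S.f1_cj' hy))
      have h5 : y * y = (h * f)⁻¹ * (((h * f) * y * (h * f)) * ((h * f) * y * (h * f))) * (h * f)⁻¹ := by
        have h6 : (h * f)⁻¹ * (((h * f) * y * (h * f)) * ((h * f) * y * (h * f))) * (h * f)⁻¹ =
            y * ((h * f) * (h * f)) * y := by group
        rw [h6, S.f1_sq, mul_one]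
      rw [h5, h4, mul_one, ← mul_inv_rev, S.f1_sq, inv_one]
    rw [← mul_smul, h2, one_smul]
  have hyC : ∀ c ∈ C, y • c ∈ C := by
    intro c hc
    have h2 : y • c = (y • c * c) * c := by rw [mul_assoc, S.F.sq, mul_one]
    rw [h2]
    exact mul_mem (hVC (hyb.2 c)) hc
  have hbb : ∀ m : M, b • b • m = m := fun m => by
    rw [← mul_smul, S.F.bb_sq (h3 b hb), one_smul]
  have hbV : ∀ v ∈ h • U, b • v = v := hV b hb
  have hk4 : ∀ m : M, (y * b * y * b) • m * m = (y • b • m * b • m) * (y • m * m) := by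
    intro m
    have h2 : y • b • m = (y • b • m * b • m) * b • m := by rw [mul_assoc, S.F.sq, mul_one]
    have h3 : b • y • b • m = (y • b • m * b • m) * m := by
      rw [h2, smul_mul', hbV _ (hyb.2 _), hbb]
      rw [mul_assoc (y • b • m * b • m), S.F.sq, mul_one]
    rw [mul_smul, mul_smul, mul_smul, h3, smul_mul', hyb.1 _ (hyb.2 _), mul_assoc]
  have hkV : IsBB (h • U) (y * b * y * b) := by
    refine ⟨fun v hv => ?_, fun m => ?_⟩
    · rw [mul_smul, mul_smul, mul_smul, hbV v hv, hyb.1 v hv, hbV v hv, hyb.1 v hv]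
    · rw [hk4]
      exact mul_mem (hyb.2 _) (hyb.2 _)
  have hkC : ∀ c ∈ C, (y * b * y * b) • c = c := by
    intro c hc
    rw [mul_smul, mul_smul, mul_smul, (hc b hb : b • c = c), (hyC c hc b hb : b • y • c = y • c), hyy]
  refine ⟨?_, fun m => ?_⟩
  · rw [mem_cj, ← hX, mem_KK]
    refine ⟨?_, fun c hc => ?_⟩
    · have h2 := isBB_conj (h * f)⁻¹ hkV
      rw [inv_inv] at h2
      have h4 : (h * f)⁻¹ • h • U = U := by rw [S.f1_inv, S.f1_V]
      rwa [h4] at h2
    · rw [mul_smul, mul_smul]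
      have h2 : (h * f) • c ∈ C := by
        rw [← hf1C]
        exact smul_mem_pointwise_smul _ _ _ hc
      rw [hkC _ h2, inv_smul_smul]
  · rw [hk4, phi_mul S.F.sq]

end At

end Cfsg.Agent.Omega.NO3S.OneS

end

section


/-!
# (ML), the K-list end: from the almost simple group to the situation `In` (helper721)

* `In.as` : the image of `In H M K T A` in `H / C_H(K)` is a situation `AS`, `|A|` is unchanged and the socle is
  isomorphic to `K / Z(K)`;
* `DeadG.dead` : `DeadG 𝒮 → Dead 𝒮` for isomorphism-closed `𝒮`.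
-/

set_option autoImplicit false

namespace Cfsg.Agent.Omega.ML.Rows

open Subgroup Cfsg Cfsg.Agent.ZN Cfsg.Agent.Omega.NOThree.NoOver Cfsg.Agent.Omega.ML.CD
open Cfsg.Agent.MinSimple.VModule (o2_isPGroup o2_le le_o2 le_normalizer_o2)

universe u v w

variable {H : Type u} [Group H] {M : Type v} [Group M] [MulDistribMulAction H M] {K T A : Subgroup H}

/-- An element commuting with the perfect group `K` modulo the centre commutes with `K`. -/
theorem commutes_of_central (hperf : commutator K = ⊤) {h : H}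
    (hc : ∀ k ∈ K, ∀ x : H, x * (h * k * h⁻¹ * k⁻¹) = (h * k * h⁻¹ * k⁻¹) * x) : h ∈ centralizer (K : Set H) := by
  have hmem : ∀ k ∈ K, h * k * h⁻¹ * k⁻¹ ∈ center H := fun k hk => mem_center_iff.2 fun x => hc k hk x
  let f : K →* center H :=
    { toFun := fun k => ⟨h * k * h⁻¹ * (k : H)⁻¹, hmem k k.2⟩
      map_one' := Subtype.ext (by simp)
      map_mul' := fun a b => Subtype.ext (by
        change h * ((a : H) * b) * h⁻¹ * ((a : H) * b)⁻¹ =
          (h * a * h⁻¹ * (a : H)⁻¹) * (h * b * h⁻¹ * (b : H)⁻¹)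
        have h1 := hc b b.2 (a : H)
        calc h * ((a : H) * b) * h⁻¹ * ((a : H) * b)⁻¹
            = (h * a * h⁻¹) * ((h * b * h⁻¹ * (b : H)⁻¹) * (a : H)⁻¹) := by group
          _ = (h * a * h⁻¹) * ((a : H)⁻¹ * (h * b * h⁻¹ * (b : H)⁻¹)) := by
              rw [hc b b.2 (a : H)⁻¹]
          _ = _ := by group) }
  have h1 : commutator K ≤ f.ker := by
    rw [commutator_def, commutator_le]
    intro a _ b _
    rw [MonoidHom.mem_ker, map_commutatorElement, commutatorElement_eq_one_iff_mul_comm]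
    exact Subtype.ext (mem_center_iff.1 (f b).2 (f a))
  rw [hperf] at h1
  refine mem_centralizer_iff.2 fun k hk => ?_
  have h2 : f ⟨k, hk⟩ = 1 := h1 (mem_top _)
  have h3 : h * k * h⁻¹ * k⁻¹ = 1 := congrArg Subtype.val h2
  have h4 : h * k * h⁻¹ = k := by rwa [mul_inv_eq_one] at h3
  calc k * h = (h * k * h⁻¹) * h := by rw [h4]
    _ = h * k := by group

theorem In.perf (h : In H M K T A) : commutator K = ⊤ := by
  have := h.qs.1
  exact Group.IsPerfect.commutator_eq_top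

section

variable (h : In H M K T A) (hZ : (centralizer (K : Set H)).Normal)

include h

theorem In.inf_eq_bot [Finite H] (P : Subgroup H) (hP : IsPGroup 2 P) : P ⊓ centralizer (K : Set H) = ⊥ := by
  rw [eq_bot_iff]
  intro x hx
  obtain ⟨n, hn⟩ := hP ⟨x, hx.1⟩
  have h1 : x ^ 2 ^ n = 1 := congrArg Subtype.val hn
  have h2 : orderOf x ∣ 2 ^ n := orderOf_dvd_of_pow_eq_one h1
  have h3 : orderOf x ∣ Nat.card (centralizer (K : Set H)) := by
    have := orderOf_dvd_natCard (⟨x, hx.2⟩ : centralizer (K : Set H))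
    rwa [orderOf_mk] at this
  rw [h.card_centralizer] at h3
  have h4 : Nat.Coprime (2 ^ n) (Nat.card (center K)) := (Nat.coprime_two_left.2 h.odd).pow_left n
  have h5 : orderOf x = 1 := Nat.eq_one_of_dvd_coprimes h4 h2 h3
  exact mem_bot.2 (orderOf_eq_one_iff.1 h5)

/-- A subgroup `R ≥ T` covering `H / Z` is `H`. -/
theorem In.eq_top_of_sup [Finite H] {R : Subgroup H} (hR : R ⊔ centralizer (K : Set H) = ⊤) : R = ⊤ := by
  have hZn := h.normalZ
  -- `R` is normal
  have hRn : R.Normal := by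
    refine ⟨fun r hr g => ?_⟩
    have hg : g ∈ R ⊔ centralizer (K : Set H) := hR ▸ mem_top g
    obtain ⟨s, hs, z, hz, rfl⟩ := mem_sup_of_normal_right.1 hg
    have h1 : s * z * r * (s * z)⁻¹ = s * r * s⁻¹ := by
      have h2 := h.zen z hz r
      calc s * z * r * (s * z)⁻¹ = s * (z * r) * z⁻¹ * s⁻¹ := by group
        _ = s * (r * z) * z⁻¹ * s⁻¹ := by rw [h2]
        _ = _ := by group
    rw [h1]
    exact mul_mem (mul_mem hs hr) (inv_mem hs)
  -- the quotient is an image of `Z`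
  have hq : ∀ x : H ⧸ R, ∃ z ∈ centralizer (K : Set H), QuotientGroup.mk z = x := by
    intro x
    obtain ⟨g, rfl⟩ := QuotientGroup.mk_surjective x
    have hg : g ∈ R ⊔ centralizer (K : Set H) := hR ▸ mem_top g
    obtain ⟨s, hs, z, hz, rfl⟩ := mem_sup_of_normal_right.1 hg
    refine ⟨z, hz, ?_⟩
    rw [QuotientGroup.mk_mul, (QuotientGroup.eq_one_iff s).2 hs, one_mul]
  have hcomm : ∀ x y : H ⧸ R, x * y = y * x := by
    intro x y
    obtain ⟨z, hz, rfl⟩ := hq x
    obtain ⟨g, rfl⟩ := QuotientGroup.mk_surjective y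
    rw [← QuotientGroup.mk_mul, ← QuotientGroup.mk_mul, h.zen z hz g]
  have hK : K ≤ R := by
    let _ : CommGroup (H ⧸ R) := { (inferInstance : Group (H ⧸ R)) with mul_comm := hcomm }
    have h1 : commutator K ≤ ((QuotientGroup.mk' R).comp K.subtype).ker :=
      Abelianization.commutator_subset_ker ((QuotientGroup.mk' R).comp K.subtype)
    rw [h.perf] at h1
    intro k hk
    have h2 : ((QuotientGroup.mk' R).comp K.subtype) ⟨k, hk⟩ = 1 := h1 (mem_top _)
    exact (QuotientGroup.eq_one_iff k).1 h2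
  have hA : A ≤ R := by
    intro a ha
    obtain ⟨z, hz, hza⟩ := hq (QuotientGroup.mk a)
    have h1 : (QuotientGroup.mk a : H ⧸ R) ^ 2 = 1 := by
      rw [pow_two, ← QuotientGroup.mk_mul, h.el a ha, QuotientGroup.mk_one]
    have h2 : (QuotientGroup.mk a : H ⧸ R) ^ Nat.card (center K) = 1 := by
      rw [← hza, ← QuotientGroup.mk_pow, ← h.card_centralizer]
      have h3 : (⟨z, hz⟩ : centralizer (K : Set H)) ^ Nat.card (centralizer (K : Set H)) = 1 := pow_card_eq_one'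
      have h4 : z ^ Nat.card (centralizer (K : Set H)) = 1 := by
        have h5 := congrArg (centralizer (K : Set H)).subtype h3
        rw [map_pow, map_one] at h5
        exact h5
      rw [h4, QuotientGroup.mk_one]
    have h3 : orderOf (QuotientGroup.mk a : H ⧸ R) = 1 :=
      Nat.eq_one_of_dvd_coprimes (Nat.coprime_two_left.2 h.odd) (orderOf_dvd_of_pow_eq_one h1)
        (orderOf_dvd_of_pow_eq_one h2)
    exact (QuotientGroup.eq_one_iff a).1 (orderOf_eq_one_iff.1 h3)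
  rw [eq_top_iff, ← h.gen]
  exact sup_le hK hA

/-- the socle of `H / C_H(K)` -/
noncomputable def equivZ (hZ : (centralizer (K : Set H)).Normal) :
    (K ⧸ center K) ≃* (K.map (QuotientGroup.mk' (centralizer (K : Set H))) : Subgroup _) := by
  have hker : ((QuotientGroup.mk' (centralizer (K : Set H))).subgroupMap K).ker = center K := by
    ext k
    rw [MonoidHom.mem_ker, mem_center_iff]
    constructor
    · intro hk y
      have h1 : QuotientGroup.mk' (centralizer (K : Set H)) (k : H) = 1 := congrArg Subtype.val hk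
      have h2 : (k : H) ∈ centralizer (K : Set H) := (QuotientGroup.eq_one_iff _).1 h1
      exact Subtype.ext (mem_centralizer_iff.1 h2 y y.2)
    · intro hk
      have h2 : (k : H) ∈ centralizer (K : Set H) := mem_centralizer_iff.2 fun y hy =>
        congrArg Subtype.val (hk ⟨y, hy⟩)
      exact Subtype.ext ((QuotientGroup.eq_one_iff _).2 h2)
  exact (QuotientGroup.quotientMulEquivOfEq hker.symm).trans
    (QuotientGroup.quotientKerEquivOfSurjective _ (MonoidHom.subgroupMap_surjective _ _))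

end

/-- **The image in `H / C_H(K)`.** -/
theorem In.as [Finite H] (h : In H M K T A) (hZ : (centralizer (K : Set H)).Normal) :
    AS (K.map (QuotientGroup.mk' (centralizer (K : Set H)))) (T.map (QuotientGroup.mk' (centralizer (K : Set H))))
      (A.map (QuotientGroup.mk' (centralizer (K : Set H)))) := by
  set π := QuotientGroup.mk' (centralizer (K : Set H)) with hπ
  have hs : Function.Surjective π := QuotientGroup.mk'_surjective _
  have hker : π.ker = centralizer (K : Set H) := QuotientGroup.ker_mk' _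
  have hKn := h.norm
  have htop : ∀ R : Subgroup H, R ≠ ⊤ → R.map π ≠ ⊤ := by
    intro R hR h1
    apply hR
    apply h.eq_top_of_sup
    rw [← hker, ← comap_map_eq, h1, comap_top]
  refine ⟨hKn.map π hs, ?_, ?_, ?_, h.two.map π, ?_, ?_, ?_, ?_⟩
  · have := h.qs.2
    exact (equivZ hZ).symm.isSimpleGroup
  · rw [eq_bot_iff]
    intro x hx
    obtain ⟨g, rfl⟩ := hs x
    have h1 : g ∈ centralizer (K : Set H) := by
      refine commutes_of_central h.perf fun k hk x => ?_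
      have h2 : π g * π k = π k * π g := (mem_centralizer_iff.1 hx (π k) (mem_map_of_mem π hk)).symm
      have h3 : g * k * g⁻¹ * k⁻¹ ∈ centralizer (K : Set H) := by
        rw [← hker, MonoidHom.mem_ker, map_mul, map_mul, map_mul, map_inv, map_inv, h2]
        group
      exact h.zen _ h3 x
    rw [← hker] at h1
    exact mem_bot.2 h1
  · rw [← Subgroup.map_sup, h.gen, map_top_of_surjective π hs]
  · intro h1
    exact h.syl (h1.trans (index_map_dvd T hs))
  · rintro _ ⟨a, ha, rfl⟩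
    rw [← map_mul, h.el a ha, map_one]
  · intro R hTR hR
    have h1 : T ≤ R.comap π := map_le_iff_le_comap.1 hTR
    have h2 : R.comap π ≠ ⊤ := by
      intro h3
      apply hR
      rw [← map_comap_eq_self_of_surjective hs R, h3, map_top_of_surjective π hs]
    have h3 := h.low _ h1 h2
    have h4 : (o2 (R.comap π)).map π ≤ o2 R := by
      refine le_o2 ?_ ((o2_isPGroup _).map π) ?_
      · rw [map_le_iff_le_comap]
        exact o2_le _
      · intro x hx
        obtain ⟨g, rfl⟩ := hs x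
        have h5 := le_normalizer_o2 (R.comap π) (show g ∈ R.comap π from hx)
        rw [mem_normalizer_iff] at h5 ⊢
        intro y
        constructor
        · rintro ⟨q, hq, rfl⟩
          exact ⟨g * q * g⁻¹, (h5 q).1 hq, by rw [map_mul, map_mul, map_inv]⟩
        · rintro ⟨q, hq, hqy⟩
          refine ⟨g⁻¹ * q * g, ?_, ?_⟩
          · rw [SetLike.mem_coe, h5]
            have h6 : g * (g⁻¹ * q * g) * g⁻¹ = q := by group
            rwa [h6]
          · rw [map_mul, map_mul, map_inv, hqy]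
            group
    exact (map_mono h3).trans h4
  · rintro ⟨N, hN, hall⟩
    apply h.nmax
    refine ⟨N.comap π, ?_, fun R hTR hR => ?_⟩
    · intro h3
      apply hN
      rw [← map_comap_eq_self_of_surjective hs N, h3, map_top_of_surjective π hs]
    · exact map_le_iff_le_comap.1 (hall _ (map_mono hTR) (htop R hR))

theorem In.card_map [Finite H] (h : In H M K T A) (hZ : (centralizer (K : Set H)).Normal) :
    Nat.card (A.map (QuotientGroup.mk' (centralizer (K : Set H)))) = Nat.card A := by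
  have h1 : IsPGroup 2 A := fun a => ⟨1, Subtype.ext (by rw [pow_one, pow_two]; exact h.el a a.2)⟩
  have h2 := h.inf_eq_bot A h1
  have h3 : Function.Injective ((QuotientGroup.mk' (centralizer (K : Set H))).comp A.subtype) := by
    rw [injective_iff_map_eq_one]
    intro a ha
    have h4 : (a : H) ∈ centralizer (K : Set H) := (QuotientGroup.eq_one_iff _).1 ha
    have h5 : (a : H) ∈ A ⊓ centralizer (K : Set H) := ⟨a.2, h4⟩
    rw [h2] at h5
    exact Subtype.ext (mem_bot.1 h5)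
  have h6 : ((QuotientGroup.mk' (centralizer (K : Set H))).comp A.subtype).range =
      A.map (QuotientGroup.mk' (centralizer (K : Set H))) := by
    rw [MonoidHom.range_eq_map, ← Subgroup.map_map, ← MonoidHom.range_eq_map, range_subtype]
  rw [← h6]
  exact (Nat.card_congr (MonoidHom.ofInjective h3).toEquiv).symm

/-- **A group-theoretic row is a row.** -/
theorem DeadG.dead {𝒮 : ∀ (S : Type u) [Group S], Prop} (h𝒮 : IsoClosed.{u} 𝒮) (hD : DeadG.{u} 𝒮) :
    Dead.{u, v} 𝒮 := by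
  intro H _ _ M _ _ _ K T A h hK
  have hZ := h.normalZ
  have h1 := hD _ _ _ _ (h.as hZ) (h𝒮 _ _ (equivZ hZ) hK)
  rw [h.card_map hZ] at h1
  exact absurd h.eight (by omega)

end Cfsg.Agent.Omega.ML.Rows

end
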