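import Cfsg.Agent.Mrg.Omega.VP
import Cfsg.Agent.Mrg.Omega.NoFF.ThmJ

section


/-!
# The geometry of points and lines of NO-3S (V natural for `SL₂(s)`), abstract form

`X` the set of points, `L` the set of lines, `G` acts on both; `R x` the subgroup `x` (of order `s`), `V l` the
line subgroup, `W x = ⟨V l : l on x⟩`.  `t = |W_x : W_x ∩ W_y|` for two points `x ≠ y` of a line.

* `Geom` : the hypotheses (points are TI, (F1), (F2), transitivity on flags through `index`);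
* `Walk`, `Crit` : walks, critical pairs;
* `Crit.star` : (STAR);
* `Geom.low` : (T1): `W_x ≤ O₂(G_y)` at distance `< n`, and at distance `n` if they commute;
* `Geom.low_line` : `W_x ≤ O₂(C_G(V_l))`.
-/

set_option autoImplicit false

namespace Cfsg.Agent.Omega.NOThree.Pts

open Subgroup Cfsg Cfsg.Agent.ZN Cfsg.Agent.MinSimple.VModule

variable {G X L : Type*} [Group G] [MulAction G X] [MulAction G L]

/-- The hypotheses on points and lines. -/
structure Geom (inc : X → L → Prop) (R W : X → Subgroup G) (V : L → Subgroup G) (s t : ℕ) : Prop where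
  inc_smul : ∀ (g : G) (x : X) (l : L), inc x l → inc (g • x) (g • l)
  R_smul : ∀ (g : G) (x : X), ∀ a ∈ R x, g * a * g⁻¹ ∈ R (g • x)
  W_smul : ∀ (g : G) (x : X), ∀ a ∈ W x, g * a * g⁻¹ ∈ W (g • x)
  V_smul : ∀ (g : G) (l : L), ∀ a ∈ V l, g * a * g⁻¹ ∈ V (g • l)
  two_le : 2 ≤ s
  card : ∀ x, Nat.card (R x) = s
  /-- points are TI -/
  ti : ∀ x y, ∀ a ∈ R x, a ∈ R y → a ≠ 1 → x = y
  R_le : ∀ x l, inc x l → R x ≤ V l
  V_le : ∀ x l, inc x l → V l ≤ W x
  W_le : ∀ x (A : Subgroup G), (∀ l, inc x l → V l ≤ A) → W x ≤ A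
  /-- a line is the union of its points -/
  cover : ∀ l, ∀ a ∈ V l, ∃ x, inc x l ∧ a ∈ R x
  exists_line : ∀ x, ∃ l, inc x l
  comm : ∀ x, ∀ a ∈ W x, ∀ b ∈ W x, a * b = b * a
  sq : ∀ x, ∀ a ∈ W x, a * a = 1
  F1 : ∀ x y z l, inc x l → inc y l → inc z l → x ≠ y → x ≠ z → W x ⊓ W y = W x ⊓ W z
  index : ∀ x y l, inc x l → inc y l → x ≠ y → (W x ⊓ W y).relIndex (W x) = t
  F2 : ∀ x y z l, inc x l → inc y l → inc z l → x ≠ y → ∀ u ∈ W x, u ∈ W y → u ∉ V l →
    ∃ g : G, g * u = u * g ∧ g • l = l ∧ g • x = z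

variable {inc : X → L → Prop} {R W : X → Subgroup G} {V : L → Subgroup G} {s t n : ℕ}

/-- Walks of length `k`. -/
inductive Walk (inc : X → L → Prop) : ℕ → X → X → Prop
  | zero (x : X) : Walk inc 0 x x
  | step {k : ℕ} {x y z : X} {l : L} (h : Walk inc k x y) (hy : inc y l) (hz : inc z l) : Walk inc (k + 1) x z

/-- `W_x` and `W_y` commute. -/
def Com (W : X → Subgroup G) (x y : X) : Prop := ∀ a ∈ W x, ∀ b ∈ W y, a * b = b * a

/-- A critical pair. -/
structure Crit (inc : X → L → Prop) (W : X → Subgroup G) (n : ℕ) (x y : X) : Prop where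
  walk : Walk inc n x y
  ne : ¬ Com W x y
  min : ∀ k < n, ∀ a b, Walk inc k a b → Com W a b

theorem cg (g : G) {a b : G} (h : a = b) : g * a * g⁻¹ = g * b * g⁻¹ := by rw [h]

theorem Com.symm {x y : X} (h : Com W x y) : Com W y x := fun a ha b hb => (h b hb a ha).symm

namespace Walk

theorem trans {k m : ℕ} {x y z : X} (h : Walk inc k x y) (h' : Walk inc m y z) : Walk inc (k + m) x z := by
  induction h' with
  | zero => exact h
  | step _ hy hz ih => exact (ih h).step hy hz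

theorem one {x y : X} {l : L} (hx : inc x l) (hy : inc y l) : Walk inc 1 x y := (zero x).step hx hy

theorem symm {k : ℕ} {x y : X} (h : Walk inc k x y) : Walk inc k y x := by
  induction h with
  | zero x => exact zero x
  | step _ hy hz ih =>
    have := (one hz hy).trans ih
    rwa [add_comm] at this

theorem cons {k : ℕ} {x y z : X} {l : L} (hx : inc x l) (hy : inc y l) (h : Walk inc k y z) :
    Walk inc (k + 1) x z := by
  have := (one hx hy).trans h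
  rwa [add_comm] at this

end Walk

theorem Walk.smul (D : Geom inc R W V s t) (g : G) {k : ℕ} {x y : X} (h : Walk inc k x y) :
    Walk inc k (g • x) (g • y) := by
  induction h with
  | zero x => exact .zero _
  | step _ hy hz ih => exact ih.step (D.inc_smul g _ _ hy) (D.inc_smul g _ _ hz)

theorem Walk.mono (D : Geom inc R W V s t) {k m : ℕ} {x y : X} (h : Walk inc k x y) (hkm : k ≤ m) :
    Walk inc m x y := by
  induction m, hkm using Nat.le_induction with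
  | base => exact h
  | succ m _ ih =>
    obtain ⟨l, hl⟩ := D.exists_line y
    exact ih.step hl hl

namespace Geom

variable (D : Geom inc R W V s t)
include D

theorem R_le_W (x : X) : R x ≤ W x := by
  obtain ⟨l, hl⟩ := D.exists_line x
  exact (D.R_le x l hl).trans (D.V_le x l hl)

theorem exists_ne (x : X) : ∃ a ∈ R x, a ≠ 1 := by
  by_contra hcon
  push Not at hcon
  have h1 : R x = ⊥ := by
    rw [eq_bot_iff]
    intro a ha
    exact mem_bot.2 (hcon a ha)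
  have h2 := D.card x
  rw [h1, Subgroup.card_bot] at h2
  have := D.two_le
  omega

theorem R_smul_iff (g : G) {x : X} {a : G} : a ∈ R (g • x) ↔ g⁻¹ * a * g ∈ R x := by
  constructor
  · intro h
    have := D.R_smul g⁻¹ _ a h
    rwa [inv_smul_smul, inv_inv] at this
  · intro h
    have := D.R_smul g _ _ h
    have e : g * (g⁻¹ * a * g) * g⁻¹ = a := by group
    rwa [e] at this

theorem W_smul_iff (g : G) {x : X} {a : G} : a ∈ W (g • x) ↔ g⁻¹ * a * g ∈ W x := by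
  constructor
  · intro h
    have := D.W_smul g⁻¹ _ a h
    rwa [inv_smul_smul, inv_inv] at this
  · intro h
    have := D.W_smul g _ _ h
    have e : g * (g⁻¹ * a * g) * g⁻¹ = a := by group
    rwa [e] at this

/-- An element commuting with `1 ≠ a ∈ R x` fixes `x`. -/
theorem fix {x : X} {a g : G} (ha : a ∈ R x) (ha1 : a ≠ 1) (hg : g * a = a * g) : g • x = x := by
  refine D.ti _ _ a ?_ ha ha1
  rw [D.R_smul_iff]
  have e : g⁻¹ * a * g = a := by
    rw [mul_assoc, ← hg]; group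
  rwa [e]

theorem fix_of_centralizes {x : X} {g : G} (hg : ∀ a ∈ R x, g * a = a * g) : g • x = x := by
  obtain ⟨a, ha, ha1⟩ := D.exists_ne x
  exact D.fix ha ha1 (hg a ha)

theorem norm_W {x : X} {g : G} (hg : g • x = x) {a : G} (ha : a ∈ W x) : g * a * g⁻¹ ∈ W x := by
  have := D.W_smul g x a ha
  rwa [hg] at this

theorem norm_R {x : X} {g : G} (hg : g • x = x) {a : G} (ha : a ∈ R x) : g * a * g⁻¹ ∈ R x := by
  have := D.R_smul g x a ha
  rwa [hg] at this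

theorem W_fix {x : X} {g : G} (hg : g ∈ W x) : g • x = x :=
  D.fix_of_centralizes fun a ha => D.comm x g hg a (D.R_le_W x ha)

theorem com_self (x : X) : Com W x x := fun a ha b hb => D.comm x a ha b hb

theorem com_smul (g : G) {x y : X} (h : Com W x y) : Com W (g • x) (g • y) := by
  intro a ha b hb
  rw [D.W_smul_iff] at ha hb
  have h1 := cg g (h _ ha _ hb)
  have e1 : g * (g⁻¹ * a * g * (g⁻¹ * b * g)) * g⁻¹ = a * b := by group
  have e2 : g * (g⁻¹ * b * g * (g⁻¹ * a * g)) * g⁻¹ = b * a := by group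
  rwa [e1, e2] at h1

theorem com_smul_iff (g : G) {x y : X} : Com W (g • x) (g • y) ↔ Com W x y := by
  refine ⟨fun h => ?_, D.com_smul g⟩
  have := D.com_smul g⁻¹ h
  rwa [inv_smul_smul, inv_smul_smul] at this

theorem W_isPGroup (x : X) : IsPGroup 2 (W x) := by
  intro a
  exact ⟨1, Subtype.ext (by
    have := D.sq x a a.2
    rw [pow_one, pow_two]
    exact this)⟩

theorem inv_eq {x : X} {a : G} (ha : a ∈ W x) : a⁻¹ = a :=
  inv_eq_of_mul_eq_one_left (D.sq x a ha)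

/-- An element of `V_l` not in `R_x` lies in another point of `l`. -/
theorem exists_pt {l : L} {u : G} (hu : u ∈ V l) : ∃ y, inc y l ∧ u ∈ R y := D.cover l u hu

/-- `I_l ≤ W_z` for all points `z` of `l`. -/
theorem inf_le {x y z : X} {l : L} (hx : inc x l) (hy : inc y l) (hz : inc z l) (hxy : x ≠ y) :
    W x ⊓ W y ≤ W z := by
  by_cases h : x = z
  · subst h; exact inf_le_left
  · rw [D.F1 x y z l hx hy hz hxy h]; exact inf_le_right

end Geom

/-! ### Critical pairs -/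

namespace Crit

variable {x y : X}

theorem symm (h : Crit inc W n x y) : Crit inc W n y x :=
  ⟨h.walk.symm, fun h1 => h.ne h1.symm, h.min⟩

theorem smul (D : Geom inc R W V s t) (h : Crit inc W n x y) (g : G) : Crit inc W n (g • x) (g • y) :=
  ⟨h.walk.smul D g, fun h1 => h.ne ((D.com_smul_iff g).1 h1), h.min⟩

/-- no shorter walk -/
theorem not_walk (h : Crit inc W n x y) {k : ℕ} (hk : k < n) : ¬ Walk inc k x y :=
  fun h1 => h.ne (h.min k hk _ _ h1)

/-- The last line `l` of the walk: `r`, `y` on `l`, `r` at distance `n - 1` from `x`. -/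
theorem last (h : Crit inc W n x y) (hn : 1 ≤ n) : ∃ r l, Walk inc (n - 1) x r ∧ inc r l ∧ inc y l := by
  obtain ⟨m, rfl⟩ : ∃ m, n = m + 1 := ⟨n - 1, by omega⟩
  have hw := h.walk
  rcases hw with _ | @⟨_, _, r, _, l, hr, hrl, hyl⟩
  exact ⟨r, l, hr, hrl, hyl⟩

theorem ne_last (h : Crit inc W n x y) (hn : 1 ≤ n) {r : X} (hr : Walk inc (n - 1) x r) : r ≠ y := by
  rintro rfl
  exact h.not_walk (by omega) hr

/-- `W_x` commutes with `W_r`. -/
theorem com_last (h : Crit inc W n x y) (hn : 1 ≤ n) {r : X} (hr : Walk inc (n - 1) x r) : Com W x r :=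
  h.min _ (by omega) _ _ hr

/-- `W_x` fixes the point `y`. -/
theorem fix (D : Geom inc R W V s t) (h : Crit inc W n x y) (hn : 1 ≤ n) {a : G} (ha : a ∈ W x) : a • y = y := by
  obtain ⟨r, l, hr, hrl, hyl⟩ := h.last hn
  exact D.fix_of_centralizes fun b hb => h.com_last hn hr a ha b (D.V_le r l hrl (D.R_le y l hyl hb))

theorem comm_R (D : Geom inc R W V s t) (h : Crit inc W n x y) (hn : 1 ≤ n) {a b : G} (ha : a ∈ W x)
    (hb : b ∈ R y) : a * b = b * a := by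
  obtain ⟨r, l, hr, hrl, hyl⟩ := h.last hn
  exact h.com_last hn hr a ha b (D.V_le r l hrl (D.R_le y l hyl hb))

/-- **(STAR)** -/
theorem star (D : Geom inc R W V s t) (h : Crit inc W n x y) (hn : 2 ≤ n) {r : X} {l : L}
    (hr : Walk inc (n - 1) x r) (hrl : inc r l) (hyl : inc y l) {u : G} (hu : u ∈ R x) (huy : u ∈ W y)
    (hur : u ∈ W r) : u = 1 := by
  by_contra hu1
  have hne := h.ne_last (by omega) hr
  by_cases huV : u ∈ V l
  · obtain ⟨z, hz, huz⟩ := D.cover l u huV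
    obtain rfl := D.ti _ _ u hu huz hu1
    exact h.not_walk (by omega) (Walk.one hz hyl)
  · obtain ⟨g, hg, -, hgy⟩ := D.F2 y r r l hyl hrl hrl hne.symm u huy hur huV
    have hgx := D.fix hu hu1 hg
    apply h.ne
    rw [← D.com_smul_iff g, hgx, hgy]
    exact h.com_last (by omega) hr

end Crit

/-! ### `O₂` of the point stabilisers -/

theorem mem_normalizer_of_conj {N : Subgroup G} {H : Subgroup G} (h : ∀ g ∈ H, ∀ a ∈ N, g * a * g⁻¹ ∈ N) :
    H ≤ normalizer (N : Set G) := by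
  intro g hg
  rw [mem_normalizer_iff]
  refine fun a => ⟨h g hg a, fun ha => ?_⟩
  have := h g⁻¹ (H.inv_mem hg) _ ha
  have e : g⁻¹ * (g * a * g⁻¹) * g⁻¹⁻¹ = a := by group
  rwa [e] at this

theorem conj_mem_of_le_normalizer {N H : Subgroup G} (h : H ≤ normalizer (N : Set G)) {g a : G} (hg : g ∈ H)
    (ha : a ∈ N) : g * a * g⁻¹ ∈ N := (mem_normalizer_iff.1 (h hg) a).1 ha

namespace Geom

variable (D : Geom inc R W V s t)
include D

theorem W_le_stab (x : X) : W x ≤ MulAction.stabilizer G x := fun _ ha => D.W_fix ha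

theorem W_le_o2 (x : X) : W x ≤ o2 (MulAction.stabilizer G x) :=
  le_o2 (D.W_le_stab x) (D.W_isPGroup x) (mem_normalizer_of_conj fun _ hg _ ha => D.norm_W hg ha)

theorem cent_V_le {x : X} {l : L} (hx : inc x l) : centralizer (V l : Set G) ≤ MulAction.stabilizer G x :=
  fun _ hg => D.fix_of_centralizes fun a ha => (mem_centralizer_iff.1 hg a (D.R_le x l hx ha)).symm

theorem cent_W_le (x : X) : centralizer (W x : Set G) ≤ MulAction.stabilizer G x :=
  fun _ hg => D.fix_of_centralizes fun a ha => (mem_centralizer_iff.1 hg a (D.R_le_W x ha)).symm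

/-- A subgroup of `O₂(G_x)` centralising `V_l`, `l` on `x`, lies in `O₂(C_G(V_l))`. -/
theorem le_o2_cent {x : X} {l : L} (hx : inc x l) {A : Subgroup G} (hA : A ≤ o2 (MulAction.stabilizer G x))
    (hA' : A ≤ centralizer (V l : Set G)) : A ≤ o2 (centralizer (V l : Set G)) := by
  have h1 : centralizer (V l : Set G) ≤
      normalizer ((o2 (MulAction.stabilizer G x) ⊓ centralizer (V l : Set G) : Subgroup G) : Set G) := by
    refine mem_normalizer_of_conj fun g hg a ha => ⟨?_, ?_⟩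
    · exact conj_mem_of_le_normalizer (le_normalizer_o2 _) (D.cent_V_le hx hg) ha.1
    · exact Subgroup.mul_mem _ (Subgroup.mul_mem _ hg ha.2) (Subgroup.inv_mem _ hg)
  exact (le_inf hA hA').trans (le_o2 inf_le_right ((o2_isPGroup _).to_le inf_le_left) h1)

/-- A subgroup of `O₂(C_G(V_l))` centralising `W_x`, `l` on `x`, lies in `O₂(G_x)`. -/
theorem le_o2_stab {x : X} {l : L} (hx : inc x l) {A : Subgroup G} (hA : A ≤ o2 (centralizer (V l : Set G)))
    (hA' : A ≤ centralizer (W x : Set G)) : A ≤ o2 (MulAction.stabilizer G x) := by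
  have hWV : centralizer (W x : Set G) ≤ centralizer (V l : Set G) := centralizer_le (D.V_le x l hx)
  have h1 : centralizer (W x : Set G) ≤
      normalizer ((o2 (centralizer (V l : Set G)) ⊓ centralizer (W x : Set G) : Subgroup G) : Set G) := by
    refine mem_normalizer_of_conj fun g hg a ha => ⟨?_, ?_⟩
    · exact conj_mem_of_le_normalizer (le_normalizer_o2 _) (hWV hg) ha.1
    · exact Subgroup.mul_mem _ (Subgroup.mul_mem _ hg ha.2) (Subgroup.inv_mem _ hg)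
  have h2 : A ≤ o2 (centralizer (W x : Set G)) :=
    (le_inf hA hA').trans (le_o2 inf_le_right ((o2_isPGroup _).to_le inf_le_left) h1)
  refine h2.trans (le_o2 ((o2_le _).trans (D.cent_W_le x)) (o2_isPGroup _) ?_)
  refine le_trans ?_ (Omega.normalizer_le_normalizer_o2' _)
  refine mem_normalizer_of_conj fun g hg a ha => ?_
  rw [mem_centralizer_iff] at ha ⊢
  intro w hw
  have hw' : g⁻¹ * w * g ∈ W x := by
    have := D.norm_W (g := g⁻¹) (by
      have hg' : g • x = x := hg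
      rw [inv_smul_eq_iff, hg']) hw
    rwa [inv_inv] at this
  have h3 := cg g (ha _ hw')
  have e1 : g * (g⁻¹ * w * g * a) * g⁻¹ = w * (g * a * g⁻¹) := by group
  have e2 : g * (a * (g⁻¹ * w * g)) * g⁻¹ = g * a * g⁻¹ * w := by group
  rwa [e1, e2] at h3

theorem le_cent_of_com {x y : X} (h : Com W x y) : W x ≤ centralizer (W y : Set G) := fun a ha =>
  mem_centralizer_iff.2 fun b hb => (h a ha b hb).symm

/-- **(T1)** `W_x ≤ O₂(G_y)` if `x`, `y` are at distance `≤ n` and `W_x`, `W_y` commute. -/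
theorem low (hmin : ∀ k < n, ∀ a b, Walk inc k a b → Com W a b) {k : ℕ} {x y : X} (h : Walk inc k x y)
    (hk : k ≤ n) (hc : Com W x y) : W x ≤ o2 (MulAction.stabilizer G y) := by
  induction h with
  | zero x => exact D.W_le_o2 x
  | @step k x y z l h hy hz ih =>
    have hc' : Com W x y := hmin k (by omega) _ _ h
    have h1 := ih (by omega) hc'
    have h2 := D.le_o2_cent hy h1 ((D.le_cent_of_com hc').trans (centralizer_le (D.V_le y l hy)))
    exact D.le_o2_stab hz h2 (D.le_cent_of_com hc)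

/-- `W_x ≤ O₂(C_G(V_l))`, `l` on `y`. -/
theorem low_line (hmin : ∀ k < n, ∀ a b, Walk inc k a b → Com W a b) {k : ℕ} {x y : X} (h : Walk inc k x y)
    (hk : k ≤ n) (hc : Com W x y) {l : L} (hl : inc y l) : W x ≤ o2 (centralizer (V l : Set G)) :=
  D.le_o2_cent hl (D.low hmin h hk hc) ((D.le_cent_of_com hc).trans (centralizer_le (D.V_le y l hl)))

end Geom

end Cfsg.Agent.Omega.NOThree.Pts

end

section


/-!
# LEMMA (M) of NO-3S, `n ≥ 3`, all `s` (helper292 #13844, helper263 #12025 (1))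

`(p, q)` critical, `r` the last point of the walk before `q`, `x ∼ p`, `f ∈ W_q` moves `x` and
`W_x ∩ W_{x^f} ≤ W_p` (`MDat`).

* `MDat.index_le` : `s t ≤ |W_x : C_{W_x}(f)|`;
* `MDat.alpha` : if `[W_x, W_r] ≠ 1` then `(x, r)` is critical of type I and `[W_x, W_r] ≤ W_x ∩ W_p`;
* `MDat.beta` : if `[W_x, W_r] = 1` and there are no over-offenders (`NoOver`), then
  `C_{W_q}(W_x mod R_q) = W_q ∩ W_r`, `R_p ∩ W_q = 1` and `[W_q, W_x] ≤ W_r`;
* `exists_typeI` : (N).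
-/

set_option autoImplicit false

namespace Cfsg.Agent.Omega.NOThree.LemmaM

open Subgroup Cfsg Cfsg.Agent.ZN Cfsg.Agent.MinSimple.VModule Cfsg.Agent.Omega.NOThree.Pts

variable {G X L : Type*} [Group G] [MulAction G X] [MulAction G L]
variable {inc : X → L → Prop} {R W : X → Subgroup G} {V : L → Subgroup G} {s t n : ℕ}

/-! ### Counting -/

section count

/-- If `φ` is a homomorphism from `A` to `N` with kernel in `D`, then `|A : D| ≤ |N|`. -/
theorem relIndex_le_card {A D N : Subgroup G} [Finite N] (φ : G → G) (hN : ∀ a ∈ A, φ a ∈ N)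
    (hmul : ∀ a ∈ A, ∀ b ∈ A, φ (a * b) = φ a * φ b) (hker : ∀ a ∈ A, φ a = 1 → a ∈ D) :
    D.relIndex A ≤ Nat.card N := by
  classical
  let f : A →* N := MonoidHom.mk' (fun a => ⟨φ a, hN a a.2⟩) (fun a b => Subtype.ext (hmul a a.2 b b.2))
  have h1 : f.ker ≤ D.subgroupOf A := by
    intro a ha
    rw [mem_subgroupOf]
    exact hker a a.2 (congrArg Subtype.val (MonoidHom.mem_ker.1 ha))
  have h2 : f.ker.index ≤ Nat.card N := by
    rw [index_ker]
    exact Nat.card_le_card_of_injective _ Subtype.val_injective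
  have h3 : f.ker.index ≠ 0 := by
    rw [index_ker]
    exact Nat.card_pos.ne'
  exact (Nat.le_of_dvd (Nat.pos_of_ne_zero h3) (index_dvd_of_le h1)).trans h2

/-- If `A ∩ D = 1`, `A ≤ B`, then `|A| ≤ |B : D|`. -/
theorem card_le_relIndex [Finite G] {A B D : Subgroup G} (hAB : A ≤ B) (h : ∀ a ∈ A, a ∈ D → a = 1) :
    Nat.card A ≤ D.relIndex B := by
  have h1 : D.relIndex A = Nat.card A := by
    rw [← relIndex_bot_left, ← inf_relIndex_right]
    congr 1
    rw [eq_bot_iff]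
    intro a ha
    exact mem_bot.2 (h a ha.2 ha.1)
  rw [← h1]
  exact relIndex_le_of_le_right hAB (index_ne_zero_of_finite)

theorem relIndex_ne_zero' [Finite G] (A B : Subgroup G) : A.relIndex B ≠ 0 := index_ne_zero_of_finite

/-- `{a ∈ A : [a, B] ≤ N}` -/
def cm (A B N : Subgroup G) (h : ∀ a ∈ A, ∀ c ∈ N, a * c = c * a) : Subgroup G where
  carrier := {a | a ∈ A ∧ ∀ b ∈ B, a * b * a⁻¹ * b⁻¹ ∈ N}
  one_mem' := ⟨one_mem _, fun b _ => by simp⟩
  mul_mem' := by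
    rintro a a' ⟨ha, h1⟩ ⟨ha', h2⟩
    refine ⟨mul_mem ha ha', fun b hb => ?_⟩
    have e : a * a' * b * (a * a')⁻¹ * b⁻¹ = (a * (a' * b * a'⁻¹ * b⁻¹) * a⁻¹) * (a * b * a⁻¹ * b⁻¹) := by group
    rw [e]
    refine mul_mem ?_ (h1 b hb)
    rw [h a ha _ (h2 b hb), mul_inv_cancel_right]
    exact h2 b hb
  inv_mem' := by
    rintro a ⟨ha, h1⟩
    refine ⟨inv_mem ha, fun b hb => ?_⟩
    have e : a⁻¹ * b * a⁻¹⁻¹ * b⁻¹ = a⁻¹ * (a * b * a⁻¹ * b⁻¹)⁻¹ * a := by group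
    rw [e]
    have h2 : (a * b * a⁻¹ * b⁻¹)⁻¹ ∈ N := inv_mem (h1 b hb)
    rw [h a⁻¹ (inv_mem ha) _ h2, inv_mul_cancel_right]
    exact h2

theorem mem_cm {A B N : Subgroup G} {h : ∀ a ∈ A, ∀ c ∈ N, a * c = c * a} {a : G} :
    a ∈ cm A B N h ↔ a ∈ A ∧ ∀ b ∈ B, a * b * a⁻¹ * b⁻¹ ∈ N := Iff.rfl

end count

/-- **No over-offender**: for every line `l` on `q` and every elementary abelian `A ≤ O₂(C_G(V_l))` which
centralises `I_l` and acts quadratically on `W_q`: `|A : C_A(M_q)| ≤ |M_q : C_{M_q}(A)|`, `M_q = W_q/R_q`. -/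
def NoOver (inc : X → L → Prop) (R W : X → Subgroup G) (V : L → Subgroup G) : Prop :=
  ∀ (q : X) (l : L), inc q l → ∀ A : Subgroup G, A ≤ o2 (centralizer (V l : Set G)) →
    (∀ a ∈ A, ∀ b ∈ A, a * b = b * a) → (∀ a ∈ A, a * a = 1) →
    (∀ y, inc y l → y ≠ q → ∀ a ∈ A, ∀ u ∈ W q, u ∈ W y → a * u = u * a) →
    (∀ a ∈ A, ∀ b ∈ A, ∀ u ∈ W q, b * (a * u * a⁻¹ * u⁻¹) = (a * u * a⁻¹ * u⁻¹) * b) →
    ∀ N C : Subgroup G, (∀ a, a ∈ N ↔ a ∈ A ∧ ∀ u ∈ W q, a * u * a⁻¹ * u⁻¹ ∈ R q) →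
      (∀ u, u ∈ C ↔ u ∈ W q ∧ ∀ a ∈ A, a * u * a⁻¹ * u⁻¹ ∈ R q) → N.relIndex A ≤ C.relIndex (W q)

/-- The data of LEMMA (M). -/
structure MDat (inc : X → L → Prop) (R W : X → Subgroup G) (V : L → Subgroup G) (s t n : ℕ)
    (p q r x : X) (l m : L) (f : G) : Prop where
  D : Geom inc R W V s t
  three : 3 ≤ n
  crit : Crit inc W n p q
  walk : Walk inc (n - 1) p r
  rl : inc r l
  ql : inc q l
  xm : inc x m
  pm : inc p m
  f_mem : f ∈ W q
  fx : f • x ≠ x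
  low : ∀ a ∈ W x, a ∈ W (f • x) → a ∈ W p

namespace MDat

variable {p q r x : X} {l m : L} {f : G} (h : MDat inc R W V s t n p q r x l m f)
include h

theorem fix_p {g : G} (hg : g ∈ W q) : g • p = p :=
  h.crit.symm.fix h.D (by have := h.three; omega) hg

theorem ne : x ≠ p := by
  rintro rfl
  exact h.fx (h.fix_p h.f_mem)

/-- `W_x` and `W_{x^g}` commute, `g ∈ W_q`. -/
theorem com_x {g : G} (hg : g ∈ W q) : Com W x (g • x) := by
  have h1 : Walk inc 2 x (g • x) := by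
    refine (Walk.one h.xm h.pm).step (l := g • m) ?_ (h.D.inc_smul g _ _ h.xm)
    have := h.D.inc_smul g _ _ h.pm
    rwa [h.fix_p hg] at this
  exact h.crit.min 2 (by have := h.three; omega) _ _ h1

/-- `[w, g]` commutes with `W_x`. -/
theorem comm_comm {g w w' : G} (hg : g ∈ W q) (hw : w ∈ W x) (hw' : w' ∈ W x) :
    w' * (w * g * w⁻¹ * g⁻¹) = (w * g * w⁻¹ * g⁻¹) * w' := by
  have h1 : g * w⁻¹ * g⁻¹ ∈ W (g • x) := h.D.W_smul g x _ (inv_mem hw)
  have h2 := h.com_x hg w' hw' _ h1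
  have h3 := h.D.comm x w' hw' w hw
  have e : w * g * w⁻¹ * g⁻¹ = w * (g * w⁻¹ * g⁻¹) := by group
  rw [e, ← mul_assoc, h3, mul_assoc, h2, ← mul_assoc]

/-- `w ↦ [w, g]` is a homomorphism on `W_x`. -/
theorem comm_mul {g w w' : G} (hg : g ∈ W q) (hw : w ∈ W x) (hw' : w' ∈ W x) :
    w * w' * g * (w * w')⁻¹ * g⁻¹ = (w * g * w⁻¹ * g⁻¹) * (w' * g * w'⁻¹ * g⁻¹) := by
  have h1 := h.comm_comm hg hw' hw
  have e : w * w' * g * (w * w')⁻¹ * g⁻¹ = w * (w' * g * w'⁻¹ * g⁻¹) * w⁻¹ * (w * g * w⁻¹ * g⁻¹) := by group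
  rw [e, h1, mul_inv_cancel_right]
  have h2 : (w' * g * w'⁻¹ * g⁻¹) * (g * w⁻¹ * g⁻¹) = (g * w⁻¹ * g⁻¹) * (w' * g * w'⁻¹ * g⁻¹) := by
    have h3 : g * w⁻¹ * g⁻¹ ∈ W (g • x) := h.D.W_smul g x _ (inv_mem hw)
    have h4 : g * w'⁻¹ * g⁻¹ ∈ W (g • x) := h.D.W_smul g x _ (inv_mem hw')
    have h5 := h.com_x hg w' hw' _ h3
    have h6 := h.D.comm _ _ h4 _ h3
    have e2 : w' * g * w'⁻¹ * g⁻¹ = w' * (g * w'⁻¹ * g⁻¹) := by group
    rw [e2, mul_assoc, h6, ← mul_assoc, h5, mul_assoc]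
  have e3 : w * g * w⁻¹ * g⁻¹ = w * (g * w⁻¹ * g⁻¹) := by group
  rw [e3, ← mul_assoc, ← h1, mul_assoc, h2, ← mul_assoc]

/-- `C_{W_x}(f) ≤ W_x ∩ W_p` -/
theorem cent_le {w : G} (hw : w ∈ W x) (hf : f * w = w * f) : w ∈ W p := by
  refine h.low w hw ?_
  rw [h.D.W_smul_iff]
  have e : f⁻¹ * w * f = w := by rw [mul_assoc, ← hf]; group
  rwa [e]

theorem R_cent {a : G} (ha : a ∈ R x) (hf : f * a = a * f) : a = 1 := by
  by_contra ha1
  exact h.fx (h.D.fix ha ha1 hf)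

theorem R_le : R x ≤ W x ⊓ W p :=
  le_inf (h.D.R_le_W x) ((h.D.R_le x m h.xm).trans (h.D.V_le p m h.pm))

/-- `s t ≤ |W_x : C_{W_x}(f)|` -/
theorem index_le [Finite G] (D₀ : Subgroup G) (hD : ∀ a, a ∈ D₀ ↔ a ∈ W x ∧ f * a = a * f) :
    s * t ≤ D₀.relIndex (W x) := by
  have h1 : D₀ ≤ W x ⊓ W p := fun a ha =>
    ⟨((hD a).1 ha).1, h.cent_le ((hD a).1 ha).1 ((hD a).1 ha).2⟩
  rw [← relIndex_mul_relIndex D₀ (W x ⊓ W p) (W x) h1 inf_le_left, h.D.index x p m h.xm h.pm h.ne]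
  refine Nat.mul_le_mul_right _ ?_
  rw [← h.D.card x]
  exact card_le_relIndex h.R_le fun a ha ha' => h.R_cent ha ((hD a).1 ha').2

/-! ### (α) -/

theorem walk' : Walk inc n x r := by
  have h1 := Walk.cons h.xm h.pm h.walk
  have h3 := h.three
  rwa [Nat.sub_add_cancel (by omega)] at h1

/-- `f` centralises `W_r`. -/
theorem f_comm {a : G} (ha : a ∈ W r) : f * a = a * f :=
  h.crit.min 1 (by have := h.three; omega) _ _ (Walk.one h.ql h.rl) f h.f_mem a ha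

/-- `W_x ∩ W_r ≤ W_p` -/
theorem inf_le {a : G} (hx : a ∈ W x) (hr : a ∈ W r) : a ∈ W p := h.cent_le hx (h.f_comm hr)

/-- `R_x ∩ W_r = 1` -/
theorem R_inf {a : G} (hx : a ∈ R x) (hr : a ∈ W r) : a = 1 := h.R_cent hx (h.f_comm hr)

/-- `R_r ∩ W_x = 1` -/
theorem R_inf' {u : G} (hu : u ∈ R r) (hx : u ∈ W x) (hne : ¬ Com W x r) : u = 1 := by
  by_contra hu1
  have h3 := h.three
  have hp := h.inf_le hx (h.D.R_le_W r hu)
  by_cases huV : u ∈ V m
  · obtain ⟨z, hz, huz⟩ := h.D.cover m u huV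
    obtain rfl := h.D.ti _ _ u hu huz hu1
    have h1 : Walk inc 2 p q := (Walk.one h.pm hz).step h.rl h.ql
    exact h.crit.not_walk (by omega) h1
  · obtain ⟨g, hg, -, hgx⟩ := h.D.F2 x p p m h.xm h.pm h.pm h.ne u hx hp huV
    have hgr := h.D.fix hu hu1 hg
    apply hne
    rw [← h.D.com_smul_iff g, hgx, hgr]
    exact h.crit.com_last (by omega) h.walk

/-- **(α)** -/
theorem alpha (hne : ¬ Com W x r) : Crit inc W n x r ∧ (∀ u ∈ R x, u ∈ W r → u = 1) ∧
    (∀ u ∈ R r, u ∈ W x → u = 1) ∧ (∀ a ∈ W x, ∀ b ∈ W r, a * b * a⁻¹ * b⁻¹ ∈ W x ⊓ W p) := by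
  have h3 := h.three
  have hc : Crit inc W n x r := ⟨h.walk', hne, h.crit.min⟩
  refine ⟨hc, fun u hu hr => h.R_inf hu hr, fun u hu hx => h.R_inf' hu hx hne, fun a ha b hb => ?_⟩
  have h1 : a * b * a⁻¹ * b⁻¹ ∈ W r :=
    mul_mem (h.D.norm_W (hc.fix h.D (by omega) ha) hb) (inv_mem hb)
  have h2 : a * b * a⁻¹ * b⁻¹ ∈ W x := by
    have e : a * b * a⁻¹ * b⁻¹ = a * (b * a⁻¹ * b⁻¹) := by group
    rw [e]
    exact mul_mem ha (h.D.norm_W (hc.symm.fix h.D (by omega) hb) (inv_mem ha))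
  exact ⟨h2, h.inf_le h2 h1⟩

/-! ### (β) -/

variable (hc : Com W x r)
include hc

omit hc in
theorem R_le_r : R q ≤ W r := (h.D.R_le q l h.ql).trans (h.D.V_le r l h.rl)

theorem fix_q {w : G} (hw : w ∈ W x) : w • q = q :=
  h.D.fix_of_centralizes fun a ha => hc w hw a (h.R_le_r ha)

theorem comm_mem {w u : G} (hw : w ∈ W x) (hu : u ∈ W q) : w * u * w⁻¹ * u⁻¹ ∈ W q :=
  mul_mem (h.D.norm_W (h.fix_q hc hw) hu) (inv_mem hu)

/-- `t ≤ |W_x : {w ∈ W_x : [w, W_q] ≤ R_q}|` -/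
theorem t_le [Finite G] (N : Subgroup G)
    (hN : ∀ a, a ∈ N ↔ a ∈ W x ∧ ∀ u ∈ W q, a * u * a⁻¹ * u⁻¹ ∈ R q) : t ≤ N.relIndex (W x) := by
  have hcR : ∀ a ∈ W x, ∀ c ∈ R q, a * c = c * a := fun a ha c hcc => hc a ha c (h.R_le_r hcc)
  have hz : (zpowers f) ≤ W q := by
    rw [zpowers_le]; exact h.f_mem
  -- `D₁ = {w : [w, f] ∈ R_q}`
  let D₁ : Subgroup G :=
    { carrier := {a | a ∈ W x ∧ a * f * a⁻¹ * f⁻¹ ∈ R q}
      one_mem' := ⟨one_mem _, by simp⟩
      mul_mem' := by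
        rintro a b ⟨ha, ha'⟩ ⟨hb, hb'⟩
        refine ⟨mul_mem ha hb, ?_⟩
        rw [h.comm_mul h.f_mem ha hb]
        exact mul_mem ha' hb'
      inv_mem' := by
        rintro a ⟨ha, ha'⟩
        refine ⟨inv_mem ha, ?_⟩
        have h1 := h.comm_mul h.f_mem ha (inv_mem ha)
        rw [mul_inv_cancel] at h1
        have e : (1 : G) * f * 1⁻¹ * f⁻¹ = 1 := by group
        rw [e] at h1
        rw [← inv_eq_of_mul_eq_one_right h1.symm]
        exact inv_mem ha' }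
  let D₀ : Subgroup G := W x ⊓ centralizer {f}
  have hD₀ : ∀ a, a ∈ D₀ ↔ a ∈ W x ∧ f * a = a * f := by
    intro a
    rw [mem_inf, mem_centralizer_singleton_iff]
    exact ⟨fun h => ⟨h.1, h.2.symm⟩, fun h => ⟨h.1, h.2.symm⟩⟩
  have h1 := h.index_le D₀ hD₀
  have h01 : D₀ ≤ D₁ := by
    intro a ha
    obtain ⟨ha1, ha2⟩ := (hD₀ a).1 ha
    refine ⟨ha1, ?_⟩
    have e : a * f * a⁻¹ * f⁻¹ = 1 := by rw [← ha2]; group
    rw [e]; exact one_mem _
  have hN1 : N ≤ D₁ := fun a ha => ⟨((hN a).1 ha).1, ((hN a).1 ha).2 f h.f_mem⟩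
  have h2 : D₀.relIndex D₁ ≤ s := by
    rw [← h.D.card q]
    refine relIndex_le_card (fun a => a * f * a⁻¹ * f⁻¹) (fun a ha => ha.2)
      (fun a ha b hb => h.comm_mul h.f_mem ha.1 hb.1) ?_
    intro a ha hfa
    rw [hD₀]
    refine ⟨ha.1, ?_⟩
    have h5 : a * f * a⁻¹ * f⁻¹ = 1 := hfa
    have h6 : a * f * a⁻¹ = f := mul_inv_eq_one.1 h5
    calc f * a = a * f * a⁻¹ * a := by rw [h6]
      _ = a * f := by group
  have h3 : D₀.relIndex D₁ * D₁.relIndex (W x) = D₀.relIndex (W x) :=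
    relIndex_mul_relIndex _ _ _ h01 fun a ha => ha.1
  have h4 : t ≤ D₁.relIndex (W x) := by
    have hs : 0 < s := by have := h.D.two_le; omega
    have h5 : s * t ≤ s * D₁.relIndex (W x) := by
      calc s * t ≤ D₀.relIndex (W x) := h1
        _ = D₀.relIndex D₁ * D₁.relIndex (W x) := h3.symm
        _ ≤ s * D₁.relIndex (W x) := Nat.mul_le_mul_right _ h2
    exact Nat.le_of_mul_le_mul_left h5 hs
  exact h4.trans (relIndex_le_of_le_left hN1 (relIndex_ne_zero' _ _))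

/-- **(β)** -/
theorem beta [Finite G] (hNO : NoOver inc R W V) :
    (∀ u ∈ W q, (∀ a ∈ W x, a * u * a⁻¹ * u⁻¹ ∈ R q) → u ∈ W r) ∧
    (∀ u ∈ R p, u ∈ W q → u = 1) ∧ (∀ a ∈ W x, ∀ u ∈ W q, a * u * a⁻¹ * u⁻¹ ∈ W r) := by
  have h3 := h.three
  have hcR : ∀ a ∈ W x, ∀ c ∈ R q, a * c = c * a := fun a ha c hcc => hc a ha c (h.R_le_r hcc)
  have hrq : r ≠ q := h.crit.ne_last (by omega) h.walk
  set N := cm (W x) (W q) (R q) hcR with hNdef
  have hqR : ∀ a ∈ W q, ∀ c ∈ R q, a * c = c * a := fun a ha c hcc => h.D.comm q a ha c (h.D.R_le_W q hcc)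
  have hC : ∀ u, u ∈ cm (W q) (W x) (R q) hqR ↔ u ∈ W q ∧ ∀ a ∈ W x, a * u * a⁻¹ * u⁻¹ ∈ R q := by
    intro u
    rw [mem_cm]
    refine and_congr_right fun hu => forall₂_congr fun a ha => ?_
    have e : a * u * a⁻¹ * u⁻¹ = (u * a * u⁻¹ * a⁻¹)⁻¹ := by group
    rw [e, inv_mem_iff]
  set C := cm (W q) (W x) (R q) hqR with hCdef
  have h1 : t ≤ N.relIndex (W x) := h.t_le hc N fun a => mem_cm
  have hle : W q ⊓ W r ≤ C := by
    intro u hu
    rw [hC]
    refine ⟨hu.1, fun a ha => ?_⟩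
    have e : a * u * a⁻¹ * u⁻¹ = 1 := by rw [hc a ha u hu.2]; group
    rw [e]; exact one_mem _
  have h2 : (W q ⊓ W r).relIndex (W q) = t := h.D.index q r l h.ql h.rl hrq.symm
  have hA : W x ≤ o2 (centralizer (V l : Set G)) :=
    h.D.low_line h.crit.min h.walk' le_rfl hc h.rl
  have h4 : N.relIndex (W x) ≤ C.relIndex (W q) := by
    refine hNO q l h.ql (W x) hA (h.D.comm x) (h.D.sq x) ?_ ?_ N C (fun a => mem_cm) hC
    · intro y hy hyq a ha u hu huy
      exact hc a ha u (h.D.inf_le h.ql hy h.rl hyq.symm ⟨hu, huy⟩)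
    · intro a ha b hb u hu
      exact h.comm_comm hu ha hb
  have h5 : (W q ⊓ W r).relIndex C = 1 := by
    have h6 := relIndex_mul_relIndex (W q ⊓ W r) C (W q) hle fun u hu => hu.1
    rw [h2] at h6
    have h7 : t ≤ C.relIndex (W q) := h1.trans h4
    have h8 := relIndex_ne_zero' C (W q)
    have h9 := relIndex_ne_zero' (W q ⊓ W r) C
    have h10 : (W q ⊓ W r).relIndex C * C.relIndex (W q) ≤ 1 * C.relIndex (W q) := by
      rw [one_mul, h6]; exact h7
    have h11 := Nat.le_of_mul_le_mul_right h10 (Nat.pos_of_ne_zero h8)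
    omega
  have h6 : C ≤ W q ⊓ W r := relIndex_eq_one.1 h5
  have hi : ∀ u ∈ W q, (∀ a ∈ W x, a * u * a⁻¹ * u⁻¹ ∈ R q) → u ∈ W r :=
    fun u hu hu' => (h6 ((hC u).2 ⟨hu, hu'⟩)).2
  have hxp : Com W x p := h.crit.min 1 (by omega) _ _ (Walk.one h.xm h.pm)
  refine ⟨hi, fun u hu huq => ?_, fun a ha u hu => ?_⟩
  · refine h.crit.star h.D (by omega) h.walk h.rl h.ql hu huq (hi u huq fun a ha => ?_)
    have e : a * u * a⁻¹ * u⁻¹ = 1 := by rw [hxp a ha u (h.D.R_le_W p hu)]; group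
    rw [e]; exact one_mem _
  · refine hi _ (h.comm_mem hc ha hu) fun b hb => ?_
    have e : b * (a * u * a⁻¹ * u⁻¹) * b⁻¹ * (a * u * a⁻¹ * u⁻¹)⁻¹ = 1 := by
      rw [h.comm_comm hu ha hb]; group
    rw [e]; exact one_mem _

end MDat

/-! ### (N) -/

/-- Hypothesis (D): for every critical pair `(p, q)` and every `x ∼ p` not centralised by `W_q` some `f ∈ W_q`
moves `x` and `W_x ∩ W_{x^f} ≤ W_p`. -/
def HasD (inc : X → L → Prop) (R W : X → Subgroup G) (n : ℕ) : Prop :=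
  ∀ (p q : X), Crit inc W n p q → ∀ (x : X) (m : L), inc x m → inc p m →
    (∃ f ∈ W q, ∃ a ∈ R x, f * a ≠ a * f) → ∃ f ∈ W q, f • x ≠ x ∧ ∀ a ∈ W x, a ∈ W (f • x) → a ∈ W p

/-- A critical pair of type I with `[W_p, W_q] ≤ I_l`, `l` the first line of the walk. -/
structure TypeI (inc : X → L → Prop) (R W : X → Subgroup G) (n : ℕ) (p x q : X) (l : L) : Prop where
  crit : Crit inc W n p q
  pl : inc p l
  xl : inc x l
  ne : x ≠ p
  walk : Walk inc (n - 1) x q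
  inf : ∀ u ∈ R p, u ∈ W q → u = 1
  inf' : ∀ u ∈ R q, u ∈ W p → u = 1
  le : ∀ a ∈ W p, ∀ b ∈ W q, a * b * a⁻¹ * b⁻¹ ∈ W p ⊓ W x

/-- Some point `x` of a line on `p` is not centralised by `W_q`. -/
theorem exists_moved (D : Geom inc R W V s t) {p q : X} (h : ¬ Com W p q) :
    ∃ x m, inc x m ∧ inc p m ∧ ∃ f ∈ W q, ∃ a ∈ R x, f * a ≠ a * f := by
  by_contra hcon
  push Not at hcon
  apply h
  have h1 : W p ≤ centralizer (W q : Set G) := by
    refine D.W_le p _ fun m hm a ha => ?_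
    obtain ⟨x, hx, hax⟩ := D.cover m a ha
    rw [mem_centralizer_iff]
    intro f hf
    exact hcon x m hx hm f hf a hax
  intro a ha b hb
  exact (mem_centralizer_iff.1 (h1 ha) b hb).symm

/-- **(N)** -/
theorem exists_typeI [Finite G] (D : Geom inc R W V s t) (hn : 3 ≤ n) (hNO : NoOver inc R W V)
    (hD : HasD inc R W n) {p q : X} (hcr : Crit inc W n p q) :
    ∃ p x q l, TypeI inc R W n p x q l := by
  by_cases hα : ∃ p q r x l m f, MDat inc R W V s t n p q r x l m f ∧ ¬ Com W x r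
  · obtain ⟨p, q, r, x, l, m, f, h, hne⟩ := hα
    obtain ⟨h1, h2, h3, h4⟩ := h.alpha hne
    exact ⟨x, p, r, m, h1, h.xm, h.pm, h.ne.symm, h.walk, h2, h3, h4⟩
  push Not at hα
  have key : ∀ p q r l, Crit inc W n p q → Walk inc (n - 1) p r → inc r l → inc q l →
      (∀ u ∈ R p, u ∈ W q → u = 1) ∧ ∀ a ∈ W p, ∀ b ∈ W q, a * b * a⁻¹ * b⁻¹ ∈ W r := by
    intro p q r l hc hr hrl hql
    have hex : ∀ x m, inc x m → inc p m → (∃ f ∈ W q, ∃ a ∈ R x, f * a ≠ a * f) →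
        (∀ u ∈ R p, u ∈ W q → u = 1) ∧ (∀ a ∈ W x, ∀ u ∈ W q, a * u * a⁻¹ * u⁻¹ ∈ W r) := by
      intro x m hx hm hmv
      obtain ⟨f, hf, hfx, hlow⟩ := hD p q hc x m hx hm hmv
      have hM : MDat inc R W V s t n p q r x l m f :=
        ⟨D, hn, hc, hr, hrl, hql, hx, hm, hf, hfx, hlow⟩
      exact (hM.beta (hα _ _ _ _ _ _ _ hM) hNO).2
    constructor
    · obtain ⟨x, m, hx, hm, hmv⟩ := exists_moved D hc.ne
      exact (hex x m hx hm hmv).1
    · have hcR : ∀ a ∈ W p, ∀ c ∈ W r, a * c = c * a := fun a ha c hcc =>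
        hc.com_last (by omega) hr a ha c hcc
      have h1 : W p ≤ cm (W p) (W q) (W r) hcR := by
        refine D.W_le p _ fun m hm a ha => ?_
        refine mem_cm.2 ⟨D.V_le p m hm ha, fun b hb => ?_⟩
        obtain ⟨x, hx, hax⟩ := D.cover m a ha
        by_cases hmv : ∃ f ∈ W q, ∃ a ∈ R x, f * a ≠ a * f
        · exact (hex x m hx hm hmv).2 a (D.R_le_W x hax) b hb
        · push Not at hmv
          have e : a * b * a⁻¹ * b⁻¹ = 1 := by rw [← hmv b hb a hax]; group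
          rw [e]; exact one_mem _
      exact fun a ha => (mem_cm.1 (h1 ha)).2
  obtain ⟨r, l, hr, hrl, hql⟩ := hcr.last (by omega)
  obtain ⟨r', l', hr', hrl', hql'⟩ := hcr.symm.last (by omega)
  obtain ⟨h1, h2⟩ := key p q r l hcr hr hrl hql
  obtain ⟨h3, -⟩ := key q p r' l' hcr.symm hr' hrl' hql'
  refine ⟨q, r, p, l, hcr.symm, hql, hrl, hcr.ne_last (by omega) hr, hr.symm, h3, h1, fun a ha b hb => ?_⟩
  have h4 := h2 b hb a ha
  have e : a * b * a⁻¹ * b⁻¹ = (b * a * b⁻¹ * a⁻¹)⁻¹ := by group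
  refine ⟨?_, ?_⟩
  · have e2 : a * b * a⁻¹ * b⁻¹ = a * (b * a⁻¹ * b⁻¹) := by group
    rw [e2]
    exact mul_mem ha (D.norm_W (hcr.fix D (by omega) hb) (inv_mem ha))
  · rw [e]
    exact (W r).inv_mem h4

end Cfsg.Agent.Omega.NOThree.LemmaM

end

section


/-!
# NO-3S, `q ≥ 4`: FarQ (`n ≥ 3`) and MidQ (`n = 2`) from the module facts (helper263 #15995, sections 6 and 7)

Abstract form, on `NOThree.Pts.Geom` (any `s`).

* `Ex q l A` : `A ≤ O₂(C_G(V_l))` is elementary abelian, quadratic, not trivial and exact on `M_q = W_q / R_q`;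
* `ExP n p q` : an exact critical pair; `ExP.of_good`, `ExP.of_typeI`;
* `NS n` : "not (`|τ| = 1` and split)": `k1` (6.1)(α), `k2` (6.1)(β), `d` (4.0) (and the generation of section 7);
* `SP` : `|τ| = 1` and split: commutators of an exact `A` lie in lines;
* `far` : `n ≥ 3`, `NoOver`, `NS n ∨ SP` : there is no critical pair (6.3);
* `mid` : `n = 2`, `NoOver`, `NS 2` : there is no critical pair (7).
-/

set_option autoImplicit false
set_option linter.unusedSectionVars false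

namespace Cfsg.Agent.Omega.NO3S.FarQ.Asm

open Subgroup Cfsg Cfsg.Agent.ZN Cfsg.Agent.MinSimple.VModule Cfsg.Agent.Omega.NOThree.Pts
open Cfsg.Agent.Omega.NOThree.LemmaM

variable {G X L : Type*} [Group G] [MulAction G X] [MulAction G L]
variable {inc : X → L → Prop} {R W : X → Subgroup G} {V : L → Subgroup G} {s t n : ℕ}

/-- `A` is an exact quadratic subgroup for `M_q = W_q / R_q` (line `l` on `q`). -/
structure Ex (inc : X → L → Prop) (R W : X → Subgroup G) (V : L → Subgroup G) (q : X) (l : L)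
    (A : Subgroup G) : Prop where
  ql : inc q l
  le : A ≤ o2 (centralizer (V l : Set G))
  comm : ∀ a ∈ A, ∀ b ∈ A, a * b = b * a
  sq : ∀ a ∈ A, a * a = 1
  cen : ∀ y, inc y l → y ≠ q → ∀ a ∈ A, ∀ u ∈ W q, u ∈ W y → a * u = u * a
  quad : ∀ a ∈ A, ∀ b ∈ A, ∀ u ∈ W q, b * (a * u * a⁻¹ * u⁻¹) = (a * u * a⁻¹ * u⁻¹) * b
  ne : ∃ a ∈ A, ∃ u ∈ W q, a * u * a⁻¹ * u⁻¹ ∉ R q
  eq : ∀ N C : Subgroup G, (∀ a, a ∈ N ↔ a ∈ A ∧ ∀ u ∈ W q, a * u * a⁻¹ * u⁻¹ ∈ R q) →
      (∀ u, u ∈ C ↔ u ∈ W q ∧ ∀ a ∈ A, a * u * a⁻¹ * u⁻¹ ∈ R q) → N.relIndex A = C.relIndex (W q)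

/-- An exact critical pair. -/
structure ExP (inc : X → L → Prop) (R W : X → Subgroup G) (V : L → Subgroup G) (n : ℕ) (p q : X) : Prop where
  crit : Crit inc W n p q
  cen : ∀ u ∈ W p, (∀ b ∈ W q, b * u * b⁻¹ * u⁻¹ ∈ R p) → ∀ b ∈ W q, b * u = u * b
  cen' : ∀ u ∈ W q, (∀ b ∈ W p, b * u * b⁻¹ * u⁻¹ ∈ R q) → ∀ b ∈ W p, b * u = u * b
  good : ∀ b ∈ W q, (∀ u ∈ W p, b * u * b⁻¹ * u⁻¹ ∈ R p) → ∀ u ∈ W p, b * u = u * b
  good' : ∀ b ∈ W p, (∀ u ∈ W q, b * u * b⁻¹ * u⁻¹ ∈ R q) → ∀ u ∈ W q, b * u = u * b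
  ex : ∀ r l, Walk inc (n - 1) q r → inc r l → inc p l → Ex inc R W V p l (W q)
  ex' : ∀ r l, Walk inc (n - 1) p r → inc r l → inc q l → Ex inc R W V q l (W p)

/-- **Not (`|τ| = 1` and split).** -/
structure NS (inc : X → L → Prop) (R W : X → Subgroup G) (V : L → Subgroup G) (n : ℕ) : Prop where
  /-- (6.1)(α) -/
  k1 : ∀ p l A, Ex inc R W V p l A → ∀ y, inc y l → y ≠ p →
    ¬ ∀ a ∈ A, ∀ u ∈ W p, a * u * a⁻¹ * u⁻¹ ∈ W y
  /-- (6.1)(β) -/
  k2 : ∀ p l A, Ex inc R W V p l A → ∀ y, inc y l → y ≠ p →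
    ¬ ∀ u ∈ W p, (∀ a ∈ A, a * u * a⁻¹ * u⁻¹ ∈ R p) → u ∈ W y
  /-- (4.0) and the good generators of section 7 -/
  d : ∀ p q, ExP inc R W V n p q → ∃ x m, inc x m ∧ inc p m ∧ (∃ f ∈ W q, f • x ≠ x) ∧
    W q ≤ closure {f | f ∈ W q ∧ (f • x = x ∨ ∀ a ∈ W x, a ∈ W (f • x) → a ∈ W p)}

/-- **`|τ| = 1` and split**: the commutators of an exact `A` lie in lines. -/
def SP (inc : X → L → Prop) (R W : X → Subgroup G) (V : L → Subgroup G) : Prop :=
  ∀ p l A, Ex inc R W V p l A → ∀ a ∈ A, ∀ u ∈ W p, ∃ m, inc p m ∧ a * u * a⁻¹ * u⁻¹ ∈ V m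

/-! ### Tools -/

theorem comm_inv_mem {N : Subgroup G} {a b : G} : a * b * a⁻¹ * b⁻¹ ∈ N ↔ b * a * b⁻¹ * a⁻¹ ∈ N := by
  have e : a * b * a⁻¹ * b⁻¹ = (b * a * b⁻¹ * a⁻¹)⁻¹ := by group
  rw [e, inv_mem_iff]

theorem comm_eq_one {a b : G} : a * b * a⁻¹ * b⁻¹ = 1 ↔ a * b = b * a := by
  constructor
  · intro h
    have h1 : a * b * a⁻¹ = b := mul_inv_eq_one.1 h
    calc a * b = a * b * a⁻¹ * a := by group
      _ = b * a := by rw [h1]
  · intro h
    rw [h]; group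

theorem le_of_relIndex_eq [Finite G] {K C A : Subgroup G} (h : K ≤ C) (hC : C ≤ A)
    (he : K.relIndex A ≤ C.relIndex A) : C ≤ K := by
  have h1 := relIndex_mul_relIndex K C A h hC
  have h2 := relIndex_ne_zero' C A
  have h3 := relIndex_ne_zero' K C
  have h4 : K.relIndex C * C.relIndex A ≤ 1 * C.relIndex A := by rw [one_mul, h1]; exact he
  have h5 := Nat.le_of_mul_le_mul_right h4 (Nat.pos_of_ne_zero h2)
  exact relIndex_eq_one.1 (by omega)

section crit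

variable (D : Geom inc R W V s t) {p q : X}
include D

/-- `[W_p, W_q] ≤ W_q` for a critical pair -/
theorem comm_mem (h : Crit inc W n p q) (hn : 1 ≤ n) {a b : G} (ha : a ∈ W p) (hb : b ∈ W q) :
    a * b * a⁻¹ * b⁻¹ ∈ W q :=
  (W q).mul_mem (D.norm_W (h.fix D hn ha) hb) ((W q).inv_mem hb)

theorem comm_mem' (h : Crit inc W n p q) (hn : 1 ≤ n) {a b : G} (ha : a ∈ W p) (hb : b ∈ W q) :
    a * b * a⁻¹ * b⁻¹ ∈ W p :=
  comm_inv_mem.1 (comm_mem D h.symm hn hb ha)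

/-- everything of `Ex` except `ne` and `eq`, and the inequality -/
theorem noOver_pair (hNO : NoOver inc R W V) (h : Crit inc W n p q) (hn : 2 ≤ n) {r : X} {l : L}
    (hr : Walk inc (n - 1) q r) (hrl : inc r l) (hpl : inc p l) :
    (W q ≤ o2 (centralizer (V l : Set G)) ∧
      (∀ y, inc y l → y ≠ p → ∀ a ∈ W q, ∀ u ∈ W p, u ∈ W y → a * u = u * a) ∧
      (∀ a ∈ W q, ∀ b ∈ W q, ∀ u ∈ W p, b * (a * u * a⁻¹ * u⁻¹) = (a * u * a⁻¹ * u⁻¹) * b)) ∧
    ∀ N C : Subgroup G, (∀ a, a ∈ N ↔ a ∈ W q ∧ ∀ u ∈ W p, a * u * a⁻¹ * u⁻¹ ∈ R p) →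
      (∀ u, u ∈ C ↔ u ∈ W p ∧ ∀ a ∈ W q, a * u * a⁻¹ * u⁻¹ ∈ R p) → N.relIndex (W q) ≤ C.relIndex (W p) := by
  have hrp : r ≠ p := h.symm.ne_last (by omega) hr
  have hc : Com W q r := h.symm.com_last (by omega) hr
  have h1 : W q ≤ o2 (centralizer (V l : Set G)) := D.low_line h.min hr (by omega) hc hrl
  have h2 : ∀ y, inc y l → y ≠ p → ∀ a ∈ W q, ∀ u ∈ W p, u ∈ W y → a * u = u * a := by
    intro y hy hyp a ha u hu huy
    exact hc a ha u (D.inf_le hpl hy hrl hyp.symm ⟨hu, huy⟩)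
  have h3 : ∀ a ∈ W q, ∀ b ∈ W q, ∀ u ∈ W p,
      b * (a * u * a⁻¹ * u⁻¹) = (a * u * a⁻¹ * u⁻¹) * b := by
    intro a ha b hb u hu
    exact D.comm q b hb _ (comm_mem' D h.symm (by omega) ha hu)
  exact ⟨⟨h1, h2, h3⟩, fun N C hN hC => hNO p l hpl (W q) h1 (D.comm q) (D.sq q) h2 h3 N C hN hC⟩

variable [Finite G]

/-- **A good pair is exact.** -/
theorem ExP.of_good (hNO : NoOver inc R W V) (h : Crit inc W n p q) (hn : 2 ≤ n)
    (good : ∀ b ∈ W q, (∀ u ∈ W p, b * u * b⁻¹ * u⁻¹ ∈ R p) → ∀ u ∈ W p, b * u = u * b)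
    (good' : ∀ b ∈ W p, (∀ u ∈ W q, b * u * b⁻¹ * u⁻¹ ∈ R q) → ∀ u ∈ W q, b * u = u * b) :
    ExP inc R W V n p q := by
  obtain ⟨r₁, l₁, hr₁, hrl₁, hpl⟩ := h.symm.last (by omega)
  obtain ⟨r₂, l₂, hr₂, hrl₂, hql⟩ := h.last (by omega)
  -- the four subgroups
  let Kq : Subgroup G := W q ⊓ centralizer (W p : Set G)
  let Kp : Subgroup G := W p ⊓ centralizer (W q : Set G)
  have hKq : ∀ a, a ∈ Kq ↔ a ∈ W q ∧ ∀ u ∈ W p, a * u * a⁻¹ * u⁻¹ ∈ R p := by
    intro a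
    constructor
    · rintro ⟨ha, ha'⟩
      refine ⟨ha, fun u hu => ?_⟩
      rw [comm_eq_one.2 (mem_centralizer_iff.1 ha' u hu).symm]
      exact one_mem _
    · rintro ⟨ha, ha'⟩
      exact ⟨ha, mem_centralizer_iff.2 fun u hu => (good a ha ha' u hu).symm⟩
  have hKp : ∀ a, a ∈ Kp ↔ a ∈ W p ∧ ∀ u ∈ W q, a * u * a⁻¹ * u⁻¹ ∈ R q := by
    intro a
    constructor
    · rintro ⟨ha, ha'⟩
      refine ⟨ha, fun u hu => ?_⟩
      rw [comm_eq_one.2 (mem_centralizer_iff.1 ha' u hu).symm]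
      exact one_mem _
    · rintro ⟨ha, ha'⟩
      exact ⟨ha, mem_centralizer_iff.2 fun u hu => (good' a ha ha' u hu).symm⟩
  have cp : ∀ a ∈ W p, ∀ c ∈ R p, a * c = c * a := fun a ha c hcc => D.comm p a ha c (D.R_le_W p hcc)
  have cq : ∀ a ∈ W q, ∀ c ∈ R q, a * c = c * a := fun a ha c hcc => D.comm q a ha c (D.R_le_W q hcc)
  set Cp := cm (W p) (W q) (R p) cp with hCp
  set Cq := cm (W q) (W p) (R q) cq with hCq
  have mCp : ∀ u, u ∈ Cp ↔ u ∈ W p ∧ ∀ a ∈ W q, a * u * a⁻¹ * u⁻¹ ∈ R p := by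
    intro u
    rw [mem_cm]
    exact and_congr_right fun hu => forall₂_congr fun a ha => comm_inv_mem
  have mCq : ∀ u, u ∈ Cq ↔ u ∈ W q ∧ ∀ a ∈ W p, a * u * a⁻¹ * u⁻¹ ∈ R q := by
    intro u
    rw [mem_cm]
    exact and_congr_right fun hu => forall₂_congr fun a ha => comm_inv_mem
  have hKCp : Kp ≤ Cp := by
    intro u hu
    rw [mCp]
    refine ⟨hu.1, fun a ha => ?_⟩
    rw [comm_eq_one.2 (mem_centralizer_iff.1 hu.2 a ha)]
    exact one_mem _
  have hKCq : Kq ≤ Cq := by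
    intro u hu
    rw [mCq]
    refine ⟨hu.1, fun a ha => ?_⟩
    rw [comm_eq_one.2 (mem_centralizer_iff.1 hu.2 a ha)]
    exact one_mem _
  obtain ⟨-, h1⟩ := noOver_pair D hNO h hn hr₁ hrl₁ hpl
  obtain ⟨-, h2⟩ := noOver_pair D hNO h.symm hn hr₂ hrl₂ hql
  have i1 := h1 Kq Cp hKq mCp
  have i2 := h2 Kp Cq hKp mCq
  have i3 : Cp.relIndex (W p) ≤ Kp.relIndex (W p) := relIndex_le_of_le_left hKCp (relIndex_ne_zero' _ _)
  have i4 : Cq.relIndex (W q) ≤ Kq.relIndex (W q) := relIndex_le_of_le_left hKCq (relIndex_ne_zero' _ _)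
  have e1 : Cp ≤ Kp := le_of_relIndex_eq hKCp (fun u hu => ((mCp u).1 hu).1) (by omega)
  have e2 : Cq ≤ Kq := le_of_relIndex_eq hKCq (fun u hu => ((mCq u).1 hu).1) (by omega)
  have e1' : Cp = Kp := le_antisymm e1 hKCp
  have e2' : Cq = Kq := le_antisymm e2 hKCq
  refine ⟨h, ?_, ?_, good, good', ?_, ?_⟩
  · intro u hu hb b hbq
    exact mem_centralizer_iff.1 (e1 ((mCp u).2 ⟨hu, hb⟩)).2 b hbq
  · intro u hu hb b hbq
    exact mem_centralizer_iff.1 (e2 ((mCq u).2 ⟨hu, hb⟩)).2 b hbq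
  · intro r l hr hrl hpl'
    obtain ⟨⟨j1, j2, j3⟩, -⟩ := noOver_pair D hNO h hn hr hrl hpl'
    refine ⟨hpl', j1, D.comm q, D.sq q, j2, j3, ?_, ?_⟩
    · by_contra hcon
      push Not at hcon
      exact h.ne fun a ha b hb => (good b hb (fun u hu => hcon b hb u hu) a ha).symm
    · intro N C hN hC
      have eN : N = Kq := by ext a; rw [hN, hKq]
      have eC : C = Cp := by ext a; rw [hC, mCp]
      rw [eN, eC]
      omega
  · intro r l hr hrl hql'
    obtain ⟨⟨j1, j2, j3⟩, -⟩ := noOver_pair D hNO h.symm hn hr hrl hql'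
    refine ⟨hql', j1, D.comm p, D.sq p, j2, j3, ?_, ?_⟩
    · by_contra hcon
      push Not at hcon
      exact h.ne fun a ha b hb => good' a ha (fun u hu => hcon a ha u hu) b hb
    · intro N C hN hC
      have eN : N = Kp := by ext a; rw [hN, hKp]
      have eC : C = Cq := by ext a; rw [hC, mCq]
      rw [eN, eC]
      omega

/-- **A pair of type I is exact.** -/
theorem ExP.of_typeI (hNO : NoOver inc R W V) (h : Crit inc W n p q) (hn : 2 ≤ n)
    (h1 : ∀ u ∈ R p, u ∈ W q → u = 1) (h2 : ∀ u ∈ R q, u ∈ W p → u = 1) : ExP inc R W V n p q := by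
  refine ExP.of_good D hNO h hn ?_ ?_
  · intro b hb hbp u hu
    exact comm_eq_one.1 (h1 _ (hbp u hu) (comm_mem' D h.symm (by omega) hb hu))
  · intro b hb hbp u hu
    exact comm_eq_one.1 (h2 _ (hbp u hu) (comm_mem' D h (by omega) hb hu))

end crit

/-! ### `n ≥ 3` -/

section far

variable [Finite G] (D : Geom inc R W V s t) {p q : X}
include D

/-- a good generator which moves `x` -/
theorem exists_good {x : X} (h1 : ∃ f ∈ W q, f • x ≠ x)
    (h2 : W q ≤ closure {f | f ∈ W q ∧ (f • x = x ∨ ∀ a ∈ W x, a ∈ W (f • x) → a ∈ W p)}) :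
    ∃ f ∈ W q, f • x ≠ x ∧ ∀ a ∈ W x, a ∈ W (f • x) → a ∈ W p := by
  by_contra hcon
  push Not at hcon
  obtain ⟨f, hf, hfx⟩ := h1
  apply hfx
  have h3 : closure {f | f ∈ W q ∧ (f • x = x ∨ ∀ a ∈ W x, a ∈ W (f • x) → a ∈ W p)} ≤
      MulAction.stabilizer G x := by
    rw [closure_le]
    rintro g ⟨hg, hg'⟩
    by_contra hgx
    have hgx' : g • x ≠ x := hgx
    obtain ⟨a, ha, ha', ha''⟩ := hcon g hg hgx'
    rcases hg' with h | h
    · exact hgx' h
    · exact ha'' (h a ha ha')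
  exact h3 (h2 hf)

/-- (6.2) -/
theorem SP.false (hS : SP inc R W V) (hn : 3 ≤ n) (h : ExP inc R W V n p q) : False := by
  obtain ⟨r₁, l₁, hr₁, hrl₁, hpl⟩ := h.crit.symm.last (by omega)
  obtain ⟨r₂, l₂, hr₂, hrl₂, hql⟩ := h.crit.last (by omega)
  have e1 := h.ex r₁ l₁ hr₁ hrl₁ hpl
  have e2 := h.ex' r₂ l₂ hr₂ hrl₂ hql
  have hne := h.crit.ne
  unfold Com at hne
  push Not at hne
  obtain ⟨a, ha, b, hb, hab⟩ := hne
  obtain ⟨m, hm, hu⟩ := hS p l₁ _ e1 b hb a ha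
  obtain ⟨m', hm', hu'⟩ := hS q l₂ _ e2 a ha b hb
  rw [comm_inv_mem] at hu
  have hu1 : a * b * a⁻¹ * b⁻¹ ≠ 1 := fun e => hab (comm_eq_one.1 e)
  obtain ⟨y, hy, huy⟩ := D.cover m _ hu
  obtain ⟨y', hy', huy'⟩ := D.cover m' _ hu'
  obtain rfl := D.ti _ _ _ huy huy' hu1
  exact h.crit.not_walk (by omega) ((Walk.one hm hy).step hy' hm')

/-- (6.1)(α) for `n ≥ 3` -/
theorem NS.false_alpha (hK : NS inc R W V n) {x r : X} {m : L} (hxm : inc x m) (hpm : inc p m)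
    (hne : p ≠ x) (hw : Walk inc (n - 1) r p) (h : ExP inc R W V n x r)
    (hle : ∀ a ∈ W x, ∀ b ∈ W r, a * b * a⁻¹ * b⁻¹ ∈ W p) : False :=
  hK.k1 x m _ (h.ex p m hw hpm hxm) p hpm hne fun a ha u hu => comm_inv_mem.1 (hle u hu a ha)

variable {r x : X} {l m : L} {f : G}

/-- `A_x` is exact in (β). -/
theorem ex_beta (hNO : NoOver inc R W V) (h : MDat inc R W V s t n p q r x l m f) (hc : Com W x r) :
    Ex inc R W V q l (W x) := by
  have h3 := h.three
  have hrq : r ≠ q := h.crit.ne_last (by omega) h.walk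
  have hA : W x ≤ o2 (centralizer (V l : Set G)) :=
    h.D.low_line h.crit.min h.walk' le_rfl hc h.rl
  have hcen : ∀ y, inc y l → y ≠ q → ∀ a ∈ W x, ∀ u ∈ W q, u ∈ W y → a * u = u * a := by
    intro y hy hyq a ha u hu huy
    exact hc a ha u (h.D.inf_le h.ql hy h.rl hyq.symm ⟨hu, huy⟩)
  have hquad : ∀ a ∈ W x, ∀ b ∈ W x, ∀ u ∈ W q,
      b * (a * u * a⁻¹ * u⁻¹) = (a * u * a⁻¹ * u⁻¹) * b := fun a ha b hb u hu => h.comm_comm hu ha hb
  have h2 : (W q ⊓ W r).relIndex (W q) = t := h.D.index q r l h.ql h.rl hrq.symm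
  have key : ∀ N C : Subgroup G, (∀ a, a ∈ N ↔ a ∈ W x ∧ ∀ u ∈ W q, a * u * a⁻¹ * u⁻¹ ∈ R q) →
      (∀ u, u ∈ C ↔ u ∈ W q ∧ ∀ a ∈ W x, a * u * a⁻¹ * u⁻¹ ∈ R q) →
      N.relIndex (W x) = t ∧ C.relIndex (W q) = t := by
    intro N C hN hC
    have h1 : t ≤ N.relIndex (W x) := h.t_le hc N hN
    have h4 : N.relIndex (W x) ≤ C.relIndex (W q) :=
      hNO q l h.ql (W x) hA (h.D.comm x) (h.D.sq x) hcen hquad N C hN hC
    have hle : W q ⊓ W r ≤ C := by
      intro u hu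
      rw [hC]
      refine ⟨hu.1, fun a ha => ?_⟩
      rw [comm_eq_one.2 (hc a ha u hu.2)]
      exact one_mem _
    have h5 : C.relIndex (W q) ≤ (W q ⊓ W r).relIndex (W q) :=
      relIndex_le_of_le_left hle (relIndex_ne_zero' _ _)
    omega
  refine ⟨h.ql, hA, h.D.comm x, h.D.sq x, hcen, hquad, ?_, fun N C hN hC => ?_⟩
  · by_contra hcon
    push Not at hcon
    obtain ⟨h4, -⟩ := key (W x) (W q) (fun a => ⟨fun ha => ⟨ha, hcon a ha⟩, fun ha => ha.1⟩)
      (fun u => ⟨fun hu => ⟨hu, fun a ha => hcon a ha u hu⟩, fun hu => hu.1⟩)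
    rw [relIndex_self] at h4
    rw [← h4] at h2
    have h5 : W q ≤ W q ⊓ W r := relIndex_eq_one.1 h2
    exact h.crit.ne fun a ha b hb => h.crit.com_last (by omega) h.walk a ha b (h5 hb).2
  · obtain ⟨h4, h5⟩ := key N C hN hC
    rw [h4, h5]

omit D in
/-- LEMMA (M) for one point `x`. -/
theorem false_of_mdat (hNO : NoOver inc R W V) (hK : NS inc R W V n)
    (h : MDat inc R W V s t n p q r x l m f) : False := by
  have h3 := h.three
  by_cases hc : Com W x r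
  · have hrq : r ≠ q := h.crit.ne_last (by omega) h.walk
    exact hK.k2 q l _ (ex_beta h.D hNO h hc) r h.rl hrq (h.beta hc hNO).1
  · obtain ⟨h1, h2, h4, h5⟩ := h.alpha hc
    exact hK.false_alpha h.D h.xm h.pm h.ne.symm h.walk.symm
      (ExP.of_typeI h.D hNO h1 (by omega) h2 h4) fun a ha b hb => (h5 a ha b hb).2

/-- (6.3)(A): `b ∈ W_q ∩ K_p` not centralising `W_p` gives the data of LEMMA (M) and `R_p ≤ W_q`. -/
theorem exists_mdat (hn : 2 ≤ n) (h : Crit inc W n p q) {b : G} (hb : b ∈ W q)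
    (hbp : ∀ u ∈ W p, b * u * b⁻¹ * u⁻¹ ∈ R p) (hne : ∃ u ∈ W p, b * u ≠ u * b) :
    (∃ x m, inc x m ∧ inc p m ∧ b • x ≠ x ∧ ∀ a ∈ W x, a ∈ W (b • x) → a ∈ W p) ∧ R p ≤ W q := by
  have hbR : ∀ c ∈ R p, b * c = c * b := fun c hc => h.symm.comm_R D (by omega) hb hc
  -- a line moved by `b`
  obtain ⟨m, hm, a, ha, hab⟩ : ∃ m, inc p m ∧ ∃ a ∈ V m, b * a ≠ a * b := by
    by_contra hcon
    push Not at hcon
    obtain ⟨u, hu, hub⟩ := hne
    have h1 : W p ≤ centralizer ({b} : Set G) :=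
      D.W_le p _ fun m hm a ha => mem_centralizer_singleton_iff.2 (hcon m hm a ha).symm
    exact hub (mem_centralizer_singleton_iff.1 (h1 hu)).symm
  obtain ⟨x, hx, hax⟩ := D.cover m a ha
  have hxp : x ≠ p := by
    rintro rfl
    exact hab (hbR a hax)
  have ha1 : a ≠ 1 := by
    rintro rfl
    exact hab (by rw [mul_one, one_mul])
  have haW : a ∈ W p := D.V_le p m hm ha
  have hc := hbp a haW
  have hbx : b • x ≠ x := by
    intro e
    have h1 : b * a * b⁻¹ * a⁻¹ ∈ R x := mul_mem (D.norm_R e hax) (inv_mem hax)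
    exact hxp (D.ti _ _ _ h1 hc fun e1 => hab (comm_eq_one.1 e1))
  have hbxm : inc (b • x) m := by
    have h1 : b * a * b⁻¹ ∈ V m := by
      have e : b * a * b⁻¹ = (b * a * b⁻¹ * a⁻¹) * a := by group
      rw [e]
      exact mul_mem (D.R_le p m hm hc) ha
    obtain ⟨y, hy, hya⟩ := D.cover m _ h1
    have h2 : b * a * b⁻¹ ≠ 1 := fun e => ha1 (by
      have : a = b⁻¹ * (b * a * b⁻¹) * b := by group
      rw [this, e]; group)
    rwa [← D.ti _ _ _ hya (D.R_smul b x a hax) h2]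
  refine ⟨⟨x, m, hx, hm, hbx, fun u hu hu' => D.inf_le hx hbxm hm hbx.symm ⟨hu, hu'⟩⟩, ?_⟩
  -- `R_p = [R_x, b] ≤ W_q`
  let φ : R x → R p := fun u => ⟨b * u * b⁻¹ * (u : G)⁻¹, hbp u (D.V_le p m hm (D.R_le x m hx u.2))⟩
  have hinj : Function.Injective φ := by
    intro u v huv
    have h1 : b * (u : G) * b⁻¹ * (u : G)⁻¹ = b * v * b⁻¹ * (v : G)⁻¹ := congrArg Subtype.val huv
    by_contra hne'
    apply hbx
    have h2 : (v : G)⁻¹ * u ≠ 1 := fun e => hne' (Subtype.ext (by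
      rw [← mul_right_inj (v : G)⁻¹, e, inv_mul_cancel]))
    refine D.fix (mul_mem (inv_mem v.2) u.2) h2 ?_
    have h3 : b * (u : G) * b⁻¹ * (u : G)⁻¹ * v = b * v * b⁻¹ := by rw [h1]; group
    have h4 : ((u : G)⁻¹ * v) = ((v : G)⁻¹ * u)⁻¹ := by group
    have h5 : b * ((u : G)⁻¹ * v) * b⁻¹ = (u : G)⁻¹ * v := by
      have : b * ((u : G)⁻¹ * v) * b⁻¹ = (b * (u : G) * b⁻¹)⁻¹ * (b * v * b⁻¹) := by group
      rw [this, ← h3]; group
    rw [h4] at h5
    have h6 : b * ((v : G)⁻¹ * u) * b⁻¹ = (v : G)⁻¹ * u := by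
      have := congrArg (fun t => t⁻¹) h5
      simpa [mul_assoc] using this
    calc b * ((v : G)⁻¹ * u) = (b * ((v : G)⁻¹ * u) * b⁻¹) * b := by group
      _ = (v : G)⁻¹ * u * b := by rw [h6]
  have hcard : Nat.card (R x) = Nat.card (R p) := by rw [D.card, D.card]
  have hsurj : Function.Surjective φ := by
    have : Fintype (R x) := Fintype.ofFinite _
    have : Fintype (R p) := Fintype.ofFinite _
    rw [Nat.card_eq_fintype_card, Nat.card_eq_fintype_card] at hcard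
    exact ((Fintype.bijective_iff_injective_and_card φ).2 ⟨hinj, hcard⟩).2
  intro c hc'
  obtain ⟨u, hu⟩ := hsurj ⟨c, hc'⟩
  have h1 : b * (u : G) * b⁻¹ * (u : G)⁻¹ = c := congrArg Subtype.val hu
  rw [← h1]
  exact comm_inv_mem.1 (comm_mem D h (by omega) (D.V_le p m hm (D.R_le x m hx u.2)) hb)

/-- **FarQ, abstract form** (6.3): there is no critical pair at distance `n ≥ 3`. -/
theorem far (hn : 3 ≤ n) (hNO : NoOver inc R W V) (hK : NS inc R W V n ∨ SP inc R W V)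
    (hcr : Crit inc W n p q) : False := by
  -- (A)
  have hA : ∀ p q, Crit inc W n p q → ∀ b ∈ W q, (∀ u ∈ W p, b * u * b⁻¹ * u⁻¹ ∈ R p) →
      ∀ u ∈ W p, b * u = u * b := by
    intro p q h b hb hbp u hu
    by_contra hne
    obtain ⟨⟨x, m, hx, hm, hbx, hlow⟩, hR⟩ := exists_mdat D (by omega) h hb hbp ⟨u, hu, hne⟩
    obtain ⟨r, l, hr, hrl, hql⟩ := h.last (by omega)
    have hM : MDat inc R W V s t n p q r x l m b := ⟨D, hn, h, hr, hrl, hql, hx, hm, hb, hbx, hlow⟩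
    by_cases hc : Com W x r
    · obtain ⟨c, hc', hc1⟩ := D.exists_ne p
      exact hc1 ((hM.beta hc hNO).2.1 c hc' (hR hc'))
    · obtain ⟨h1, h2, h4, h5⟩ := hM.alpha hc
      have hE := ExP.of_typeI D hNO h1 (by omega) h2 h4
      rcases hK with hK | hK
      · exact hK.false_alpha D hx hm hM.ne.symm hr.symm hE fun a ha b hb => (h5 a ha b hb).2
      · exact SP.false D hK hn hE
  have hE : ExP inc R W V n p q := ExP.of_good D hNO hcr (by omega) (hA p q hcr) (hA q p hcr.symm)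
  rcases hK with hK | hK
  · obtain ⟨x, m, hx, hm, h1, h2⟩ := hK.d p q hE
    obtain ⟨f, hf, hfx, hlow⟩ := exists_good D h1 h2
    obtain ⟨r, l, hr, hrl, hql⟩ := hcr.last (by omega)
    exact false_of_mdat hNO hK ⟨D, hn, hcr, hr, hrl, hql, hx, hm, hf, hfx, hlow⟩
  · exact SP.false D hK hn hE

end far

/-! ### `n = 2` -/

section mid

variable [Finite G] (D : Geom inc R W V s t) {p q : X}
include D

/-- for `n = 2` every critical pair is exact -/
theorem ExP.of_two (hNO : NoOver inc R W V) (h : Crit inc W 2 p q) : ExP inc R W V 2 p q := by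
  have key : ∀ {p q : X}, Crit inc W 2 p q → ∀ u ∈ R p, u ∈ W q → u = 1 := by
    intro p q h u hu huq
    obtain ⟨r, l, hr, hrl, hql⟩ := h.last (by norm_num)
    refine h.star D le_rfl hr hrl hql hu huq ?_
    have h1 : Walk inc 1 p r := hr
    rcases h1 with _ | @⟨_, _, c, _, m, hc, hcm, hrm⟩
    rcases hc with _ | _
    exact D.V_le r m hrm (D.R_le p m hcm hu)
  exact ExP.of_typeI D hNO h le_rfl (key h) (key h.symm)

variable {c x : X} {l m : L} {f : G}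

/-- **MidQ, abstract form** (7): `NS` is impossible at distance `n = 2`. -/
theorem mid (hNO : NoOver inc R W V) (hK : NS inc R W V 2) (hcr : Crit inc W 2 p q) : False := by
  have hE := ExP.of_two D hNO hcr
  obtain ⟨x, m, hxm, hpm, h1, hgen⟩ := hK.d p q hE
  obtain ⟨f, hf, hfx, hlow⟩ := exists_good D h1 hgen
  obtain ⟨c, l, hpc, hcl, hql⟩ := hcr.last (by norm_num)
  have hpc' : Walk inc 1 p c := hpc
  have hcq : c ≠ q := hcr.ne_last (by norm_num) hpc
  have hfp : ∀ {g : G}, g ∈ W q → g • p = p := fun hg => hcr.symm.fix D (by norm_num) hg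
  have hxp : x ≠ p := by
    rintro rfl
    exact hfx (hfp hf)
  have hmin : ∀ {a b : X} {k : L}, inc a k → inc b k → Com W a b := fun ha hb =>
    hcr.min 1 (by norm_num) _ _ (Walk.one ha hb)
  have hwx : ∀ {g : G}, g ∈ W q → Walk inc 2 x (g • x) := by
    intro g hg
    refine (Walk.one hxm hpm).step (l := g • m) ?_ (D.inc_smul g _ _ hxm)
    have := D.inc_smul g _ _ hpm
    rwa [hfp hg] at this
  have hcomR : ∀ {g a : G}, g ∈ W q → g • x ≠ x → a ∈ R x → g * a = a * g → a = 1 := by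
    intro g a _ hgx ha h
    by_contra ha1
    exact hgx (D.fix ha ha1 h)
  -- (7.1)
  have h71 : ∀ g ∈ W q, g • x ≠ x → (∀ a ∈ W x, a ∈ W (g • x) → a ∈ W p) → Com W x (g • x) := by
    intro g hg hgx hl
    by_contra hne
    have hc : Crit inc W 2 x (g • x) := ⟨hwx hg, hne, hcr.min⟩
    have hE' := ExP.of_two D hNO hc
    have hw : Walk inc 1 (g • x) p := by
      have h3 := D.inc_smul g _ _ hxm
      have h4 := D.inc_smul g _ _ hpm
      rw [hfp hg] at h4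
      exact Walk.one h3 h4
    exact hK.false_alpha D hxm hpm hxp.symm hw hE' fun a ha b hb =>
      hl _ (comm_mem' D hc (by norm_num) ha hb) (comm_mem D hc (by norm_num) ha hb)
  by_cases hc : Com W x c
  · -- (β)
    have hRl : R q ≤ W c := (D.R_le q l hql).trans (D.V_le c l hcl)
    have hfq : ∀ {w : G}, w ∈ W x → w • q = q := fun hw =>
      D.fix_of_centralizes fun a ha => hc _ hw a (hRl ha)
    have hcm : ∀ {w u : G}, w ∈ W x → u ∈ W q → w * u * w⁻¹ * u⁻¹ ∈ W q := fun hw hu =>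
      (W q).mul_mem (D.norm_W (hfq hw) hu) ((W q).inv_mem hu)
    -- (7.2)
    have h72 : ∀ g ∈ W q, ∀ w ∈ W x, ∀ w' ∈ W x,
        w' * (w * g * w⁻¹ * g⁻¹) = (w * g * w⁻¹ * g⁻¹) * w' := by
      intro g hg
      refine (closure_induction (p := fun g _ => g ∈ W q ∧ ∀ w ∈ W x, ∀ w' ∈ W x,
        w' * (w * g * w⁻¹ * g⁻¹) = (w * g * w⁻¹ * g⁻¹) * w') ?_ ?_ ?_ ?_ (hgen hg)).2
      · rintro g ⟨hg, hg'⟩
        refine ⟨hg, fun w hw w' hw' => ?_⟩
        by_cases hgx : g • x = x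
        · have h3 : w * g * w⁻¹ * g⁻¹ ∈ W x := by
            have e : w * g * w⁻¹ * g⁻¹ = w * (g * w⁻¹ * g⁻¹) := by group
            rw [e]
            exact mul_mem hw (D.norm_W hgx (inv_mem hw))
          exact D.comm x w' hw' _ h3
        · have h3 := h71 g hg hgx (hg'.resolve_left hgx)
          have h4 : g * w⁻¹ * g⁻¹ ∈ W (g • x) := D.W_smul g x _ (inv_mem hw)
          have e : w * g * w⁻¹ * g⁻¹ = w * (g * w⁻¹ * g⁻¹) := by group
          rw [e, ← mul_assoc, D.comm x w' hw' w hw, mul_assoc, h3 w' hw' _ h4, ← mul_assoc]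
      · exact ⟨one_mem _, fun w _ w' _ => by simp⟩
      · rintro g g' - - ⟨hg, h3⟩ ⟨hg', h4⟩
        refine ⟨mul_mem hg hg', fun w hw w' hw' => ?_⟩
        have e : w * (g * g') * w⁻¹ * (g * g')⁻¹ =
            (w * g * w⁻¹ * g⁻¹) * (g * (w * g' * w⁻¹ * g'⁻¹) * g⁻¹) := by group
        have e2 : g * (w * g' * w⁻¹ * g'⁻¹) * g⁻¹ = w * g' * w⁻¹ * g'⁻¹ := by
          rw [D.comm q g hg _ (hcm hw hg'), mul_inv_cancel_right]
        rw [e, e2, ← mul_assoc, h3 w hw w' hw', mul_assoc, h4 w hw w' hw', ← mul_assoc]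
      · rintro g - ⟨hg, h3⟩
        have : g⁻¹ = g := D.inv_eq hg
        rw [this]
        exact ⟨hg, h3⟩
    have hmul : ∀ {w w' g : G}, w ∈ W x → w' ∈ W x → g ∈ W q →
        w * w' * g * (w * w')⁻¹ * g⁻¹ = (w * g * w⁻¹ * g⁻¹) * (w' * g * w'⁻¹ * g⁻¹) := by
      intro w w' g hw hw' hg
      have e : w * w' * g * (w * w')⁻¹ * g⁻¹ =
          (w * (w' * g * w'⁻¹ * g⁻¹) * w⁻¹) * (w * g * w⁻¹ * g⁻¹) := by group
      rw [e, h72 g hg w' hw' w hw, mul_inv_cancel_right]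
      exact D.comm q _ (hcm hw' hg) _ (hcm hw hg)
    have hA : W x ≤ o2 (centralizer (V l : Set G)) :=
      D.low_line hcr.min ((Walk.one hxm hpm).trans hpc') (by norm_num) hc hcl
    have hcen : ∀ y, inc y l → y ≠ q → ∀ a ∈ W x, ∀ u ∈ W q, u ∈ W y → a * u = u * a := by
      intro y hy hyq a ha u hu huy
      exact hc a ha u (D.inf_le hql hy hcl hyq.symm ⟨hu, huy⟩)
    have hquad : ∀ a ∈ W x, ∀ b ∈ W x, ∀ u ∈ W q,
        b * (a * u * a⁻¹ * u⁻¹) = (a * u * a⁻¹ * u⁻¹) * b := fun a ha b hb u hu => h72 u hu a ha b hb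
    have hidx : (W q ⊓ W c).relIndex (W q) = t := D.index q c l hql hcl hcq.symm
    have hcl' : ∀ {w : G}, w ∈ W x → f * w = w * f → w ∈ W p := by
      intro w hw hfw
      refine hlow w hw ?_
      rw [D.W_smul_iff]
      have e : f⁻¹ * w * f = w := by rw [mul_assoc, ← hfw]; group
      rwa [e]
    -- `s t ≤ |W_x : C(f)|`
    let D₀ : Subgroup G := W x ⊓ centralizer {f}
    have hD₀ : ∀ a, a ∈ D₀ ↔ a ∈ W x ∧ f * a = a * f := by
      intro a
      rw [mem_inf, mem_centralizer_singleton_iff]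
      exact ⟨fun h => ⟨h.1, h.2.symm⟩, fun h => ⟨h.1, h.2.symm⟩⟩
    have hst : s * t ≤ D₀.relIndex (W x) := by
      have h1 : D₀ ≤ W x ⊓ W p := fun a ha =>
        ⟨((hD₀ a).1 ha).1, hcl' ((hD₀ a).1 ha).1 ((hD₀ a).1 ha).2⟩
      rw [← relIndex_mul_relIndex D₀ (W x ⊓ W p) (W x) h1 inf_le_left, D.index x p m hxm hpm hxp]
      refine Nat.mul_le_mul_right _ ?_
      rw [← D.card x]
      exact card_le_relIndex (le_inf (D.R_le_W x) ((D.R_le x m hxm).trans (D.V_le p m hpm)))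
        fun a ha ha' => hcomR hf hfx ha ((hD₀ a).1 ha').2
    have key : ∀ N C : Subgroup G, (∀ a, a ∈ N ↔ a ∈ W x ∧ ∀ u ∈ W q, a * u * a⁻¹ * u⁻¹ ∈ R q) →
        (∀ u, u ∈ C ↔ u ∈ W q ∧ ∀ a ∈ W x, a * u * a⁻¹ * u⁻¹ ∈ R q) →
        N.relIndex (W x) = t ∧ C.relIndex (W q) = t ∧ C ≤ W q ⊓ W c := by
      intro N C hN hC
      let D₁ : Subgroup G :=
        { carrier := {a | a ∈ W x ∧ a * f * a⁻¹ * f⁻¹ ∈ R q}
          one_mem' := ⟨one_mem _, by simp⟩
          mul_mem' := by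
            rintro a b ⟨ha, ha'⟩ ⟨hb, hb'⟩
            refine ⟨mul_mem ha hb, ?_⟩
            rw [hmul ha hb hf]
            exact mul_mem ha' hb'
          inv_mem' := by
            rintro a ⟨ha, ha'⟩
            have e : a⁻¹ = a := D.inv_eq ha
            rw [e]
            exact ⟨ha, ha'⟩ }
      have h01 : D₀ ≤ D₁ := by
        intro a ha
        obtain ⟨ha1, ha2⟩ := (hD₀ a).1 ha
        refine ⟨ha1, ?_⟩
        rw [comm_eq_one.2 ha2.symm]
        exact one_mem _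
      have hN1 : N ≤ D₁ := fun a ha => ⟨((hN a).1 ha).1, ((hN a).1 ha).2 f hf⟩
      have h2 : D₀.relIndex D₁ ≤ s := by
        rw [← D.card q]
        refine relIndex_le_card (fun a => a * f * a⁻¹ * f⁻¹) (fun a ha => ha.2)
          (fun a ha b hb => hmul ha.1 hb.1 hf) ?_
        intro a ha hfa
        rw [hD₀]
        exact ⟨ha.1, (comm_eq_one.1 hfa).symm⟩
      have h3 : D₀.relIndex D₁ * D₁.relIndex (W x) = D₀.relIndex (W x) :=
        relIndex_mul_relIndex _ _ _ h01 fun a ha => ha.1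
      have h4 : t ≤ D₁.relIndex (W x) := by
        have hs : 0 < s := by have := D.two_le; omega
        have h5 : s * t ≤ s * D₁.relIndex (W x) := by
          calc s * t ≤ D₀.relIndex (W x) := hst
            _ = D₀.relIndex D₁ * D₁.relIndex (W x) := h3.symm
            _ ≤ s * D₁.relIndex (W x) := Nat.mul_le_mul_right _ h2
        exact Nat.le_of_mul_le_mul_left h5 hs
      have h5 : t ≤ N.relIndex (W x) := h4.trans (relIndex_le_of_le_left hN1 (relIndex_ne_zero' _ _))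
      have h6 : N.relIndex (W x) ≤ C.relIndex (W q) :=
        hNO q l hql (W x) hA (D.comm x) (D.sq x) hcen hquad N C hN hC
      have hle : W q ⊓ W c ≤ C := by
        intro u hu
        rw [hC]
        refine ⟨hu.1, fun a ha => ?_⟩
        rw [comm_eq_one.2 (hc a ha u hu.2)]
        exact one_mem _
      have h7 : C.relIndex (W q) ≤ (W q ⊓ W c).relIndex (W q) :=
        relIndex_le_of_le_left hle (relIndex_ne_zero' _ _)
      refine ⟨by omega, by omega, le_of_relIndex_eq hle (fun u hu => ((hC u).1 hu).1) (by omega)⟩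
    have hX : Ex inc R W V q l (W x) := by
      refine ⟨hql, hA, D.comm x, D.sq x, hcen, hquad, ?_, fun N C hN hC => ?_⟩
      · by_contra hcon
        push Not at hcon
        obtain ⟨-, -, h5⟩ := key (W x) (W q) (fun a => ⟨fun ha => ⟨ha, hcon a ha⟩, fun ha => ha.1⟩)
          (fun u => ⟨fun hu => ⟨hu, fun a ha => hcon a ha u hu⟩, fun hu => hu.1⟩)
        exact hcr.ne fun a ha b hb => hcr.com_last (by norm_num) hpc a ha b (h5 hb).2
      · obtain ⟨h4, h5, -⟩ := key N C hN hC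
        rw [h4, h5]
    have hqR : ∀ a ∈ W q, ∀ c ∈ R q, a * c = c * a := fun a ha c hcc =>
      D.comm q a ha c (D.R_le_W q hcc)
    have hxR : ∀ a ∈ W x, ∀ c ∈ R q, a * c = c * a := fun a ha c hcc => hc a ha c (hRl hcc)
    refine hK.k2 q l _ hX c hcl hcq fun u hu hua => ?_
    refine ((key (cm (W x) (W q) (R q) hxR) (cm (W q) (W x) (R q) hqR) (fun a => mem_cm) fun u => ?_).2.2
      (mem_cm.2 ⟨hu, fun a ha => comm_inv_mem.1 (hua a ha)⟩)).2
    rw [mem_cm]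
    exact and_congr_right fun _ => forall₂_congr fun a _ => comm_inv_mem
  · -- (α)
    have hcx : Crit inc W 2 x c := ⟨(Walk.one hxm hpm).trans hpc', hc, hcr.min⟩
    refine hK.false_alpha D hxm hpm hxp.symm hpc'.symm (ExP.of_two D hNO hcx) fun a ha b hb => ?_
    have h3 := comm_mem D hcx (by norm_num) ha hb
    have h4 := comm_mem' D hcx (by norm_num) ha hb
    refine hlow _ h4 ?_
    rw [D.W_smul_iff]
    have h5 : f * (a * b * a⁻¹ * b⁻¹) = (a * b * a⁻¹ * b⁻¹) * f := hmin hql hcl f hf _ h3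
    have e : f⁻¹ * (a * b * a⁻¹ * b⁻¹) * f = a * b * a⁻¹ * b⁻¹ := by rw [mul_assoc, ← h5]; group
    rwa [e]

end mid

end Cfsg.Agent.Omega.NO3S.FarQ.Asm

end

section


/-!
# TEXT 263-Q, (4.0): the `G`-side

`Geom inc R W V s t` : points and lines (`NOThree/Pts.lean`); `p` a point, `M = W_p / R_p`, `H = C_G(R_p) / K_p`.

* `Real R W p ρ π` : `ρ : G → H` is multiplicative on `C_G(R_p)`, surjective, with kernel `K_p`; `π : G → M` is
  multiplicative on `W_p` with kernel `R_p`; `π (g w g⁻¹) = ρ g • π w`;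
* `Flag D ..` : a point `x₁ ≠ p` of a line `l` on `p`, a point `q` whose `W_q` centralises `R_p` and `W_{x₁}`, `K_p`
  transitive on the points `≠ p` of `l`; `V_l = R_p R_{x₁}`;
* `Real.cover` : every element of `⟨β^c : β ∈ ρ(W_q), c ∈ C_H(V_l / R_p)⟩` is induced by an element of `C_G(R_p)` which
  centralises `W_{x₁}`;
* **(4.0)** `Real.low` : `x = g x₁`, `f ∈ W_q`, `h` in the conjugate by `g` of this group, `g'` an element of `C_G(R_p)`
  which centralises the vectors over `w = g a`, `c = [w, f]`, but not those over `[c, h]` : `W_x ∩ W_{x^f} ≤ W_p`;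
* **(4.0)(iii)(b)** `Real.exists_mov`.
-/

set_option autoImplicit false

namespace Cfsg.Agent.Omega.NO3S.FarQ.Four

open Subgroup Cfsg Cfsg.Agent.ZN Cfsg.Agent.MinSimple.VModule Cfsg.Agent.Omega.NOThree.Pts

variable {G X L : Type*} [Group G] [MulAction G X] [MulAction G L]
variable {inc : X → L → Prop} {R W : X → Subgroup G} {V : L → Subgroup G} {s t n : ℕ}
variable {H M : Type*} [Group H] [CommGroup M] [MulDistribMulAction H M]

/-- The action of `C_G(R_p)` on `W_p / R_p`. -/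
structure Real (R W : X → Subgroup G) (p : X) (ρ : G → H) (π : G → M) : Prop where
  mul : ∀ g ∈ centralizer (R p : Set G), ∀ h ∈ centralizer (R p : Set G), ρ (g * h) = ρ g * ρ h
  surj : ∀ x : H, ∃ g ∈ centralizer (R p : Set G), ρ g = x
  ker : ∀ g ∈ centralizer (R p : Set G), ρ g = 1 ↔ ∀ w ∈ W p, g * w * g⁻¹ * w⁻¹ ∈ R p
  pmul : ∀ v ∈ W p, ∀ w ∈ W p, π (v * w) = π v * π w
  psurj : ∀ m : M, ∃ w ∈ W p, π w = m
  pker : ∀ w ∈ W p, π w = 1 ↔ w ∈ R p
  act : ∀ g ∈ centralizer (R p : Set G), ∀ w ∈ W p, π (g * w * g⁻¹) = ρ g • π w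

/-- The line `l` with its points `p`, `x₁` and the group `W_q`. -/
structure Flag (inc : X → L → Prop) (R W : X → Subgroup G) (V : L → Subgroup G) (p x₁ q : X) (l : L) : Prop where
  pl : inc p l
  xl : inc x₁ l
  ne : x₁ ≠ p
  cen : ∀ f ∈ W q, f ∈ centralizer (R p : Set G)
  com : ∀ f ∈ W q, ∀ w ∈ W x₁, f * w = w * f
  line : ∀ v ∈ V l, ∃ r ∈ R p, ∃ r' ∈ R x₁, v = r * r'
  tr : ∀ y, inc y l → y ≠ p → ∃ k ∈ centralizer (R p : Set G), (∀ w ∈ W p, k * w * k⁻¹ * w⁻¹ ∈ R p) ∧ k • y = x₁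

/-- `R_x ≤ W_p` for `x` on a line on `p`. -/
theorem R_le_Wp (D : Geom inc R W V s t) {p x : X} {m : L} (hx : inc x m) (hp : inc p m) : R x ≤ W p :=
  (D.R_le x m hx).trans (D.V_le p m hp)

/-- The image `lam` of `V_l`. -/
def Lam (π : G → M) (V : L → Subgroup G) (l : L) : Set M := π '' (V l : Set G)

theorem fix_p (D : Geom inc R W V s t) {p : X} {g : G} (hg : g ∈ centralizer (R p : Set G)) : g • p = p :=
  D.fix_of_centralizes fun a ha => (mem_centralizer_iff.1 hg a ha).symm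

theorem norm_p (D : Geom inc R W V s t) {p : X} {g w : G} (hg : g ∈ centralizer (R p : Set G)) (hw : w ∈ W p) :
    g * w * g⁻¹ ∈ W p :=
  D.norm_W (fix_p D hg) hw

namespace Real

variable {p : X} {ρ : G → H} {π : G → M} (Re : Real R W p ρ π)
include Re

theorem one : ρ 1 = 1 := by
  have h := Re.mul 1 (one_mem _) 1 (one_mem _)
  rw [mul_one] at h
  exact left_eq_mul.1 h

theorem inv {g : G} (hg : g ∈ centralizer (R p : Set G)) : ρ g⁻¹ = (ρ g)⁻¹ := by
  have h := Re.mul g hg g⁻¹ (inv_mem hg)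
  rw [mul_inv_cancel, Re.one] at h
  exact (inv_eq_of_mul_eq_one_right h.symm).symm

theorem conj {g h : G} (hg : g ∈ centralizer (R p : Set G)) (hh : h ∈ centralizer (R p : Set G)) :
    ρ (g * h * g⁻¹) = ρ g * ρ h * (ρ g)⁻¹ := by
  rw [Re.mul _ (mul_mem hg hh) _ (inv_mem hg), Re.mul g hg h hh, Re.inv hg]

variable (D : Geom inc R W V s t)
include D

variable {x₁ q : X} {l : L} (F : Flag inc R W V p x₁ q l)
include F

/-- A vector of `lam` is the image of an element of `R_{x₁}`. -/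
theorem exists_lift {a : M} (ha : a ∈ Lam π V l) : ∃ r ∈ R x₁, π r = a := by
  obtain ⟨v, hv, rfl⟩ := ha
  obtain ⟨r, hr, r', hr', rfl⟩ := F.line v hv
  refine ⟨r', hr', ?_⟩
  have h1 := D.R_le_W p hr
  have h2 := R_le_Wp D F.xl F.pl hr'
  rw [Re.pmul _ h1 _ h2, (Re.pker r h1).2 hr, one_mul]

/-- An element of `C_G(R_p)` inducing `c ∈ C_H(lam)` can be corrected by `K_p` to fix `x₁`. -/
theorem exists_fix {c : H} (hc : ∀ a ∈ Lam π V l, c • a = a) :
    ∃ g ∈ centralizer (R p : Set G), ρ g = c ∧ g • x₁ = x₁ := by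
  obtain ⟨g, hg, rfl⟩ := Re.surj c
  obtain ⟨a, ha, ha1⟩ := D.exists_ne x₁
  have haW := R_le_Wp D F.xl F.pl ha
  have haV := D.R_le x₁ l F.xl ha
  -- `g a g⁻¹ a⁻¹ ∈ R_p`
  have h1 : g * a * g⁻¹ * a⁻¹ ∈ R p := by
    have h2 := norm_p D hg haW
    refine (Re.pker _ (mul_mem h2 (inv_mem haW))).1 ?_
    have h3 := Re.pmul a haW a⁻¹ (inv_mem haW)
    rw [mul_inv_cancel, (Re.pker 1 (one_mem _)).2 (one_mem _)] at h3
    rw [Re.pmul _ h2 _ (inv_mem haW), Re.act g hg a haW, hc _ ⟨a, haV, rfl⟩, ← h3]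
  have h2 : g * a * g⁻¹ ∈ V l := by
    have h3 := mul_mem (D.R_le p l F.pl h1) haV
    rwa [inv_mul_cancel_right] at h3
  obtain ⟨y, hy, hay⟩ := D.cover l _ h2
  have h3 : g • x₁ = y := D.ti _ _ _ (D.R_smul g x₁ a ha) hay fun h0 => ha1 (conj_eq_one_iff.1 h0)
  have hyp : y ≠ p := by
    rintro rfl
    apply F.ne
    have h4 : g • x₁ = g • y := by rw [h3, fix_p D hg]
    exact smul_left_cancel g h4
  obtain ⟨k, hk, hk1, hk2⟩ := F.tr y hy hyp
  refine ⟨k * g, mul_mem hk hg, ?_, by rw [mul_smul, h3, hk2]⟩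
  rw [Re.mul k hk g hg, (Re.ker k hk).2 hk1, one_mul]

/-- **The group `Om_{x₁}`**: elements of `⟨β^c⟩` are induced by elements centralising `W_{x₁}`. -/
theorem cover {h : H} (hh : h ∈ Subgroup.closure {h : H | ∃ f ∈ W q, ∃ c : H, (∀ a ∈ Lam π V l, c • a = a) ∧
    h = c * ρ f * c⁻¹}) : ∃ o ∈ centralizer (R p : Set G), ρ o = h ∧ ∀ w ∈ W x₁, o * w = w * o := by
  refine Subgroup.closure_induction (p := fun h _ => ∃ o ∈ centralizer (R p : Set G), ρ o = h ∧
    ∀ w ∈ W x₁, o * w = w * o) ?_ ?_ ?_ ?_ hh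
  · rintro _ ⟨f, hf, c, hc, rfl⟩
    obtain ⟨g, hg, rfl, hgx⟩ := Re.exists_fix D F hc
    refine ⟨g * f * g⁻¹, mul_mem (mul_mem hg (F.cen f hf)) (inv_mem hg), Re.conj hg (F.cen f hf), fun w hw => ?_⟩
    have h1 : g⁻¹ * w * g ∈ W x₁ := by
      rw [← D.W_smul_iff, hgx]
      exact hw
    have h2 := F.com f hf _ h1
    calc g * f * g⁻¹ * w = g * (f * (g⁻¹ * w * g)) * g⁻¹ := by group
      _ = g * ((g⁻¹ * w * g) * f) * g⁻¹ := by rw [h2]
      _ = w * (g * f * g⁻¹) := by group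
  · exact ⟨1, one_mem _, Re.one, fun w _ => by rw [one_mul, mul_one]⟩
  · rintro _ _ _ _ ⟨o, ho, rfl, h1⟩ ⟨o', ho', rfl, h2⟩
    refine ⟨o * o', mul_mem ho ho', Re.mul o ho o' ho', fun w hw => ?_⟩
    rw [mul_assoc, h2 w hw, ← mul_assoc, h1 w hw, mul_assoc]
  · rintro _ _ ⟨o, ho, rfl, h1⟩
    refine ⟨o⁻¹, inv_mem ho, Re.inv ho, fun w hw => ?_⟩
    have h2 := h1 w hw
    calc o⁻¹ * w = o⁻¹ * (w * o) * o⁻¹ := by group
      _ = o⁻¹ * (o * w) * o⁻¹ := by rw [h2]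
      _ = w * o⁻¹ := by group

/-- **(4.0)** : `D = W_x ∩ W_{x^f} ≤ W_p` for `x = g x₁`. `g'` centralises the vectors over `w = ρ(g) a` and over
`c = (ρ(f) w) w⁻¹`, but not those over `(h c) c⁻¹`. -/
theorem low {a : M} (ha : a ∈ Lam π V l) (ha1 : a ≠ 1) {g f : G} (hg : g ∈ centralizer (R p : Set G))
    (hf : f ∈ W q) {h : H} (hh : (ρ g)⁻¹ * h * ρ g ∈ Subgroup.closure {h : H | ∃ f ∈ W q, ∃ c : H,
      (∀ a ∈ Lam π V l, c • a = a) ∧ h = c * ρ f * c⁻¹})
    {w c : M} (hw : w = ρ g • a) (hc : c = (ρ f • w) * w⁻¹) {g' : G} (hg' : g' ∈ centralizer (R p : Set G))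
    (h1 : ∀ u ∈ W p, π u = w → g' * u = u * g') (h2 : ∀ u ∈ W p, π u = c → g' * u = u * g')
    (h3 : ∀ u ∈ W p, π u = (h • c) * c⁻¹ → g' * u * g'⁻¹ * u⁻¹ ∈ R p ∧ g' * u ≠ u * g') :
    inc (g • x₁) (g • l) ∧ inc p (g • l) ∧ g • x₁ ≠ p ∧
      W (g • x₁) ⊓ W (f • g • x₁) ≤ W p := by
  obtain ⟨r, hr, hra⟩ := Re.exists_lift D F ha
  have hr1 : r ≠ 1 := by
    rintro rfl
    exact ha1 (by rw [← hra, (Re.pker 1 (one_mem _)).2 (one_mem _)])
  have hgp := fix_p D hg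
  have hfp := fix_p D (F.cen f hf)
  have i1 : inc (g • x₁) (g • l) := D.inc_smul g _ _ F.xl
  have i2 : inc p (g • l) := by
    have := D.inc_smul g _ _ F.pl
    rwa [hgp] at this
  have hne : g • x₁ ≠ p := by
    intro h0
    apply F.ne
    have h4 : g • x₁ = g • p := by rw [h0, hgp]
    exact smul_left_cancel g h4
  refine ⟨i1, i2, hne, ?_⟩
  -- the vectors
  have hrW := R_le_Wp D F.xl F.pl hr
  set u := g * r * g⁻¹ with hu
  have huR : u ∈ R (g • x₁) := D.R_smul g x₁ r hr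
  have huW : u ∈ W p := R_le_Wp D i1 i2 huR
  have hu1 : u ≠ 1 := fun h0 => hr1 (conj_eq_one_iff.1 h0)
  have huπ : π u = w := by rw [hu, Re.act g hg r hrW, hra, hw]
  set u' := f * u * f⁻¹ with hu'
  have hu'R : u' ∈ R (f • g • x₁) := D.R_smul f _ u huR
  have hu'W : u' ∈ W p := norm_p D (F.cen f hf) huW
  have hu'π : π u' = ρ f • w := by rw [hu', Re.act f (F.cen f hf) u huW, huπ]
  have hd : u' * u⁻¹ ∈ W p := mul_mem hu'W (inv_mem huW)
  have hinv : ∀ {v : G}, v ∈ W p → π v⁻¹ = (π v)⁻¹ := by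
    intro v hv
    have h4 := Re.pmul v hv v⁻¹ (inv_mem hv)
    rw [mul_inv_cancel, (Re.pker 1 (one_mem _)).2 (one_mem _)] at h4
    exact (inv_eq_of_mul_eq_one_right h4.symm).symm
  have hdπ : π (u' * u⁻¹) = c := by rw [Re.pmul _ hu'W _ (inv_mem huW), hinv huW, hu'π, huπ, hc]
  -- `g'` fixes `x` and `x^f`
  have k1 : g' * u = u * g' := h1 u huW huπ
  have k2 : g' * (u' * u⁻¹) = u' * u⁻¹ * g' := h2 _ hd hdπ
  have k3 : g' * u' = u' * g' := by
    calc g' * u' = g' * (u' * u⁻¹) * u := by group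
      _ = u' * u⁻¹ * (g' * u) := by rw [k2]; group
      _ = u' * g' := by rw [k1]; group
  have f1 : g' • g • x₁ = g • x₁ := D.fix huR hu1 k1
  have hu'1 : u' ≠ 1 := fun h0 => hu1 (conj_eq_one_iff.1 h0)
  have f2 : g' • f • g • x₁ = f • g • x₁ := D.fix hu'R hu'1 k3
  -- the lift of `h`
  obtain ⟨o, ho, hoρ, hoc⟩ := Re.cover D F hh
  set o' := g * o * g⁻¹ with ho'
  have ho'C : o' ∈ centralizer (R p : Set G) := mul_mem (mul_mem hg ho) (inv_mem hg)
  have ho'ρ : ρ o' = h := by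
    rw [ho', Re.conj hg ho, hoρ]
    group
  have ho'c : ∀ v ∈ W (g • x₁), o' * v = v * o' := by
    intro v hv
    have h4 := hoc _ ((D.W_smul_iff g).1 hv)
    calc o' * v = g * (o * (g⁻¹ * v * g)) * g⁻¹ := by rw [ho']; group
      _ = g * ((g⁻¹ * v * g) * o) * g⁻¹ := by rw [h4]
      _ = v * o' := by rw [ho']; group
  -- `s = o' f x`
  set y := o' • f • g • x₁ with hy
  set l' := o' • f • g • l with hl'
  have j1 : inc y l' := D.inc_smul _ _ _ (D.inc_smul _ _ _ i1)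
  have j2 : inc p l' := by
    have h4 := D.inc_smul o' _ _ (D.inc_smul f _ _ i2)
    rwa [hfp, fix_p D ho'C] at h4
  have hyp : y ≠ p := by
    intro h0
    apply hne
    have h4 : o' • f • g • x₁ = o' • f • p := by rw [← hy, h0, hfp, fix_p D ho'C]
    exact smul_left_cancel _ (smul_left_cancel _ h4)
  set v := o' * u' * o'⁻¹ with hv
  have hvR : v ∈ R y := D.R_smul o' _ u' hu'R
  have hvW : v ∈ W p := R_le_Wp D j1 j2 hvR
  have hv1 : v ≠ 1 := fun h0 => hu'1 (conj_eq_one_iff.1 h0)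
  -- `v = v₀ (u' u⁻¹) u` with `π v₀ = (h c) c⁻¹`
  have e1 : v = (o' * (u' * u⁻¹) * o'⁻¹ * (u' * u⁻¹)⁻¹) * (u' * u⁻¹) * u := by
    have h4 := ho'c u (D.R_le_W _ huR)
    have h5 : o' * u * o'⁻¹ = u := by rw [h4]; group
    calc v = o' * (u' * u⁻¹) * o'⁻¹ * (o' * u * o'⁻¹) := by rw [hv]; group
      _ = o' * (u' * u⁻¹) * o'⁻¹ * u := by rw [h5]
      _ = _ := by group
  set v₀ := o' * (u' * u⁻¹) * o'⁻¹ * (u' * u⁻¹)⁻¹ with hv₀
  have hn0 : o' * (u' * u⁻¹) * o'⁻¹ ∈ W p := norm_p D ho'C hd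
  have hv₀W : v₀ ∈ W p := mul_mem hn0 (inv_mem hd)
  have hv₀π : π v₀ = (h • c) * c⁻¹ := by
    rw [hv₀, Re.pmul _ hn0 _ (inv_mem hd), hinv hd, Re.act o' ho'C _ hd, hdπ, ho'ρ]
  obtain ⟨m1, m2⟩ := h3 v₀ hv₀W hv₀π
  -- `g' v g'⁻¹ = r₀ v`
  set r₀ := g' * v₀ * g'⁻¹ * v₀⁻¹ with hr₀
  have e2 : g' * v * g'⁻¹ = r₀ * v := by
    calc g' * v * g'⁻¹ = (g' * v₀ * g'⁻¹) * (g' * (u' * u⁻¹) * g'⁻¹) * (g' * u * g'⁻¹) := by rw [e1]; group
      _ = (g' * v₀ * g'⁻¹) * (u' * u⁻¹) * u := by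
          have h4 : g' * (u' * u⁻¹) * g'⁻¹ = u' * u⁻¹ := by rw [k2]; group
          have h5 : g' * u * g'⁻¹ = u := by rw [k1]; group
          rw [h4, h5]
      _ = r₀ * v := by rw [e1, hr₀]; group
  have hr₀1 : r₀ ≠ 1 := by
    intro h0
    apply m2
    have h4 : g' * v₀ * g'⁻¹ = v₀ := mul_inv_eq_one.1 h0
    calc g' * v₀ = g' * v₀ * g'⁻¹ * g' := by group
      _ = v₀ * g' := by rw [h4]
  have hgv : g' * v * g'⁻¹ ∈ V l' := by
    rw [e2]
    exact mul_mem (D.R_le p l' j2 m1) (D.R_le y l' j1 hvR)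
  obtain ⟨y', hy', hvy'⟩ := D.cover l' _ hgv
  have hgy : g' • y = y' := D.ti _ _ _ (D.R_smul g' y v hvR) hvy' fun h0 => hv1 (conj_eq_one_iff.1 h0)
  have hyy' : y ≠ y' := by
    rintro rfl
    rw [e2] at hvy'
    have h4 : r₀ ∈ R y := by
      have h5 := mul_mem hvy' (inv_mem hvR)
      rwa [mul_inv_cancel_right] at h5
    exact hyp (D.ti _ _ _ h4 m1 hr₀1)
  intro b hb
  have hb1 : b ∈ W y := by
    rw [hy, D.W_smul_iff]
    have h4 := ho'c b hb.1
    have e3 : o'⁻¹ * b * o' = b := by rw [mul_assoc, ← h4]; group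
    rw [e3]
    exact hb.2
  have hb2 : b ∈ W y' := by
    rw [← hgy, D.W_smul_iff]
    have h4 : g'⁻¹ * b * g' ∈ W (g • x₁) := by
      rw [← D.W_smul_iff, f1]
      exact hb.1
    have h5 : g'⁻¹ * b * g' ∈ W (f • g • x₁) := by
      rw [← D.W_smul_iff, f2]
      exact hb.2
    rw [hy, D.W_smul_iff]
    have h6 := ho'c _ h4
    have e3 : o'⁻¹ * (g'⁻¹ * b * g') * o' = g'⁻¹ * b * g' := by rw [mul_assoc, ← h6]; group
    rw [e3]
    exact h5
  exact D.inf_le j1 hy' j2 hyy' ⟨hb1, hb2⟩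

omit F in
/-- `[w, f] ≠ 1` gives `f x ≠ x`. -/
theorem moved {x : X} {m : L} (hx : inc x m) (hp : inc p m) {f u : G} (hu : u ∈ R x)
    (hf : f ∈ centralizer (R p : Set G)) (hne : ρ f • π u ≠ π u) (hxp : x ≠ p)
    (hcl : ∀ k : G, k • x = x → k ∈ centralizer (R p : Set G) → ∀ u ∈ R x, k * u * k⁻¹ * u⁻¹ ∈ R p) :
    f • x ≠ x := by
  intro h0
  apply hne
  have huW := R_le_Wp D hx hp hu
  have h1 := hcl f h0 hf u hu
  have h2 : f * u * f⁻¹ ∈ R x := D.norm_R h0 hu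
  have h3 : f * u * f⁻¹ * u⁻¹ = 1 := by
    by_contra h4
    exact hxp (D.ti _ _ _ (mul_mem h2 (inv_mem hu)) h1 h4)
  rw [← Re.act f hf u huW, mul_inv_eq_one.1 h3]

end Real

/-! ### (4.0)(iii)(b) -/

namespace Real

variable {p q : X} {ρ : G → H} {π : G → M} (Re : Real R W p ρ π) (D : Geom inc R W V s t)
include Re D

/-- The elements of `J = ⟨β^j : β ∈ ρ(W_q), j ∈ J⟩` are induced by elements centralising the preimage of `C_M(J)`. -/
theorem cover' {J : Subgroup H} (hq : ∀ f ∈ W q, f ∈ centralizer (R p : Set G))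
    (hex : ∀ u ∈ W p, (∀ f ∈ W q, ρ f • π u = π u) → ∀ f ∈ W q, f * u = u * f)
    (hqJ : ∀ f ∈ W q, ρ f ∈ J) {j : H}
    (hj : j ∈ Subgroup.closure {h : H | ∃ f ∈ W q, ∃ c ∈ J, h = c * ρ f * c⁻¹}) :
    ∃ o ∈ centralizer (R p : Set G), ρ o = j ∧
      ∀ u ∈ W p, (∀ i ∈ J, i • π u = π u) → o * u = u * o := by
  refine Subgroup.closure_induction (p := fun j _ => ∃ o ∈ centralizer (R p : Set G), ρ o = j ∧
      ∀ u ∈ W p, (∀ i ∈ J, i • π u = π u) → o * u = u * o) ?_ ?_ ?_ ?_ hj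
  · rintro _ ⟨f, hf, c, hc, rfl⟩
    obtain ⟨g, hg, rfl⟩ := Re.surj c
    refine ⟨g * f * g⁻¹, mul_mem (mul_mem hg (hq f hf)) (inv_mem hg), Re.conj hg (hq f hf), fun u hu h1 => ?_⟩
    have hg' : g⁻¹ * u * g ∈ W p := by
      have := norm_p D (inv_mem hg) hu
      rwa [inv_inv] at this
    have h2 : π (g⁻¹ * u * g) = π u := by
      have h3 := Re.act g⁻¹ (inv_mem hg) u hu
      rw [inv_inv, Re.inv hg] at h3
      rw [h3]
      exact h1 _ (inv_mem hc)
    have h4 := hex _ hg' (fun f' hf' => by rw [h2]; exact h1 _ (hqJ f' hf')) f hf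
    calc g * f * g⁻¹ * u = g * (f * (g⁻¹ * u * g)) * g⁻¹ := by group
      _ = g * ((g⁻¹ * u * g) * f) * g⁻¹ := by rw [h4]
      _ = u * (g * f * g⁻¹) := by group
  · exact ⟨1, one_mem _, Re.one, fun u _ _ => by rw [one_mul, mul_one]⟩
  · rintro _ _ _ _ ⟨o, ho, rfl, h1⟩ ⟨o', ho', rfl, h2⟩
    refine ⟨o * o', mul_mem ho ho', Re.mul o ho o' ho', fun u hu h3 => ?_⟩
    rw [mul_assoc, h2 u hu h3, ← mul_assoc, h1 u hu h3, mul_assoc]
  · rintro _ _ ⟨o, ho, rfl, h1⟩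
    refine ⟨o⁻¹, inv_mem ho, Re.inv ho, fun u hu h3 => ?_⟩
    have h2 := h1 u hu h3
    calc o⁻¹ * u = o⁻¹ * (u * o) * o⁻¹ := by group
      _ = o⁻¹ * (o * u) * o⁻¹ := by rw [h2]
      _ = u * o⁻¹ := by group

/-- **(4.0)(iii)(b)** : if `u₀ ∈ W_p - R_p` lies over a vector fixed by `J` and every element of `T` is congruent to an
element acting trivially on `E` modulo `J`, then some `g₁ ∈ C_G(R_p)` acts trivially on `E` and does not centralise `u₀`. -/
theorem exists_mov {J : Subgroup H} (hq : ∀ f ∈ W q, f ∈ centralizer (R p : Set G))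
    (hex : ∀ u ∈ W p, (∀ f ∈ W q, ρ f • π u = π u) → ∀ f ∈ W q, f * u = u * f)
    (hqJ : ∀ f ∈ W q, ρ f ∈ J)
    (hgen : J ≤ Subgroup.closure {h : H | ∃ f ∈ W q, ∃ c ∈ J, h = c * ρ f * c⁻¹})
    {T : Subgroup G} (hT : T ≤ centralizer (R p : Set G))
    (hTW : ∀ u ∈ W p, (∀ g ∈ T, g * u = u * g) → u ∈ R p) {E : Set M}
    (hE : ∀ g ∈ T, ∃ j ∈ J, ∀ e ∈ E, (ρ g * j⁻¹) • e = e)
    {u₀ : G} (hu₀ : u₀ ∈ W p) (hu₀' : u₀ ∉ R p) (hJ : ∀ i ∈ J, i • π u₀ = π u₀) :
    ∃ g₁ ∈ centralizer (R p : Set G), (∀ e ∈ E, ρ g₁ • e = e) ∧ g₁ * u₀ ≠ u₀ * g₁ := by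
  obtain ⟨g, hg, hgu⟩ : ∃ g ∈ T, g * u₀ ≠ u₀ * g := by
    by_contra hcon
    push Not at hcon
    exact hu₀' (hTW u₀ hu₀ hcon)
  obtain ⟨j, hj, hjE⟩ := hE g hg
  obtain ⟨o, ho, rfl, hou⟩ := Re.cover' D hq hex hqJ (hgen hj)
  refine ⟨g * o⁻¹, mul_mem (hT hg) (inv_mem ho), fun e he => ?_, fun h0 => hgu ?_⟩
  · rw [Re.mul g (hT hg) _ (inv_mem ho), Re.inv ho]
    exact hjE e he
  · have h1 := hou u₀ hu₀ hJ
    have h2 : o⁻¹ * u₀ = u₀ * o⁻¹ := by
      calc o⁻¹ * u₀ = o⁻¹ * (u₀ * o) * o⁻¹ := by group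
        _ = o⁻¹ * (o * u₀) * o⁻¹ := by rw [h1]
        _ = u₀ * o⁻¹ := by group
    calc g * u₀ = g * (u₀ * o⁻¹) * o := by group
      _ = g * (o⁻¹ * u₀) * o := by rw [h2]
      _ = (g * o⁻¹ * u₀) * o := by group
      _ = (u₀ * (g * o⁻¹)) * o := by rw [h0]
      _ = u₀ * g := by group

end Real

end Cfsg.Agent.Omega.NO3S.FarQ.Four

end

section


/-!
# NO-3S, natural lines: the instance of `NOThree.Pts.Geom`

`Pt Z` : the conjugates of `Z` with the conjugation action; points `Pt Z`, lines `Pt V`, incidence is inclusion.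

* `geom` : `PL S P V Z`, (F1) `¬ kx V Z ≤ C_G(V)` and `OmQ S V` give `Pts.Geom`;
* `crit` : a critical pair of `NoFF.Lines` for `C = N_G(Z)` is a critical pair of `NOThree.Pts`.
-/

set_option autoImplicit false
set_option linter.unusedSectionVars false
set_option linter.unusedVariables false

namespace Cfsg.Agent.Omega.NO3S.PtGeom

open Subgroup Cfsg.Agent.Omega.NoFF.Basic Cfsg.Agent.Omega.NO3S.PT Cfsg.Agent.Omega.NOThree.Pts
open scoped Pointwise

variable {G : Type*} [Group G]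

/-- The conjugates of `Z`. -/
def Pt (Z : Subgroup G) : Type _ := {X : Subgroup G // IsCj Z X}

namespace Pt

variable {Z : Subgroup G}

/-- the subgroup -/
def sg (x : Pt Z) : Subgroup G := x.1

theorem isCj (x : Pt Z) : IsCj Z x.sg := x.2

theorem ext {x y : Pt Z} (h : x.sg = y.sg) : x = y := Subtype.ext h

theorem sg_inj {x y : Pt Z} : x.sg = y.sg ↔ x = y := ⟨ext, fun h => h ▸ rfl⟩

/-- a conjugate of `Z` as an element of `Pt Z` -/
def mk {X : Subgroup G} (h : IsCj Z X) : Pt Z := ⟨X, h⟩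

@[simp] theorem sg_mk {X : Subgroup G} (h : IsCj Z X) : (mk h).sg = X := rfl

instance : MulAction G (Pt Z) where
  smul g x := ⟨cj g x.1, x.2.cj g⟩
  one_smul x := Subtype.ext (cj_one _)
  mul_smul g h x := Subtype.ext (cj_cj g h _).symm

@[simp] theorem sg_smul (g : G) (x : Pt Z) : (g • x).sg = cj g x.sg := rfl

/-- `Z` itself -/
def base (Z : Subgroup G) : Pt Z := ⟨Z, 1, (cj_one Z).symm⟩

@[simp] theorem sg_base : (base Z).sg = Z := rfl

theorem exists_smul (x : Pt Z) : ∃ g : G, x = g • base Z := by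
  obtain ⟨g, hg⟩ := x.2
  exact ⟨g, Subtype.ext hg⟩

end Pt

/-- incidence -/
def inc {Z V : Subgroup G} (x : Pt Z) (l : Pt V) : Prop := x.sg ≤ l.sg

section

variable [Finite G] {S : Sylow 2 G} {P V Z : Subgroup G}

theorem omQ_conj (hO : OmQ S V) (g : G) : OmQ (g • S) (cj g V) := by
  intro y hy hyV hyy hc
  rw [coe_smul, mem_cj] at hy
  rw [← cj_centralizer, mem_cj] at hyV
  rw [mem_cj]
  refine hO _ hy hyV ?_ fun s hs hsV => ?_
  · have := congrArg (fun t => g⁻¹ * t * g) hyy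
    simpa [mul_assoc] using this
  · have h1 := hc (g * s * g⁻¹) (by rw [coe_smul]; exact conj_mem_cj hs)
      (by rw [← cj_centralizer]; exact conj_mem_cj hsV)
    have h2 := congrArg (fun t => g⁻¹ * t * g) h1
    simpa [mul_assoc] using h2

theorem hf_conj (hf : ¬ kx V Z ≤ centralizer (V : Set G)) (g : G) :
    ¬ kx (cj g V) (cj g Z) ≤ centralizer ((cj g V : Subgroup G) : Set G) := by
  rw [kx_cj_left, kx_cj, ← cj_centralizer, cj_le_cj]
  exact hf

end

section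

variable [Finite G] {S : Sylow 2 G} {P V Z : Subgroup G} (h : PL S P V Z)
include h

/-- every flag is conjugate to `(Z, V)` -/
theorem exists_conj_flag {X L : Subgroup G} (hX : IsCj Z X) (hL : IsCj V L) (hXL : X ≤ L) :
    ∃ g : G, X = cj g Z ∧ L = cj g V := by
  obtain ⟨g, rfl⟩ := hL
  obtain ⟨p, hp, hXp⟩ := h.exists_pt (hX.cj g⁻¹) (by rw [cj_le_iff, inv_inv]; exact hXL)
  refine ⟨g * p, ?_, ?_⟩
  · rw [← cj_cj, ← hXp, cj_cj, mul_inv_cancel, cj_one]
  · rw [← cj_cj, cj_eq_iff.2 (h.PN hp)]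

theorem ws_sq_pt {X : Subgroup G} (hX : IsCj Z X) : ∀ a ∈ ws V X, a * a = 1 := by
  obtain ⟨g, rfl⟩ := hX
  have := (h.conj g).ws_sq
  rwa [ws_cj_left] at this

/-- `(F1)` -/
theorem inf_eq (hf : ¬ kx V Z ≤ centralizer (V : Set G)) {X Y L : Subgroup G} (hL : IsCj V L)
    (hX : IsCj Z X) (hXL : X ≤ L) (hY : IsCj Z Y) (hYL : Y ≤ L) (hne : X ≠ Y) :
    ws V X ⊓ ws V Y = IV L X := by
  obtain ⟨g, rfl, rfl⟩ := exists_conj_flag h hX hL hXL
  have h1 := (h.conj g).IV_eq (hf_conj hf g) (X := cj g Z) (Y := Y) ⟨1, (cj_one _).symm⟩ hXL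
    (isCj_cj.2 hY) hYL hne
  rwa [ws_cj_left, ws_cj_left] at h1

theorem IV_conj (hf : ¬ kx V Z ≤ centralizer (V : Set G)) (g : G) : IV (cj g V) (cj g Z) = cj g (IV V Z) := by
  obtain ⟨Y, hY, hYV, hne⟩ := h.exists_second h.isCj_self h.ZV
  rw [← h.IV_eq hf h.isCj_self h.ZV hY hYV hne.symm, cj_inf, ← ws_cj, ← ws_cj]
  exact (inf_eq h hf (L := cj g V) ⟨g, rfl⟩ (h.isCj_self.cj g) (cj_le_cj.2 h.ZV) (hY.cj g) (cj_le_cj.2 hYV)
    (fun e => hne (cj_inj.1 e).symm)).symm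

/-- **The instance.** -/
theorem geom (hf : ¬ kx V Z ≤ centralizer (V : Set G)) (hO : OmQ S V) :
    Geom (X := Pt Z) (L := Pt V) inc (fun x => x.sg) (fun x => ws V x.sg) (fun l => l.sg) (Nat.card Z)
      ((IV V Z).relIndex (ws V Z)) where
  inc_smul g x l hxl := cj_le_cj.2 hxl
  R_smul g x a ha := conj_mem_cj ha
  W_smul g x a ha := by
    rw [Pt.sg_smul, ws_cj]
    exact conj_mem_cj ha
  V_smul g l a ha := conj_mem_cj ha
  two_le := h.one_lt_card
  card x := h.card_pt x.isCj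
  ti x y a ha ha' h1 := Pt.ext (h.pts_eq x.isCj y.isCj ha ha' h1)
  R_le x l hxl := hxl
  V_le x l hxl := le_ws l.isCj hxl
  W_le x A hA := ws_le fun L hL hXL => hA (Pt.mk hL) hXL
  cover l a ha := by
    obtain ⟨g, hg⟩ := l.exists_smul
    have hl : l.sg = cj g V := by rw [hg]; rfl
    by_cases ha1 : a = 1
    · refine ⟨Pt.mk (h.isCj_self.cj g), ?_, ?_⟩
      · show cj g Z ≤ l.sg
        rw [hl]
        exact cj_le_cj.2 h.ZV
      · rw [ha1]; exact one_mem _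
    · rw [hl] at ha
      obtain ⟨X, hX, hXV, haX⟩ := (h.conj g).exists_point ha ha1
      exact ⟨Pt.mk (isCj_cj.1 hX), by rw [← hl] at hXV; exact hXV, haX⟩
  exists_line x := by
    obtain ⟨g, hg⟩ := x.exists_smul
    refine ⟨Pt.mk ⟨g, rfl⟩, ?_⟩
    show x.sg ≤ cj g V
    rw [hg]
    exact cj_le_cj.2 h.ZV
  comm x a ha b hb := (mem_centralizer_iff.1 (h.ws_comm x.isCj ha) b hb).symm
  sq x := ws_sq_pt h x.isCj
  F1 x y z l hx hy hz hxy hxz := by
    rw [inf_eq h hf l.isCj x.isCj hx y.isCj hy (fun e => hxy (Pt.ext e)),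
      inf_eq h hf l.isCj x.isCj hx z.isCj hz (fun e => hxz (Pt.ext e))]
  index x y l hx hy hxy := by
    rw [inf_eq h hf l.isCj x.isCj hx y.isCj hy (fun e => hxy (Pt.ext e))]
    obtain ⟨g, h1, h2⟩ := exists_conj_flag h x.isCj l.isCj hx
    rw [h1, h2, IV_conj h hf, ws_cj]
    exact relIndex_pointwise_smul _ _ _
  F2 x y z l hx hy hz hxy u hu hu' huV := by
    obtain ⟨g, h1, h2⟩ := exists_conj_flag h x.isCj l.isCj hx
    have hI : u ∈ IV (cj g V) (cj g Z) := by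
      rw [← h1, ← h2, ← inf_eq h hf l.isCj x.isCj hx y.isCj hy (fun e => hxy (Pt.ext e))]
      exact ⟨hu, hu'⟩
    have hx' : x.sg ≤ cj g V := by rw [← h2]; exact hx
    have hz' : z.sg ≤ cj g V := by rw [← h2]; exact hz
    obtain ⟨c, hc, -, hcu, hcx, -⟩ := (h.conj g).F2_swap (hf_conj hf g) (omQ_conj hO g) hI (by rwa [← h2])
      (isCj_cj.2 x.isCj) hx' (isCj_cj.2 z.isCj) hz'
    refine ⟨c, hcu, Pt.ext ?_, Pt.ext hcx⟩
    show cj c l.sg = l.sg
    rw [h2, cj_eq_iff]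
    exact (h.conj g).XV_le_N hc

/-! ### Critical pairs -/

open Cfsg.Agent.Omega.NoFF.Lines (W_le line_le)

/-- the product of the lines on `Z` -/
theorem W_eq (hV : NoFF.Basic.V Z P = V) : NoFF.Lines.W Z (normalizer (Z : Set G)) {P} = ws V Z := by
  apply le_antisymm
  · refine W_le fun Q hQ c hc => ?_
    rw [Set.mem_singleton_iff.1 hQ, hV]
    refine le_ws ⟨c, rfl⟩ ?_
    have h1 : cj c Z = Z := cj_eq_iff.2 hc
    nth_rewrite 1 [← h1]
    exact cj_le_cj.2 h.ZV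
  · refine ws_le fun L hL hZL => ?_
    obtain ⟨g, h1, rfl⟩ := exists_conj_flag h h.isCj_self hL hZL
    have h2 := line_le (Z := Z) (C := normalizer (Z : Set G)) (F := {P}) (Set.mem_singleton P)
      (c := g) (cj_eq_iff.1 h1.symm)
    rwa [hV] at h2

omit [Finite G] h in
theorem smul_base_eq {a b : G} : a • Pt.base Z = b • Pt.base Z ↔ a⁻¹ * b ∈ normalizer (Z : Set G) := by
  rw [← Pt.sg_inj]
  show cj a Z = cj b Z ↔ _
  rw [← cj_eq_iff, ← cj_cj]
  constructor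
  · intro e
    rw [← e, cj_cj, inv_mul_cancel, cj_one]
  · intro e
    have h1 := congrArg (cj a) e
    rw [cj_cj, mul_inv_cancel, cj_one] at h1
    exact h1.symm

theorem walk_of_path {k : ℕ} {a b : G} (hp : NoFF.Lines.Path (normalizer (Z : Set G)) {P} k a b) :
    Walk (inc (Z := Z) (V := V)) k (a • Pt.base Z) (b • Pt.base Z) := by
  induction hp with
  | @zero g c hc =>
    have h1 : (g * c) • Pt.base Z = g • Pt.base Z := by
      rw [smul_base_eq, mul_inv_rev, inv_mul_cancel_right]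
      exact inv_mem hc
    rw [h1]
    exact .zero _
  | @step k g x p c Q _ hQ hp hc ih =>
    rw [Set.mem_singleton_iff.1 hQ] at hp
    have h1 : (x * p * c) • Pt.base Z = (x * p) • Pt.base Z := by
      rw [smul_base_eq, mul_inv_rev, inv_mul_cancel_right]
      exact inv_mem hc
    rw [h1]
    refine ih.step (l := x • Pt.base V) ?_ ?_
    · show cj x Z ≤ cj x V
      exact cj_le_cj.2 h.ZV
    · show cj (x * p) Z ≤ cj x V
      rw [← cj_cj, cj_le_cj]
      exact h.pt_le hp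

theorem path_of_walk {k : ℕ} {x y : Pt Z} (hw : Walk (inc (Z := Z) (V := V)) k x y) :
    ∀ a b : G, x = a • Pt.base Z → y = b • Pt.base Z → NoFF.Lines.Path (normalizer (Z : Set G)) {P} k a b := by
  induction hw with
  | zero x =>
    intro a b ha hb
    have h1 := smul_base_eq.1 (ha.symm.trans hb)
    have h2 := NoFF.Lines.Path.zero (F := {P}) a h1
    rwa [mul_inv_cancel_left] at h2
  | @step k x y z l _ hy hz ih =>
    intro a b ha hb
    obtain ⟨g, h1, h2⟩ := exists_conj_flag h y.isCj l.isCj hy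
    have h3 := ih a g ha (Pt.ext h1)
    have hz' : z.sg ≤ cj g V := by rw [← h2]; exact hz
    obtain ⟨p, hp, hzp⟩ := h.exists_pt (z.isCj.cj g⁻¹) (by rw [cj_le_iff, inv_inv]; exact hz')
    have h4 : z = (g * p) • Pt.base Z := by
      refine Pt.ext ?_
      show z.sg = cj (g * p) Z
      rw [← cj_cj, ← hzp, cj_cj, mul_inv_cancel, cj_one]
    have h5 := smul_base_eq.1 (h4.symm.trans hb)
    have h6 := h3.step (Set.mem_singleton P) hp h5
    rwa [mul_inv_cancel_left] at h6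

theorem com_iff (hV : NoFF.Basic.V Z P = V) {a b : G} :
    NoFF.Lines.Com Z (normalizer (Z : Set G)) {P} a b ↔
      Com (fun x : Pt Z => ws V x.sg) (a • Pt.base Z) (b • Pt.base Z) := by
  unfold NoFF.Lines.Com
  rw [W_eq h hV]
  have h1 : ∀ g : G, (MulAut.conj g • ws V Z : Subgroup G) = ws V (g • Pt.base Z).sg := fun g => by
    rw [Pt.sg_smul, ws_cj]; rfl
  rw [h1, h1]
  constructor
  · intro h2 u hu v hv
    exact (mem_centralizer_iff.1 (h2 hu) v hv).symm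
  · intro h2 u hu
    exact mem_centralizer_iff.2 fun v hv => (h2 u hu v hv).symm

/-- **Critical pairs.** -/
theorem crit (hV : NoFF.Basic.V Z P = V) {n : ℕ} {a b : G}
    (hc : NoFF.Lines.Crit Z (normalizer (Z : Set G)) {P} n a b) :
    Crit (inc (Z := Z) (V := V)) (fun x : Pt Z => ws V x.sg) n (a • Pt.base Z) (b • Pt.base Z) where
  walk := walk_of_path h hc.path
  ne := fun h1 => hc.ne ((com_iff h hV).2 h1)
  min := by
    intro k hk x y hw
    obtain ⟨a', rfl⟩ := x.exists_smul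
    obtain ⟨b', rfl⟩ := y.exists_smul
    exact (com_iff h hV).1 (hc.min k hk _ _ (path_of_walk h hw a' b' rfl rfl))

end

end Cfsg.Agent.Omega.NO3S.PtGeom

end

section


/-!
# Points and lines of NO-3S without (F1): (T1)

`Geo` : the part of `NOThree.Pts.Geom` which does not use (F1), (F2); `Geo.low`, `Geo.low_line` : (T1);
`geo` : the instance from `PL S P V Z`; `geo_crit` : critical pairs.
-/

set_option autoImplicit false
set_option linter.unusedSectionVars false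
set_option linter.unusedVariables false

namespace Cfsg.Agent.Omega.NO3S.FarQ.FOneGeo

open Subgroup Cfsg Cfsg.Agent.ZN Cfsg.Agent.MinSimple.VModule
open Cfsg.Agent.Omega.NOThree.Pts (Walk Com Crit mem_normalizer_of_conj conj_mem_of_le_normalizer cg)

variable {G X L : Type*} [Group G] [MulAction G X] [MulAction G L]

/-- points and lines, without (F1) and (F2) -/
structure Geo (inc : X → L → Prop) (R W : X → Subgroup G) (V : L → Subgroup G) : Prop where
  inc_smul : ∀ (g : G) (x : X) (l : L), inc x l → inc (g • x) (g • l)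
  R_smul : ∀ (g : G) (x : X), ∀ a ∈ R x, g * a * g⁻¹ ∈ R (g • x)
  W_smul : ∀ (g : G) (x : X), ∀ a ∈ W x, g * a * g⁻¹ ∈ W (g • x)
  V_smul : ∀ (g : G) (l : L), ∀ a ∈ V l, g * a * g⁻¹ ∈ V (g • l)
  exists_ne : ∀ x, ∃ a ∈ R x, a ≠ 1
  ti : ∀ x y, ∀ a ∈ R x, a ∈ R y → a ≠ 1 → x = y
  R_le : ∀ x l, inc x l → R x ≤ V l
  V_le : ∀ x l, inc x l → V l ≤ W x
  exists_line : ∀ x, ∃ l, inc x l
  comm : ∀ x, ∀ a ∈ W x, ∀ b ∈ W x, a * b = b * a
  sq : ∀ x, ∀ a ∈ W x, a * a = 1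

variable {inc : X → L → Prop} {R W : X → Subgroup G} {V : L → Subgroup G} {n : ℕ}

namespace Geo

variable (D : Geo inc R W V)
include D

theorem R_le_W (x : X) : R x ≤ W x := by
  obtain ⟨l, hl⟩ := D.exists_line x
  exact (D.R_le x l hl).trans (D.V_le x l hl)

theorem R_smul_iff (g : G) {x : X} {a : G} : a ∈ R (g • x) ↔ g⁻¹ * a * g ∈ R x := by
  constructor
  · intro h
    have := D.R_smul g⁻¹ _ a h
    rwa [inv_smul_smul, inv_inv] at this
  · intro h
    have := D.R_smul g _ _ h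
    have e : g * (g⁻¹ * a * g) * g⁻¹ = a := by group
    rwa [e] at this

/-- An element commuting with `1 ≠ a ∈ R x` fixes `x`. -/
theorem fix {x : X} {a g : G} (ha : a ∈ R x) (ha1 : a ≠ 1) (hg : g * a = a * g) : g • x = x := by
  refine D.ti _ _ a ?_ ha ha1
  rw [D.R_smul_iff]
  have e : g⁻¹ * a * g = a := by
    rw [mul_assoc, ← hg]; group
  rwa [e]

theorem fix_of_centralizes {x : X} {g : G} (hg : ∀ a ∈ R x, g * a = a * g) : g • x = x := by
  obtain ⟨a, ha, ha1⟩ := D.exists_ne x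
  exact D.fix ha ha1 (hg a ha)

theorem norm_W {x : X} {g : G} (hg : g • x = x) {a : G} (ha : a ∈ W x) : g * a * g⁻¹ ∈ W x := by
  have := D.W_smul g x a ha
  rwa [hg] at this

theorem norm_R {x : X} {g : G} (hg : g • x = x) {a : G} (ha : a ∈ R x) : g * a * g⁻¹ ∈ R x := by
  have := D.R_smul g x a ha
  rwa [hg] at this

theorem W_fix {x : X} {g : G} (hg : g ∈ W x) : g • x = x :=
  D.fix_of_centralizes fun a ha => D.comm x g hg a (D.R_le_W x ha)

theorem W_isPGroup (x : X) : IsPGroup 2 (W x) := by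
  intro a
  exact ⟨1, Subtype.ext (by
    have := D.sq x a a.2
    rw [pow_one, pow_two]
    exact this)⟩

theorem W_le_stab (x : X) : W x ≤ MulAction.stabilizer G x := fun _ ha => D.W_fix ha

theorem W_le_o2 (x : X) : W x ≤ o2 (MulAction.stabilizer G x) :=
  le_o2 (D.W_le_stab x) (D.W_isPGroup x) (mem_normalizer_of_conj fun _ hg _ ha => D.norm_W hg ha)

theorem cent_V_le {x : X} {l : L} (hx : inc x l) : centralizer (V l : Set G) ≤ MulAction.stabilizer G x :=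
  fun _ hg => D.fix_of_centralizes fun a ha => (mem_centralizer_iff.1 hg a (D.R_le x l hx ha)).symm

theorem cent_W_le (x : X) : centralizer (W x : Set G) ≤ MulAction.stabilizer G x :=
  fun _ hg => D.fix_of_centralizes fun a ha => (mem_centralizer_iff.1 hg a (D.R_le_W x ha)).symm

/-- A subgroup of `O₂(G_x)` centralising `V_l`, `l` on `x`, lies in `O₂(C_G(V_l))`. -/
theorem le_o2_cent {x : X} {l : L} (hx : inc x l) {A : Subgroup G} (hA : A ≤ o2 (MulAction.stabilizer G x))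
    (hA' : A ≤ centralizer (V l : Set G)) : A ≤ o2 (centralizer (V l : Set G)) := by
  have h1 : centralizer (V l : Set G) ≤
      normalizer ((o2 (MulAction.stabilizer G x) ⊓ centralizer (V l : Set G) : Subgroup G) : Set G) := by
    refine mem_normalizer_of_conj fun g hg a ha => ⟨?_, ?_⟩
    · exact conj_mem_of_le_normalizer (le_normalizer_o2 _) (D.cent_V_le hx hg) ha.1
    · exact Subgroup.mul_mem _ (Subgroup.mul_mem _ hg ha.2) (Subgroup.inv_mem _ hg)
  exact (le_inf hA hA').trans (le_o2 inf_le_right ((o2_isPGroup _).to_le inf_le_left) h1)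

/-- A subgroup of `O₂(C_G(V_l))` centralising `W_x`, `l` on `x`, lies in `O₂(G_x)`. -/
theorem le_o2_stab {x : X} {l : L} (hx : inc x l) {A : Subgroup G} (hA : A ≤ o2 (centralizer (V l : Set G)))
    (hA' : A ≤ centralizer (W x : Set G)) : A ≤ o2 (MulAction.stabilizer G x) := by
  have hWV : centralizer (W x : Set G) ≤ centralizer (V l : Set G) := centralizer_le (D.V_le x l hx)
  have h1 : centralizer (W x : Set G) ≤
      normalizer ((o2 (centralizer (V l : Set G)) ⊓ centralizer (W x : Set G) : Subgroup G) : Set G) := by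
    refine mem_normalizer_of_conj fun g hg a ha => ⟨?_, ?_⟩
    · exact conj_mem_of_le_normalizer (le_normalizer_o2 _) (hWV hg) ha.1
    · exact Subgroup.mul_mem _ (Subgroup.mul_mem _ hg ha.2) (Subgroup.inv_mem _ hg)
  have h2 : A ≤ o2 (centralizer (W x : Set G)) :=
    (le_inf hA hA').trans (le_o2 inf_le_right ((o2_isPGroup _).to_le inf_le_left) h1)
  refine h2.trans (le_o2 ((o2_le _).trans (D.cent_W_le x)) (o2_isPGroup _) ?_)
  refine le_trans ?_ (Omega.normalizer_le_normalizer_o2' _)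
  refine mem_normalizer_of_conj fun g hg a ha => ?_
  rw [mem_centralizer_iff] at ha ⊢
  intro w hw
  have hw' : g⁻¹ * w * g ∈ W x := by
    have := D.norm_W (g := g⁻¹) (by
      have hg' : g • x = x := hg
      rw [inv_smul_eq_iff, hg']) hw
    rwa [inv_inv] at this
  have h3 := cg g (ha _ hw')
  have e1 : g * (g⁻¹ * w * g * a) * g⁻¹ = w * (g * a * g⁻¹) := by group
  have e2 : g * (a * (g⁻¹ * w * g)) * g⁻¹ = g * a * g⁻¹ * w := by group
  rwa [e1, e2] at h3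

theorem le_cent_of_com {x y : X} (h : Com W x y) : W x ≤ centralizer (W y : Set G) := fun a ha =>
  mem_centralizer_iff.2 fun b hb => (h a ha b hb).symm

/-- **(T1)** `W_x ≤ O₂(G_y)` if `x`, `y` are at distance `≤ n` and `W_x`, `W_y` commute. -/
theorem low (hmin : ∀ k < n, ∀ a b, Walk inc k a b → Com W a b) {k : ℕ} {x y : X} (h : Walk inc k x y)
    (hk : k ≤ n) (hc : Com W x y) : W x ≤ o2 (MulAction.stabilizer G y) := by
  induction h with
  | zero x => exact D.W_le_o2 x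
  | @step k x y z l h hy hz ih =>
    have hc' : Com W x y := hmin k (by omega) _ _ h
    have h1 := ih (by omega) hc'
    have h2 := D.le_o2_cent hy h1 ((D.le_cent_of_com hc').trans (centralizer_le (D.V_le y l hy)))
    exact D.le_o2_stab hz h2 (D.le_cent_of_com hc)

/-- `W_x ≤ O₂(C_G(V_l))`, `l` on `y`. -/
theorem low_line (hmin : ∀ k < n, ∀ a b, Walk inc k a b → Com W a b) {k : ℕ} {x y : X} (h : Walk inc k x y)
    (hk : k ≤ n) (hc : Com W x y) {l : L} (hl : inc y l) : W x ≤ o2 (centralizer (V l : Set G)) :=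
  D.le_o2_cent hl (D.low hmin h hk hc) ((D.le_cent_of_com hc).trans (centralizer_le (D.V_le y l hl)))

end Geo

/-! ### The instance -/

section instance_

open Cfsg.Agent.Omega.NO3S.PT Cfsg.Agent.Omega.NO3S.PtGeom
open scoped Pointwise

variable {G : Type*} [Group G] [Finite G] {S : Sylow 2 G} {P V Z : Subgroup G} (h : PL S P V Z)
include h

theorem geo : Geo (X := Pt Z) (L := Pt V) PtGeom.inc (fun x => x.sg) (fun x => ws V x.sg) (fun l => l.sg) where
  inc_smul g x l hxl := cj_le_cj.2 hxl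
  R_smul g x a ha := conj_mem_cj ha
  W_smul g x a ha := by
    rw [Pt.sg_smul, ws_cj]
    exact conj_mem_cj ha
  V_smul g l a ha := conj_mem_cj ha
  exists_ne x := h.pt_ne_bot x.isCj
  ti x y a ha ha' h1 := Pt.ext (h.pts_eq x.isCj y.isCj ha ha' h1)
  R_le x l hxl := hxl
  V_le x l hxl := le_ws l.isCj hxl
  exists_line x := by
    obtain ⟨g, hg⟩ := x.exists_smul
    refine ⟨Pt.mk ⟨g, rfl⟩, ?_⟩
    show x.sg ≤ cj g V
    rw [hg]
    exact cj_le_cj.2 h.ZV
  comm x a ha b hb := (mem_centralizer_iff.1 (h.ws_comm x.isCj ha) b hb).symm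
  sq x := ws_sq_pt h x.isCj

end instance_

end Cfsg.Agent.Omega.NO3S.FarQ.FOneGeo

end

section


/-!
# LEMMA (M+) of NO-3S, `n ≥ 3`, all `s` (helper626 #17440)

In case (β) of LEMMA (M) not only `[W_x, W_q] ≤ W_r` but the whole of `[W_p, W_q]` lies in `W_r`:

* `MDat.plus` : `[W_p, W_q] ≤ W_r` (`NoOver` for the group `W_x W_p`);
* `HasOne` : hypothesis (D) for ONE pair `(x, f)` for every critical pair `(p, q)`;
* `exists_typeI_of_one` : (N'), a critical pair of type I with `[W_p, W_q] ≤ I_l` exists;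
* `MDat.alternative` : the alternative for one critical pair.
-/

set_option autoImplicit false

namespace Cfsg.Agent.Omega.NOThree.LemmaMPlus

open Subgroup Cfsg Cfsg.Agent.ZN Cfsg.Agent.MinSimple.VModule Cfsg.Agent.Omega.NOThree.Pts
open Cfsg.Agent.Omega.NOThree.LemmaM

variable {G X L : Type*} [Group G] [MulAction G X] [MulAction G L]
variable {inc : X → L → Prop} {R W : X → Subgroup G} {V : L → Subgroup G} {s t n : ℕ}

/-- The product of two commuting subgroups. -/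
def pr (A B : Subgroup G) (h : ∀ a ∈ A, ∀ b ∈ B, a * b = b * a) : Subgroup G where
  carrier := {g | ∃ a ∈ A, ∃ b ∈ B, g = a * b}
  one_mem' := ⟨1, one_mem _, 1, one_mem _, by simp⟩
  mul_mem' := by
    rintro _ _ ⟨a, ha, b, hb, rfl⟩ ⟨a', ha', b', hb', rfl⟩
    refine ⟨a * a', mul_mem ha ha', b * b', mul_mem hb hb', ?_⟩
    have h1 := h a' ha' b hb
    calc a * b * (a' * b') = a * (b * a') * b' := by group
      _ = a * (a' * b) * b' := by rw [h1]
      _ = a * a' * (b * b') := by group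
  inv_mem' := by
    rintro _ ⟨a, ha, b, hb, rfl⟩
    refine ⟨a⁻¹, inv_mem ha, b⁻¹, inv_mem hb, ?_⟩
    rw [h a⁻¹ (inv_mem ha) b⁻¹ (inv_mem hb), mul_inv_rev]

theorem mem_pr {A B : Subgroup G} {h : ∀ a ∈ A, ∀ b ∈ B, a * b = b * a} {g : G} :
    g ∈ pr A B h ↔ ∃ a ∈ A, ∃ b ∈ B, g = a * b := Iff.rfl

theorem le_pr_left {A B : Subgroup G} {h : ∀ a ∈ A, ∀ b ∈ B, a * b = b * a} : A ≤ pr A B h :=
  fun a ha => mem_pr.2 ⟨a, ha, 1, one_mem _, (mul_one a).symm⟩

theorem le_pr_right {A B : Subgroup G} {h : ∀ a ∈ A, ∀ b ∈ B, a * b = b * a} : B ≤ pr A B h :=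
  fun b hb => mem_pr.2 ⟨1, one_mem _, b, hb, (one_mul b).symm⟩

section MD

variable {p q r x : X} {l m : L} {f : G} (h : MDat inc R W V s t n p q r x l m f)
include h

theorem com_xp : Com W x p := h.crit.min 1 (by have := h.three; omega) _ _ (Walk.one h.xm h.pm)

/-- `W_p` and `W_{x^g}` commute, `g ∈ W_q`. -/
theorem com_p {g : G} (hg : g ∈ W q) : Com W p (g • x) := by
  have h1 : Walk inc 1 p (g • x) := by
    have h2 := h.D.inc_smul g _ _ h.pm
    rw [h.fix_p hg] at h2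
    exact Walk.one h2 (h.D.inc_smul g _ _ h.xm)
  exact h.crit.min 1 (by have := h.three; omega) _ _ h1

theorem com_pr : Com W p r := h.crit.com_last (by have := h.three; omega) h.walk

variable (hc : Com W x r)
include hc

/-- **LEMMA (M+)**: in case (β) the whole of `[W_p, W_q]` lies in `W_r`. -/
theorem plus [Finite G] (hNO : NoOver inc R W V) : ∀ a ∈ W p, ∀ u ∈ W q, a * u * a⁻¹ * u⁻¹ ∈ W r := by
  have h3 := h.three
  have hxp : Com W x p := com_xp h
  have hpr : Com W p r := com_pr h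
  set A : Subgroup G := pr (W x) (W p) hxp with hA
  have hxA : W x ≤ A := le_pr_left
  have hpA : W p ≤ A := le_pr_right
  -- `A` commutes with `W_r`
  have hAr : ∀ a ∈ A, ∀ c ∈ W r, a * c = c * a := by
    intro a ha c hcc
    obtain ⟨w, hw, w', hw', rfl⟩ := mem_pr.1 ha
    rw [mul_assoc, hpr w' hw' c hcc, ← mul_assoc, hc w hw c hcc, mul_assoc]
  have hAR : ∀ a ∈ A, ∀ c ∈ R q, a * c = c * a := fun a ha c hcc => hAr a ha c (h.R_le_r hcc)
  have hqR : ∀ a ∈ W q, ∀ c ∈ R q, a * c = c * a := fun a ha c hcc => h.D.comm q a ha c (h.D.R_le_W q hcc)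
  have hqp : ∀ a ∈ A, a • q = q := fun a ha => h.D.fix_of_centralizes fun b hb => hAR a ha b hb
  -- `A ≤ O₂(C_G(V_l))`
  have hA2 : A ≤ o2 (centralizer (V l : Set G)) := by
    intro a ha
    obtain ⟨w, hw, w', hw', rfl⟩ := mem_pr.1 ha
    exact mul_mem (h.D.low_line h.crit.min h.walk' le_rfl hc h.rl hw)
      (h.D.low_line h.crit.min h.walk (by omega) hpr h.rl hw')
  have hAc : ∀ a ∈ A, ∀ b ∈ A, a * b = b * a := by
    intro a ha b hb
    obtain ⟨w, hw, w', hw', rfl⟩ := mem_pr.1 ha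
    obtain ⟨v, hv, v', hv', rfl⟩ := mem_pr.1 hb
    have e1 := h.D.comm x w hw v hv
    have e2 := h.D.comm p w' hw' v' hv'
    have e3 := hxp v hv w' hw'
    have e4 := hxp w hw v' hv'
    calc w * w' * (v * v') = w * (w' * v) * v' := by group
      _ = w * (v * w') * v' := by rw [e3]
      _ = (w * v) * (w' * v') := by group
      _ = (v * w) * (v' * w') := by rw [e1, e2]
      _ = v * (w * v') * w' := by group
      _ = v * (v' * w) * w' := by rw [e4]
      _ = v * v' * (w * w') := by group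
  have hAs : ∀ a ∈ A, a * a = 1 := by
    intro a ha
    obtain ⟨w, hw, w', hw', rfl⟩ := mem_pr.1 ha
    have e := hxp w hw w' hw'
    calc w * w' * (w * w') = w * (w' * w) * w' := by group
      _ = w * (w * w') * w' := by rw [e]
      _ = (w * w) * (w' * w') := by group
      _ = 1 := by rw [h.D.sq x w hw, h.D.sq p w' hw', one_mul]
  -- quadratic
  have hquad : ∀ a ∈ A, ∀ b ∈ A, ∀ u ∈ W q, b * (a * u * a⁻¹ * u⁻¹) = (a * u * a⁻¹ * u⁻¹) * b := by
    intro a ha b hb u hu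
    obtain ⟨w, hw, w', hw', rfl⟩ := mem_pr.1 ha
    obtain ⟨v, hv, v', hv', rfl⟩ := mem_pr.1 hb
    have hpu : u • p = p := h.fix_p hu
    have m1 : u * w⁻¹ * u⁻¹ ∈ W (u • x) := h.D.W_smul u x _ (inv_mem hw)
    have m2 : u * w'⁻¹ * u⁻¹ ∈ W p := h.D.norm_W hpu (inv_mem hw')
    have m3 : w' * (u * w'⁻¹ * u⁻¹) ∈ W p := mul_mem hw' m2
    -- `[ww', u] = [w', u] w (u w⁻¹ u⁻¹)`
    have e : w * w' * u * (w * w')⁻¹ * u⁻¹ =
        (w' * (u * w'⁻¹ * u⁻¹)) * (w * (u * w⁻¹ * u⁻¹)) := by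
      have e1 := hxp w hw _ m3
      calc w * w' * u * (w * w')⁻¹ * u⁻¹ = w * (w' * (u * w'⁻¹ * u⁻¹)) * (u * w⁻¹ * u⁻¹) := by group
        _ = (w' * (u * w'⁻¹ * u⁻¹)) * w * (u * w⁻¹ * u⁻¹) := by rw [e1]
        _ = _ := by group
    rw [e]
    have c1 : v * (w' * (u * w'⁻¹ * u⁻¹)) = (w' * (u * w'⁻¹ * u⁻¹)) * v := hxp v hv _ m3
    have c2 : v' * (w' * (u * w'⁻¹ * u⁻¹)) = (w' * (u * w'⁻¹ * u⁻¹)) * v' := h.D.comm p v' hv' _ m3
    have c3 : v * w = w * v := h.D.comm x v hv w hw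
    have c4 : v' * w = w * v' := (hxp w hw v' hv').symm
    have c5 : v * (u * w⁻¹ * u⁻¹) = (u * w⁻¹ * u⁻¹) * v := h.com_x hu v hv _ m1
    have c6 : v' * (u * w⁻¹ * u⁻¹) = (u * w⁻¹ * u⁻¹) * v' := com_p h hu v' hv' _ m1
    have d1 : Commute v (w' * (u * w'⁻¹ * u⁻¹)) := c1
    have d2 : Commute v' (w' * (u * w'⁻¹ * u⁻¹)) := c2
    have d3 : Commute v w := c3
    have d4 : Commute v' w := c4
    have d5 : Commute v (u * w⁻¹ * u⁻¹) := c5
    have d6 : Commute v' (u * w⁻¹ * u⁻¹) := c6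
    exact ((d1.mul_left d2).mul_right ((d3.mul_left d4).mul_right (d5.mul_left d6))).eq
  -- the groups
  set N := cm A (W q) (R q) hAR with hN
  have hrq : r ≠ q := h.crit.ne_last (by omega) h.walk
  have hC : ∀ u, u ∈ cm (W q) A (R q) hqR ↔ u ∈ W q ∧ ∀ a ∈ A, a * u * a⁻¹ * u⁻¹ ∈ R q := by
    intro u
    rw [mem_cm]
    refine and_congr_right fun hu => forall₂_congr fun a ha => ?_
    have e : a * u * a⁻¹ * u⁻¹ = (u * a * u⁻¹ * a⁻¹)⁻¹ := by group
    rw [e, inv_mem_iff]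
  set C := cm (W q) A (R q) hqR with hCdef
  have hle : W q ⊓ W r ≤ C := by
    intro u hu
    rw [hC]
    refine ⟨hu.1, fun a ha => ?_⟩
    have e : a * u * a⁻¹ * u⁻¹ = 1 := by rw [hAr a ha u hu.2]; group
    rw [e]; exact one_mem _
  have h4 : N.relIndex A ≤ C.relIndex (W q) := by
    refine hNO q l h.ql A hA2 hAc hAs ?_ hquad N C (fun a => mem_cm) hC
    intro y hy hyq a ha u hu huy
    exact hAr a ha u (h.D.inf_le h.ql hy h.rl hyq.symm ⟨hu, huy⟩)
  have h5 : C.relIndex (W q) ≤ t := by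
    rw [← h.D.index q r l h.ql h.rl hrq.symm]
    exact relIndex_le_of_le_left hle (relIndex_ne_zero' _ _)
  have h6 : t ≤ N.relIndex (W x) := by
    rw [← inf_relIndex_right]
    refine h.t_le hc (N ⊓ W x) fun a => ?_
    rw [mem_inf, hN, mem_cm]
    exact ⟨fun h => ⟨h.2, h.1.2⟩, fun h => ⟨⟨hxA h.1, h.2⟩, h.1⟩⟩
  -- `N' = {a ∈ A : [a, W_q] ≤ W_r}`
  set N' := cm A (W q) (W r) hAr with hN'
  have hNN' : N ≤ N' := fun a ha => mem_cm.2 ⟨(mem_cm.1 ha).1, fun u hu => h.R_le_r ((mem_cm.1 ha).2 u hu)⟩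
  have hxN' : W x ≤ N' := fun a ha => mem_cm.2 ⟨hxA ha, fun u hu => (h.beta hc hNO).2.2 a ha u hu⟩
  have h7 : N.relIndex (W x) ≤ N.relIndex N' := relIndex_le_of_le_right hxN' (relIndex_ne_zero' _ _)
  have h8 : N.relIndex N' * N'.relIndex A = N.relIndex A :=
    relIndex_mul_relIndex _ _ _ hNN' fun a ha => (mem_cm.1 ha).1
  have h9 : N'.relIndex A = 1 := by
    have h10 := relIndex_ne_zero' N N'
    have h11 := relIndex_ne_zero' N' A
    have h12 : N.relIndex N' * N'.relIndex A ≤ N.relIndex N' * 1 := by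
      rw [h8, mul_one]; omega
    have h13 := Nat.le_of_mul_le_mul_left h12 (Nat.pos_of_ne_zero h10)
    omega
  have h10 : A ≤ N' := relIndex_eq_one.1 h9
  exact fun a ha u hu => (mem_cm.1 (h10 (hpA ha))).2 u hu

end MD

/-- **The alternative for one critical pair**: either `(x, r)` is a critical pair of type I with
`[W_x, W_r] ≤ W_x ∩ W_p`, or `p ∉ W_q` and `[W_p, W_q] ≤ W_q ∩ W_r`. -/
theorem alternative [Finite G] {p q r x : X} {l m : L} {f : G} (h : MDat inc R W V s t n p q r x l m f)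
    (hNO : NoOver inc R W V) :
    TypeI inc R W n x p r m ∨ ((∀ u ∈ R p, u ∈ W q → u = 1) ∧
      ∀ a ∈ W p, ∀ u ∈ W q, a * u * a⁻¹ * u⁻¹ ∈ W q ⊓ W r) := by
  have h3 := h.three
  by_cases hc : Com W x r
  · right
    refine ⟨(h.beta hc hNO).2.1, fun a ha u hu => mem_inf.2 ⟨?_, plus h hc hNO a ha u hu⟩⟩
    exact mul_mem (h.D.norm_W (h.crit.fix h.D (by omega) ha) hu) (inv_mem hu)
  · left
    obtain ⟨h1, h2, h3, h4⟩ := h.alpha hc
    exact ⟨h1, h.xm, h.pm, h.ne.symm, h.walk, h2, h3, h4⟩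

/-- Hypothesis (D) for one pair: for every critical pair `(p, q)` there are ONE `x ∼ p` and `f ∈ W_q` which moves
`x`, with `W_x ∩ W_{x^f} ≤ W_p`. -/
def HasOne (inc : X → L → Prop) (W : X → Subgroup G) (n : ℕ) : Prop :=
  ∀ (p q : X), Crit inc W n p q → ∃ (x : X) (m : L) (f : G), inc x m ∧ inc p m ∧ f ∈ W q ∧ f • x ≠ x ∧
    ∀ a ∈ W x, a ∈ W (f • x) → a ∈ W p

/-- **(N')** -/
theorem exists_typeI_of_one [Finite G] (D : Geom inc R W V s t) (hn : 3 ≤ n) (hNO : NoOver inc R W V)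
    (hD : HasOne inc W n) {p q : X} (hcr : Crit inc W n p q) :
    ∃ p x q l, TypeI inc R W n p x q l := by
  by_contra hcon
  have key : ∀ p q r l, Crit inc W n p q → Walk inc (n - 1) p r → inc r l → inc q l →
      (∀ u ∈ R p, u ∈ W q → u = 1) ∧ ∀ a ∈ W p, ∀ b ∈ W q, a * b * a⁻¹ * b⁻¹ ∈ W q ⊓ W r := by
    intro p q r l hc hr hrl hql
    obtain ⟨x, m, f, hx, hm, hf, hfx, hlow⟩ := hD p q hc
    have hM : MDat inc R W V s t n p q r x l m f := ⟨D, hn, hc, hr, hrl, hql, hx, hm, hf, hfx, hlow⟩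
    rcases alternative hM hNO with h | h
    · exact (hcon ⟨_, _, _, _, h⟩).elim
    · exact h
  obtain ⟨r, l, hr, hrl, hql⟩ := hcr.last (by omega)
  obtain ⟨r', l', hr', hrl', hql'⟩ := hcr.symm.last (by omega)
  obtain ⟨h1, h2⟩ := key p q r l hcr hr hrl hql
  obtain ⟨h3, -⟩ := key q p r' l' hcr.symm hr' hrl' hql'
  refine hcon ⟨q, r, p, l, hcr.symm, hql, hrl, hcr.ne_last (by omega) hr, hr.symm, h3, h1,
    fun a ha b hb => ?_⟩
  have h4 := h2 b hb a ha
  have e : a * b * a⁻¹ * b⁻¹ = (b * a * b⁻¹ * a⁻¹)⁻¹ := by group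
  rw [e]
  exact inv_mem h4

end Cfsg.Agent.Omega.NOThree.LemmaMPlus

end
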